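import Groth.Agent.Lib.CurveBundle.LocFree

/-!
# Finite locally free modules are coherent and torsion-free; local bases
-/

set_option autoImplicit false
universe u

open CategoryTheory Limits AlgebraicGeometry Opposite TopologicalSpace

namespace Groth.Agent.Lib.CurveBundle.Coherent

open Groth.Agent.Lib

variable {X : Scheme.{u}} {M : X.Modules}

/-- The structure module is quasi-coherent. -/
theorem isQCoh_unit (X : Scheme.{u}) : (Coh.structureModule X).IsQuasicoherent := by
  refine QCoh.Localizing.isQCoh_of_forall_exists_localizes fun x => ?_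
  obtain ⟨U, hU, hx, -⟩ := exists_isAffineOpen_mem_and_subset (U := (⊤ : X.Opens)) (Set.mem_univ x)
  refine ⟨U, hU, hx, (QCoh.Localizing.isQCoh_restrict_fromSpec_iff hU).mp ?_⟩
  have : (Coh.structureModule (Spec Γ(X, U))).IsQuasicoherent :=
    isQuasicoherent_iff_isIso_fromTildeΓ _ |>.mpr inferInstance
  exact CohBasics.Closure.isQCoh_of_iso (Scheme.Modules.restrictUnitIso hU.fromSpec).symm

/-- Finite free modules are quasi-coherent. -/
theorem isQCoh_freeMod (X : Scheme.{u}) (n : ℕ) : (FlatMod.freeMod X n).IsQuasicoherent :=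
  QCoh.Closure.isQCoh_of_isColimit (coproductIsCoproduct fun _ : Fin n => Coh.structureModule X)
    fun _ => isQCoh_unit X

/-- Finite locally free modules are quasi-coherent. -/
theorem isQCoh (h : FlatMod.IsFinLocFree M) : M.IsQuasicoherent := by
  refine QCoh.Localizing.isQCoh_of_forall_exists_localizes fun x => ?_
  obtain ⟨U, n, hx, ⟨i⟩⟩ := h x
  obtain ⟨V, hV, hxV, hVU⟩ := exists_isAffineOpen_mem_and_subset hx
  obtain ⟨j⟩ := TensorMod.LocFree.exists_restrict_iso_freeMod hVU i
  refine ⟨V, hV, hxV, (QCoh.Localizing.isQCoh_restrict_fromSpec_iff hV).mp ?_⟩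
  have : (FlatMod.freeMod (Spec Γ(X, V)) n).IsQuasicoherent := isQCoh_freeMod _ n
  exact CohBasics.Closure.isQCoh_of_iso ((TensorMod.LocFree.restrictFreeModIso hV.isoSpec.inv n).symm ≪≫
    (Scheme.Modules.restrictFunctor hV.isoSpec.inv).mapIso j.symm ≪≫
    ((Scheme.Modules.restrictFunctorComp hV.isoSpec.inv V.ι).app M).symm ≪≫
    (Scheme.Modules.restrictFunctorCongr (show hV.isoSpec.inv ≫ V.ι = hV.fromSpec from rfl)).app M)

/-- A trivialization gives sections whose germs are bases. -/
lemma exists_basis_sections {U : X.Opens} {n : ℕ} (i : M.restrict U.ι ≅ FlatMod.freeMod (↑U) n) :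
    ∃ s : Fin n → Γ(M, U), ∀ (y : X) (hy : y ∈ U),
      LinearIndependent (X.presheaf.stalk y) (fun j => M.presheaf.germ U y hy (s j)) ∧
      Submodule.span (X.presheaf.stalk y)
        (Set.range fun j => M.presheaf.germ U y hy (s j)) = ⊤ := by
  let t : Fin n → Γ(M, U.ι ''ᵁ ⊤) := fun j => i.inv.app ⊤ (Modules.Free.gen (↑U) j)
  refine ⟨fun j => M.presheaf.map (eqToHom U.ι_image_top.symm).op (t j), ?_⟩
  suffices key : ∀ y : (U : Scheme.{u}),
      LinearIndependent (X.presheaf.stalk (U.ι y)) (fun j => M.presheaf.germ U (U.ι y) y.2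
        (M.presheaf.map (eqToHom U.ι_image_top.symm).op (t j))) ∧
      Submodule.span (X.presheaf.stalk (U.ι y)) (Set.range fun j => M.presheaf.germ U (U.ι y) y.2
        (M.presheaf.map (eqToHom U.ι_image_top.symm).op (t j))) = ⊤ from
    fun y hy => key ⟨y, hy⟩
  intro y
  let e := Modules.StalkRestrict.restrictStalkAddEquiv U.ι M y
  have hg : ∀ j, e ((M.restrict U.ι).presheaf.germ ⊤ y trivial (t j)) =
      M.presheaf.germ U (U.ι y) y.2 (M.presheaf.map (eqToHom U.ι_image_top.symm).op (t j)) :=
    fun j => (Modules.StalkRestrict.restrictStalkAddEquiv_germ U.ι M (U := ⊤) trivial (t j)).trans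
      (TopCat.Presheaf.germ_res_apply M.presheaf (eqToHom U.ι_image_top.symm) _ y.2 (t j)).symm
  let b := (Modules.FreeStalk.stalkBasis (U : Scheme.{u}) n y).map
    (Modules.StalkModule.stalkLinearEquiv i.symm y)
  have hb : ∀ j, b j = (M.restrict U.ι).presheaf.germ ⊤ y trivial (t j) := fun j => by
    rw [Module.Basis.map_apply, Modules.FreeStalk.stalkBasis_apply]
    exact Modules.StalkModule.stalkMapₗ_germ i.inv (U := ⊤) trivial _
  constructor
  · rw [Fintype.linearIndependent_iff]
    intro a ha
    have h1 : ∑ j, U.ι.stalkMap y (a j) • b j = 0 := by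
      apply e.injective
      rw [map_sum, map_zero]
      refine Eq.trans (Finset.sum_congr rfl fun j _ => ?_) ha
      rw [hb, Modules.StalkRestrict.restrictStalkAddEquiv_smul, hg]
    intro j
    apply (ConcreteCategory.bijective_of_isIso (U.ι.stalkMap y)).injective
    rw [Fintype.linearIndependent_iff.mp b.linearIndependent _ h1 j, map_zero]
  · refine SetLike.coe_injective ?_
    have h2 := Modules.StalkRestrict.span_image_restrictStalkAddEquiv U.ι M y (Set.range b)
    rw [b.span_eq, Submodule.top_coe,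
      Set.image_univ_of_surjective (Modules.StalkRestrict.restrictStalkAddEquiv U.ι M y).surjective] at h2
    rw [Submodule.top_coe]
    refine Eq.trans ?_ h2
    rw [← Set.range_comp]
    have hset : (Modules.StalkRestrict.restrictStalkAddEquiv U.ι M y ∘ b) = fun j =>
        M.presheaf.germ U (U.ι y) y.2 (M.presheaf.map (eqToHom U.ι_image_top.symm).op (t j)) :=
      funext fun j => by
        rw [Function.comp_apply, hb]
        exact hg j
    rw [hset]

/-- Finite locally free modules are of finite type. -/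
theorem isCoh (h : FlatMod.IsFinLocFree M) : Coh.IsCoh M := by
  have := isQCoh h
  refine ⟨this, CohBasics.Affine.isFiniteType_of_finite_sections fun x => ?_⟩
  obtain ⟨U, n, hx, ⟨i⟩⟩ := h x
  obtain ⟨V, hV, hxV, hVU⟩ := exists_isAffineOpen_mem_and_subset hx
  obtain ⟨s, hs⟩ := exists_basis_sections i
  refine ⟨V, hV, hxV, ⟨⟨(Set.finite_range fun j => M.presheaf.map (homOfLE hVU).op (s j)).toFinset, ?_⟩⟩⟩
  rw [Set.Finite.coe_toFinset]
  refine CohBasics.Affine.span_eq_top_of_germ hV _ fun y hy => ?_
  rw [← Set.range_comp]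
  refine Eq.trans (congrArg _ (congrArg Set.range (funext fun j => ?_))) (hs y (hVU hy)).2
  exact TopCat.Presheaf.germ_res_apply M.presheaf (homOfLE hVU) y hy (s j)

/-- Stalks of a module locally free of rank `n` are free of rank `n`. -/
theorem exists_basis_stalk {n : ℕ} (h : FlatMod.IsFinLocFreeOfRank n M) (x : X) :
    Nonempty (Module.Basis (Fin n) (X.presheaf.stalk x) (M.presheaf.stalk x)) := by
  obtain ⟨U, hx, ⟨i⟩⟩ := h x
  obtain ⟨s, hs⟩ := exists_basis_sections i
  exact ⟨Module.Basis.mk (hs x hx).1 (hs x hx).2.ge⟩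

/-- Finite locally free modules are torsion-free. -/
theorem isTorsionFree (h : FlatMod.IsFinLocFree M) : TorSh.IsTorsionFree M := fun x => by
  obtain ⟨U, n, hx, ⟨i⟩⟩ := h x
  obtain ⟨s, hs⟩ := exists_basis_sections i
  let b := Module.Basis.mk (hs x hx).1 (hs x hx).2.ge
  exact b.repr.injective.moduleIsTorsionFree _ fun c v => map_smul _ c v

end Groth.Agent.Lib.CurveBundle.Coherent
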