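import Groth.Agent.Lib.CurveBundle.Rank
import Groth.Agent.H93.RatFun
import Groth.Agent.Lib.QCoh.Pushforward
import Mathlib.CategoryTheory.Preadditive.Biproducts
import Mathlib.AlgebraicGeometry.Morphisms.QuasiSeparated

/-!
# Torsion-free quotients and saturation
-/

set_option autoImplicit false
universe u

open CategoryTheory Limits AlgebraicGeometry Opposite TopologicalSpace

namespace Groth.Agent.Lib.CurveBundle.Saturation

open Groth.Agent.Lib Groth.Agent.H93

variable {X : Scheme.{u}} [IsIntegral X]

/-- The sheaf of rational functions is quasi-coherent. -/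
theorem isQCoh_R : (RatFun.R X).IsQuasicoherent := by
  have : QuasiCompact (X.fromSpecStalk (genericPoint X)) := by
    refine ⟨fun U hU _ => ?_⟩
    by_cases h : genericPoint X ∈ U
    · rw [show (X.fromSpecStalk (genericPoint X)) ⁻¹' U =
        ((X.fromSpecStalk (genericPoint X)) ⁻¹ᵁ ⟨U, hU⟩ : Set _) from rfl,
        RatFun.preimage_eq_top (U := ⟨U, hU⟩) h]
      exact isCompact_univ
    · rw [show (X.fromSpecStalk (genericPoint X)) ⁻¹' U =
        ((X.fromSpecStalk (genericPoint X)) ⁻¹ᵁ ⟨U, hU⟩ : Set _) from rfl,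
        RatFun.preimage_eq_bot (U := ⟨U, hU⟩) h]
      exact isCompact_empty
  have : QuasiSeparated (X.fromSpecStalk (genericPoint X)) := by
    have : QuasiSeparated (X.fromSpecStalk (genericPoint X) ≫ terminal.from X) := by
      rw [Subsingleton.elim (X.fromSpecStalk (genericPoint X) ≫ terminal.from X) (terminal.from _),
        ← quasiSeparatedSpace_iff_quasiSeparated]
      infer_instance
    exact QuasiSeparated.of_comp _ (terminal.from X)
  have := Coherent.isQCoh_unit (Spec (X.presheaf.stalk (genericPoint X)))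
  exact QCoh.Pushforward.isQCoh_pushforward _

/-- Constant rational functions have injective germs. -/
lemma germ_cR_eq_zero {U : X.Opens} (hU : genericPoint X ∈ U) (a : X.presheaf.stalk (genericPoint X))
    (h : (RatFun.R X).presheaf.germ U _ hU (RatFun.cR U a) = 0) : a = 0 := by
  obtain ⟨W, hW, i₁, i₂, e⟩ := TopCat.Presheaf.germ_eq _ _ hU hU _ 0 (h.trans (map_zero _).symm)
  rw [map_zero, RatFun.map_cR] at e
  exact (RatFun.const_bijective hW).1 (e.trans (map_zero (RatFun.const W)).symm)

lemma stalk_toR_eq_zero {F : X.Modules}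
    (φ : F.presheaf.stalk (genericPoint X) →ₗ[X.presheaf.stalk (genericPoint X)]
      X.presheaf.stalk (genericPoint X))
    (z : F.presheaf.stalk (genericPoint X))
    (h : Modules.StalkModule.stalkMapₗ (RatFun.toR φ) _ z = 0) : φ z = 0 := by
  obtain ⟨U, hU, t, rfl⟩ := TopCat.Presheaf.exists_germ_eq F.presheaf z
  rw [Modules.StalkModule.stalkMapₗ_germ] at h
  have e : (RatFun.toR φ).app U t = RatFun.cR U (φ (F.presheaf.germ U _ hU t)) :=
    RatFun.sect_eq φ hU t
  rw [e] at h
  exact germ_cR_eq_zero hU _ h

/-- Every coherent module maps onto a torsion-free coherent module, isomorphically at the generic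
point. -/
theorem exists_torsionFree_quotient [IsLocallyNoetherian X] (Q : X.Modules) (hQ : Coh.IsCoh Q) :
    ∃ (T : X.Modules) (q : Q ⟶ T), Epi q ∧ Coh.IsCoh T ∧ TorSh.IsTorsionFree T ∧
      Function.Injective (Modules.StalkModule.stalkMapₗ q (genericPoint X)) := by
  let _ : Field (X.presheaf.stalk (genericPoint X)) := inferInstanceAs (Field X.functionField)
  have := Rank.finite_generic hQ
  have := hQ.1
  let b := Module.finBasis (X.presheaf.stalk (genericPoint X)) (Q.presheaf.stalk (genericPoint X))
  have : HasFiniteBiproducts X.Modules := HasFiniteBiproducts.of_hasFiniteProducts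
  let fam : Fin (Module.finrank (X.presheaf.stalk (genericPoint X))
      (Q.presheaf.stalk (genericPoint X))) → X.Modules := fun _ => RatFun.R X
  let v : Q ⟶ ⨁ fam := biproduct.lift fun j => RatFun.toR (b.coord j)
  have hP : (⨁ fam).IsQuasicoherent :=
    QCoh.Closure.isQCoh_of_isColimit (biproduct.isColimit fam) fun _ => isQCoh_R
  have hTP : TorSh.IsTorsionFree (⨁ fam) := fun x => by
    refine ⟨fun a ha => ?_⟩
    rw [isSMulRegular_iff_right_eq_zero_of_smul]
    intro z hz
    let Φ : ((⨁ fam) ⟶ (⨁ fam)) →+ (⨁ fam).presheaf.stalk x :=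
      { toFun := fun φ => Modules.StalkModule.stalkMapₗ φ x z
        map_zero' := by simp [Modules.StalkModule.stalkMapₗ_zero]
        map_add' := fun φ ψ => by simp [Modules.StalkModule.stalkMapₗ_add] }
    have hid := congrArg Φ (biproduct.total (f := fam))
    rw [map_sum] at hid
    have h1 : Φ (𝟙 _) = z := by simp [Φ, Modules.StalkModule.stalkMapₗ_id]
    rw [← h1, ← hid]
    refine Finset.sum_eq_zero fun j _ => ?_
    have := RatFun.isTorsionFree_R (X := X) x
    have hπ : Modules.StalkModule.stalkMapₗ (biproduct.π fam j) x z = 0 :=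
      (ha.smul_eq_zero_iff_right (M := (RatFun.R X).presheaf.stalk x)).mp
        ((map_smul (Modules.StalkModule.stalkMapₗ (biproduct.π fam j) x) a z).symm.trans
          (by rw [hz, map_zero]))
    show Modules.StalkModule.stalkMapₗ (biproduct.π fam j ≫ biproduct.ι fam j) x z = 0
    rw [Modules.StalkModule.stalkMapₗ_comp, LinearMap.comp_apply, hπ, map_zero]
  refine ⟨Abelian.coimage v, Abelian.coimage.π v, inferInstance, ?_, ?_, ?_⟩
  · exact CohBasics.Closure.isCoh_cokernel _ (CohBasics.Closure.isCoh_kernel v hQ hP).1 hQ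
  · exact Rank.isTorsionFree_of_mono (Abelian.factorThruCoimage v) hTP
  · refine (injective_iff_map_eq_zero _).mpr fun z hz => ?_
    refine b.repr.injective (Finsupp.ext fun j => ?_)
    rw [map_zero, Finsupp.zero_apply]
    refine stalk_toR_eq_zero (b.coord j) z ?_
    have h1 : Abelian.coimage.π v ≫ Abelian.factorThruCoimage v ≫ biproduct.π fam j =
        RatFun.toR (b.coord j) := by
      rw [← Category.assoc, Abelian.coimage.fac, biproduct.lift_π]
    rw [← h1, Modules.StalkModule.stalkMapₗ_comp, LinearMap.comp_apply, hz, map_zero]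

/-- Saturation of a subsheaf. -/
theorem exists_saturation [IsLocallyNoetherian X] {G E : X.Modules} (i : G ⟶ E) [Mono i]
    (hG : Coh.IsCoh G) (hE : Coh.IsCoh E) :
    ∃ (G' : X.Modules) (j : G' ⟶ E) (a : G ⟶ G'), Mono j ∧ Mono a ∧ a ≫ j = i ∧ Coh.IsCoh G' ∧
      Rank.grank G' = Rank.grank G ∧ TorSh.IsTorsionFree (cokernel j) ∧
      Coh.IsCoh (cokernel j) := by
  have hQ := CohBasics.Closure.isCoh_cokernel i hG.1 hE
  obtain ⟨T, q, hq, hT, hTT, hinj⟩ := exists_torsionFree_quotient (cokernel i) hQ
  let w := cokernel.π i ≫ q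
  have hw : i ≫ w = 0 := by rw [← Category.assoc, cokernel.condition, zero_comp]
  have : Epi w := epi_comp _ _
  have hK : Coh.IsCoh (kernel w) := CohBasics.Closure.isCoh_kernel w hE hT.1
  have h₂ : (ShortComplex.mk (kernel.ι w) w (kernel.condition w)).ShortExact :=
    { exact := ShortComplex.exact_kernel w }
  let e : cokernel (kernel.ι w) ≅ T :=
    (cokernelIsCokernel (kernel.ι w)).coconePointUniqueUpToIso h₂.gIsCokernel
  have : Mono (kernel.lift w i hw) := mono_of_mono_fac (kernel.lift_ι w i hw)
  have hc := CohBasics.Closure.isCoh_cokernel (kernel.ι w) hK.1 hE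
  refine ⟨kernel w, kernel.ι w, kernel.lift w i hw, inferInstance, inferInstance, kernel.lift_ι _ _ _,
    hK, ?_, ?_, hc⟩
  · have h₁ : (ShortComplex.mk i (cokernel.π i) (cokernel.condition i)).ShortExact :=
      { exact := ShortComplex.exact_cokernel i }
    have e₁ := Rank.grank_add h₁ hE
    have e₂ := Rank.grank_add h₂ hE
    dsimp only at e₁ e₂
    have e₃ : Rank.grank (cokernel i) = Rank.grank T := by
      refine (LinearEquiv.ofBijective (Modules.StalkModule.stalkMapₗ q _) ⟨hinj, ?_⟩).finrank_eq
      exact (Modules.StalkModule.epi_iff_stalkMapₗ_surjective q).mp hq _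
    omega
  · exact Rank.isTorsionFree_of_mono e.hom hTT

end Groth.Agent.Lib.CurveBundle.Saturation
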