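import Groth.Agent.Lib.CurveBundle.Rank
import Groth.Agent.Lib.CurveBundle.Saturation
import Groth.Agent.Lib.Curves.Positivity
import Groth.Agent.Lib.Curves.GlobalSections
import Groth.Prelude.Def_CurvBase

/-!
# Degrees of coherent sheaves on a curve

`CurveCtx k X` collects what the theory of degree needs: an integral Noetherian scheme of dimension
at most one whose local rings are principal and whose coherent sheaves have finite cohomology.
-/

set_option autoImplicit false
universe u

open CategoryTheory Limits AlgebraicGeometry TopologicalSpace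

namespace Groth.Agent.Lib.CurveBundle.Degree

open Groth.Agent.Lib

/-- The hypotheses of the theory of degree. -/
class CurveCtx (k : Type u) [Field k] (X : Scheme.{u}) [X.Over (Spec (CommRingCat.of k))] : Prop where
  integral : IsIntegral X
  locNoeth : IsLocallyNoetherian X
  noethSpace : NoetherianSpace X
  dim_le : topologicalKrullDim X ≤ 1
  pid : ∀ x : X, IsPrincipalIdealRing (X.presheaf.stalk x)
  good : ∀ F : X.Modules, Coh.IsCoh F → Curves.Euler.IsGood k X F

variable (k : Type u) [Field k] {X : Scheme.{u}} [X.Over (Spec (CommRingCat.of k))]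

/-- Smooth proper integral curves over algebraically closed fields, given finiteness. -/
theorem curveCtx [IsAlgClosed k] [IsIntegral X] [IsProper (X ↘ Spec (CommRingCat.of k))]
    [Smooth (X ↘ Spec (CommRingCat.of k))] (hdim : topologicalKrullDim X = 1)
    (hgood : ∀ F : X.Modules, Coh.IsCoh F → Curves.Euler.IsGood k X F) : CurveCtx k X where
  integral := inferInstance
  locNoeth := LocallyOfFiniteType.isLocallyNoetherian (X ↘ Spec (CommRingCat.of k))
  noethSpace := Curves.GlobalSections.noetherianSpace_of_proper k X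
  dim_le := hdim.le
  pid := Rank.isPrincipal_stalk k hdim
  good := hgood

variable [hC : CurveCtx k X]

include hC

/-- Euler characteristic is additive on coherent sheaves. -/
theorem euler_add {S : ShortComplex X.Modules} (hS : S.ShortExact) (h₁ : Coh.IsCoh S.X₁)
    (h₂ : Coh.IsCoh S.X₂) (h₃ : Coh.IsCoh S.X₃) :
    Curv2.euler k X S.X₂ = Curv2.euler k X S.X₁ + Curv2.euler k X S.X₃ :=
  Curves.Euler.euler_add hS (hC.good _ h₁) (hC.good _ h₂) (hC.good _ h₃)

/-- Torsion sheaves: zero generic stalk. -/
theorem isTorsion {Q : X.Modules}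
    (h : letI := hC.integral; Subsingleton (Q.presheaf.stalk (genericPoint X))) :
    letI := hC.noethSpace; Curves.Positivity.IsTorsion Q := by
  let _ := hC.integral
  intro x hx
  rw [Curves.Positivity.eq_genericPoint_of_isGenPt hx]
  exact h

theorem euler_nonneg {Q : X.Modules}
    (h : letI := hC.integral; Subsingleton (Q.presheaf.stalk (genericPoint X))) :
    0 ≤ Curv2.euler k X Q := by
  have := hC.noethSpace
  rw [(isTorsion k h).euler hC.dim_le]
  positivity

theorem isZero_of_euler_eq_zero {Q : X.Modules} (hQ : Coh.IsCoh Q)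
    (h : letI := hC.integral; Subsingleton (Q.presheaf.stalk (genericPoint X)))
    (h0 : Curv2.euler k X Q = 0) : IsZero Q := by
  have := hC.noethSpace
  have := (isTorsion k h).flasque hC.dim_le
  have := (hC.good Q hQ).fin₀
  rw [(isTorsion k h).euler hC.dim_le] at h0
  exact Curves.Positivity.isZero_of_flasque (Module.finrank_zero_iff.mp (by exact_mod_cast h0))

/-- The degree of a coherent sheaf, with its generic rank. -/
noncomputable def dg (M : X.Modules) : ℤ :=
  Curv2.euler k X M -
    (@Rank.grank X hC.integral M : ℤ) * Curv2.euler k X (Coh.structureModule X)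

/-- The generic rank. -/
noncomputable def gr (M : X.Modules) : ℕ := @Rank.grank X hC.integral M

lemma dg_eq_deg {M : X.Modules} {n : ℕ} (h : FlatMod.IsFinLocFreeOfRank n M) :
    dg k M = Curv2.deg k X M n := by
  let _ := hC.integral
  rw [dg, Rank.grank_eq_of_rank h]
  rfl

lemma gr_eq {M : X.Modules} {n : ℕ} (h : FlatMod.IsFinLocFreeOfRank n M) : gr k M = n :=
  let _ := hC.integral
  Rank.grank_eq_of_rank h

/-- Torsion-free coherent sheaves are bundles. -/
lemma rank_gr {M : X.Modules} (hM : Coh.IsCoh M) (hT : TorSh.IsTorsionFree M) :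
    FlatMod.IsFinLocFreeOfRank (gr k M) M :=
  let _ := hC.integral
  LocFree.isFinLocFreeOfRank hC.pid hM hT

lemma gr_add {S : ShortComplex X.Modules} (hS : S.ShortExact) (h₂ : Coh.IsCoh S.X₂) :
    gr k S.X₂ = gr k S.X₁ + gr k S.X₃ :=
  let _ := hC.integral
  Rank.grank_add hS h₂

lemma dg_add {S : ShortComplex X.Modules} (hS : S.ShortExact) (h₁ : Coh.IsCoh S.X₁)
    (h₂ : Coh.IsCoh S.X₂) (h₃ : Coh.IsCoh S.X₃) : dg k S.X₂ = dg k S.X₁ + dg k S.X₃ := by
  let _ := hC.integral
  simp only [dg, euler_add k hS h₁ h₂ h₃, Rank.grank_add hS h₂]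
  push_cast
  ring

lemma gr_congr {M N : X.Modules} (e : M ≅ N) : gr k M = gr k N :=
  let _ := hC.integral
  Rank.grank_congr e

lemma dg_congr {M N : X.Modules} (e : M ≅ N) : dg k M = dg k N := by
  let _ := hC.integral
  rw [dg, dg, Curves.Euler.euler_eq_of_iso e, Rank.grank_congr e]

lemma gr_le_of_mono {M N : X.Modules} (i : M ⟶ N) [Mono i] (hN : Coh.IsCoh N) : gr k M ≤ gr k N :=
  let _ := hC.integral
  Rank.grank_le_of_mono i hN

/-- A torsion-free coherent sheaf of generic rank zero is zero. -/
lemma isZero_of_gr {M : X.Modules} (hM : Coh.IsCoh M) (hT : TorSh.IsTorsionFree M) (h : gr k M = 0) :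
    IsZero M :=
  let _ := hC.integral
  Rank.isZero_of_grank_eq_zero hM hT h

lemma dg_nonneg_of_gr_zero {M : X.Modules} (hM : Coh.IsCoh M) (h : gr k M = 0) : 0 ≤ dg k M := by
  let _ := hC.integral
  have h0 : Rank.grank M = 0 := h
  rw [dg, h0, Nat.cast_zero, zero_mul, sub_zero]
  exact euler_nonneg k (Rank.subsingleton_of_grank_eq_zero hM h0)

lemma isZero_of_gr_dg {M : X.Modules} (hM : Coh.IsCoh M) (h : gr k M = 0) (hd : dg k M = 0) :
    IsZero M := by
  let _ := hC.integral
  have h0 : Rank.grank M = 0 := h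
  rw [dg, h0, Nat.cast_zero, zero_mul, sub_zero] at hd
  exact isZero_of_euler_eq_zero k hM (Rank.subsingleton_of_grank_eq_zero hM h0) hd

lemma gr_of_isZero {M : X.Modules} (h : IsZero M) : gr k M = 0 := by
  let _ := hC.integral
  let _ : Field (X.presheaf.stalk (genericPoint X)) := inferInstanceAs (Field X.functionField)
  have := (Modules.Stalk.isZero_iff_stalk_subsingleton).mp h (genericPoint X)
  exact Module.finrank_zero_of_subsingleton

lemma dg_of_isZero {M : X.Modules} (h : IsZero M) (hM : Coh.IsCoh M) : dg k M = 0 := by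
  let S : ShortComplex X.Modules := ShortComplex.mk (𝟙 M) (0 : M ⟶ M) (by simp)
  have hS : S.ShortExact :=
    { exact := ShortComplex.exact_of_isZero_X₂ _ h
      mono_f := inferInstanceAs (Mono (𝟙 M))
      epi_g := ⟨fun a b _ => h.eq_of_src a b⟩ }
  have e := dg_add k hS hM hM hM
  dsimp [S] at e
  omega

/-- The short exact sequence of a monomorphism. -/
lemma cokernel_ses {M N : X.Modules} (i : M ⟶ N) [Mono i] (hM : Coh.IsCoh M) (hN : Coh.IsCoh N) :
    Coh.IsCoh (cokernel i) ∧ gr k N = gr k M + gr k (cokernel i) ∧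
      dg k N = dg k M + dg k (cokernel i) := by
  have h : (ShortComplex.mk i (cokernel.π i) (cokernel.condition i)).ShortExact :=
    { exact := ShortComplex.exact_cokernel i }
  have hc := CohBasics.Closure.isCoh_cokernel i hM.1 hN
  have e1 := gr_add k h hN
  have e2 := dg_add k h hM hN hc
  dsimp only at e1 e2
  exact ⟨hc, e1, e2⟩

/-- The short exact sequence of an epimorphism. -/
lemma kernel_ses {M N : X.Modules} (p : M ⟶ N) [Epi p] (hM : Coh.IsCoh M) (hN : Coh.IsCoh N) :
    Coh.IsCoh (kernel p) ∧ gr k M = gr k (kernel p) + gr k N ∧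
      dg k M = dg k (kernel p) + dg k N := by
  have := hC.locNoeth
  have h : (ShortComplex.mk (kernel.ι p) p (kernel.condition p)).ShortExact :=
    { exact := ShortComplex.exact_kernel p }
  have hk := CohBasics.Closure.isCoh_kernel p hM hN.1
  have e1 := gr_add k h hM
  have e2 := dg_add k h hk hM hN
  dsimp only at e1 e2
  exact ⟨hk, e1, e2⟩

/-- Degree is monotone along monomorphisms of equal rank. -/
theorem dg_le_of_mono {M N : X.Modules} (i : M ⟶ N) [Mono i] (hM : Coh.IsCoh M) (hN : Coh.IsCoh N)
    (h : gr k M = gr k N) : dg k M ≤ dg k N := by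
  obtain ⟨hc, hg, hd⟩ := cokernel_ses k i hM hN
  linarith [dg_nonneg_of_gr_zero k hc (by omega)]

/-- A monomorphism of equal rank and degree is an isomorphism. -/
theorem isIso_of_mono {M N : X.Modules} (i : M ⟶ N) [Mono i] (hM : Coh.IsCoh M) (hN : Coh.IsCoh N)
    (h : gr k M = gr k N) (hd' : dg k M = dg k N) : IsIso i := by
  obtain ⟨hc, hg, hd⟩ := cokernel_ses k i hM hN
  have hz := isZero_of_gr_dg k hc (by omega) (by linarith)
  have : Epi i := Abelian.epi_of_cokernel_π_eq_zero i (hz.eq_of_tgt _ _)
  exact isIso_of_mono_of_epi i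

/-- The image factorization of a morphism of coherent sheaves. -/
theorem exists_image {M N : X.Modules} (f : M ⟶ N) (hM : Coh.IsCoh M) (hN : Coh.IsCoh N) :
    ∃ (I : X.Modules) (p : M ⟶ I) (j : I ⟶ N), Epi p ∧ Mono j ∧ p ≫ j = f ∧ Coh.IsCoh I ∧
      Coh.IsCoh (kernel f) ∧ gr k M = gr k (kernel f) + gr k I ∧
        dg k M = dg k (kernel f) + dg k I := by
  have := hC.locNoeth
  have hk := CohBasics.Closure.isCoh_kernel f hM hN.1
  obtain ⟨hI, hg, hd⟩ := cokernel_ses k (kernel.ι f) hk hM
  exact ⟨Abelian.coimage f, Abelian.coimage.π f, Abelian.factorThruCoimage f, inferInstance,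
    inferInstance, Abelian.coimage.fac f, hI, hk, hg, hd⟩

/-- `f = 0` if its image has rank zero, for a torsion-free target. -/
lemma eq_zero_of_image {M N I : X.Modules} {f : M ⟶ N} (p : M ⟶ I) (j : I ⟶ N) [Mono j]
    (hf : p ≫ j = f) (hI : Coh.IsCoh I) (hT : TorSh.IsTorsionFree N) (h : gr k I = 0) : f = 0 := by
  let _ := hC.integral
  rw [← hf, (isZero_of_gr k hI (Rank.isTorsionFree_of_mono j hT) h).eq_of_tgt p 0, zero_comp]

/-- Degrees of coherent subsheaves are bounded above. -/
theorem exists_bound {E : X.Modules} (hE : Coh.IsCoh E) :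
    ∃ N : ℤ, ∀ (G : X.Modules) (i : G ⟶ E), Mono i → Coh.IsCoh G → dg k G ≤ N := by
  refine ⟨(Curves.Euler.hdim k X E 0 : ℤ) + gr k E * |Curv2.euler k X (Coh.structureModule X)|,
    fun G i _ hG => ?_⟩
  have := (hC.good E hE).fin₀
  have h1 : Curv2.euler k X G ≤ (Curves.Euler.hdim k X E 0 : ℤ) := by
    rw [(hC.good G hG).euler]
    have : (Curves.Euler.hdim k X G 0 : ℤ) ≤ Curves.Euler.hdim k X E 0 := by
      exact_mod_cast Curves.Euler.hdim_zero_le_of_mono i
    linarith [Int.natCast_nonneg (Curves.Euler.hdim k X G 1)]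
  have h2 : (gr k G : ℤ) ≤ gr k E := by exact_mod_cast gr_le_of_mono k i hE
  show Curv2.euler k X G - (gr k G : ℤ) * _ ≤ _
  nlinarith [neg_abs_le (Curv2.euler k X (Coh.structureModule X)),
    abs_nonneg (Curv2.euler k X (Coh.structureModule X)), Int.natCast_nonneg (gr k G)]

end Groth.Agent.Lib.CurveBundle.Degree
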