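import Groth.Agent.H34.SmoothCurveAlg
import Groth.Agent.Lib.CurveBundle.Degree
import Groth.Agent.Lib.Dim.Local
import Groth.Agent.Lib.FinCond.Components
import Mathlib.AlgebraicGeometry.Geometrically.Connected
import Mathlib.RingTheory.Ideal.GoingDown
import Mathlib.RingTheory.Unramified.Field

/-!
# Smooth curves over an arbitrary field

A smooth scheme of dimension at most one over a field has domains with principal ideals as local
rings; if it is connected it is integral.
-/

set_option autoImplicit false
universe u

open CategoryTheory Limits AlgebraicGeometry TopologicalSpace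

namespace Groth.Agent.Lib.CurveBundle.SmoothField

open Groth.Agent.Lib IsLocalRing

/-- Maximal ideals of a smooth algebra of relative dimension `n` have height at least `n`. -/
theorem le_height (k : Type u) [Field k] {C : Type u} [CommRing C] [Algebra k C] (n : ℕ)
    [Algebra.IsStandardSmoothOfRelativeDimension n k C] (q : Ideal C) [q.IsMaximal] :
    (n : ℕ∞) ≤ q.height := by
  have : Algebra.IsStandardSmooth k C :=
    Algebra.IsStandardSmoothOfRelativeDimension.isStandardSmooth n
  have : IsNoetherianRing C := Algebra.FiniteType.isNoetherianRing k C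
  obtain ⟨g, hg⟩ :=
    Algebra.IsStandardSmoothOfRelativeDimension.exists_etale_mvPolynomial (n := n) k C
  let P := MvPolynomial (Fin n) k
  algebraize [g.toRingHom]
  have : IsScalarTower k P C := IsScalarTower.of_algebraMap_eq fun x => (g.commutes x).symm
  have : Algebra.Etale P C := hg
  let _ : Field (C ⧸ q) := Ideal.Quotient.field q
  have : Module.Finite k (C ⧸ q) := finite_of_finite_type_of_isJacobsonRing k (C ⧸ q)
  let p : Ideal P := q.comap (algebraMap P C)
  have : p.IsMaximal := by
    let φ : P ⧸ p →ₐ[k] C ⧸ q := Ideal.quotientMapₐ q (IsScalarTower.toAlgHom k P C) le_rfl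
    have hφ : Function.Injective φ := Ideal.quotientMap_injective' (H := le_rfl)
      (le_refl (q.comap (IsScalarTower.toAlgHom k P C).toRingHom))
    have : Module.Finite k (P ⧸ p) := Module.Finite.of_injective φ.toLinearMap hφ
    have : IsArtinianRing (P ⧸ p) := isArtinian_of_tower k inferInstance
    have : IsDomain (P ⧸ p) := Ideal.Quotient.isDomain p
    exact Ideal.Quotient.maximal_of_isField _ (IsArtinianRing.isField_of_isDomain _)
  have : q.LiesOver p := ⟨rfl⟩
  have hp : p.height = (n : ℕ∞) := by
    rw [Dim.Local.height_maximal k p]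
    have h := Dim.Basic.ringKrullDim_eq_trdegNat k P
    rw [Dim.Basic.ringKrullDim_mvPolynomial, Nat.card_fin] at h
    exact_mod_cast h.symm
  rw [← hp, Ideal.height_eq_height_add_of_liesOver_of_hasGoingDown p (P := q)]
  exact le_self_add

/-- A local ring of an étale algebra over a field is a field. -/
theorem isField (k : Type u) [Field k] {C B : Type u} [CommRing C] [CommRing B] [Algebra k C]
    [Algebra.Etale k C] (q : Ideal C) [q.IsMaximal] [Algebra C B] [IsLocalization.AtPrime B q] :
    IsField B := by
  let _ : Algebra k B := ((algebraMap C B).comp (algebraMap k C)).toAlgebra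
  have : IsScalarTower k C B := IsScalarTower.of_algebraMap_eq fun _ => rfl
  have : IsLocalRing B := IsLocalization.AtPrime.isLocalRing B q
  have : Algebra.EssFiniteType k B :=
    have := Algebra.EssFiniteType.of_isLocalization (S := B) q.primeCompl
    Algebra.EssFiniteType.comp k C B
  have : Algebra.FormallyUnramified k B :=
    have := Algebra.FormallyUnramified.of_isLocalization (Rₘ := B) q.primeCompl
    Algebra.FormallyUnramified.comp k C B
  have : Module.Finite k B := Algebra.FormallyUnramified.finite_of_free k B
  have : _root_.IsReduced B := Algebra.FormallyUnramified.isReduced_of_field k B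
  have : IsArtinianRing B := isArtinian_of_tower k inferInstance
  rw [IsLocalRing.isField_iff_maximalIdeal_eq, ← IsLocalRing.jacobson_eq_maximalIdeal _ bot_ne_top,
    IsArtinianRing.jacobson_eq_radical, ← Ideal.zero_eq_bot, ← nilradical, nilradical_eq_zero]

variable (k : Type u) [Field k] {X : Scheme.{u}} [X.Over (Spec (CommRingCat.of k))]
  [Smooth (X ↘ Spec (CommRingCat.of k))]

include k

/-- Closed points of smooth schemes of dimension at most one have principal domains as local
rings. -/
theorem closed_stalk (hdim : topologicalKrullDim X ≤ 1) {x : X} (hx : IsClosed ({x} : Set X)) :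
    IsDomain (X.presheaf.stalk x) ∧ IsPrincipalIdealRing (X.presheaf.stalk x) := by
  let c := X ↘ Spec (CommRingCat.of k)
  obtain ⟨U, hU, V, hV, hxV, e, hst⟩ := Smooth.exists_isStandardSmooth c x
  obtain rfl : U = ⊤ := by
    ext y
    simp only [Opens.coe_top, Set.mem_univ, iff_true, SetLike.mem_coe]
    rw [Subsingleton.elim y (c.base x)]
    exact e hxV
  let χ : CommRingCat.of k ⟶ Γ(X, V) := (Scheme.ΓSpecIso _).inv ≫ c.appLE ⊤ V e
  have hχ : χ.hom.IsStandardSmooth :=
    RingHom.isStandardSmooth_respectsIso.2 _
      (Scheme.ΓSpecIso (CommRingCat.of k)).commRingCatIsoToRingEquiv.symm hst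
  algebraize [χ.hom]
  let q := (hV.primeIdealOf ⟨x, hxV⟩).asIdeal
  have : q.IsMaximal := hV.primeIdealOf_isMaximal_of_isClosed ⟨x, hxV⟩ hx
  let _ : Algebra Γ(X, V) (X.presheaf.stalk x) :=
    TopCat.Presheaf.algebra_section_stalk X.presheaf ⟨x, hxV⟩
  have : IsLocalization.AtPrime (X.presheaf.stalk x) q := hV.isLocalization_stalk ⟨x, hxV⟩
  obtain ⟨ι, σ, _, _, ⟨P⟩⟩ := Algebra.IsStandardSmooth.out (R := k) (S := Γ(X, V))
  have hn : Algebra.IsStandardSmoothOfRelativeDimension P.dimension k Γ(X, V) :=
    ⟨⟨ι, σ, ‹_›, ‹_›, P, rfl⟩⟩
  have hle : P.dimension ≤ 1 := by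
    have h1 := le_height k (C := Γ(X, V)) P.dimension q
    have h2 := IsLocalization.AtPrime.ringKrullDim_eq_height q (X.presheaf.stalk x)
    rw [ringKrullDim_stalk_eq_coheight] at h2
    have h3 := (SmoothCurve.Stalk.coheight_le_topologicalKrullDim x).trans hdim
    rw [h2] at h3
    have h4 : (P.dimension : ℕ∞) ≤ 1 := h1.trans (WithBot.coe_le_coe.mp h3)
    exact_mod_cast h4
  rcases Nat.le_one_iff_eq_zero_or_eq_one.mp hle with h | h <;> rw [h] at hn
  · let _ := (isField k (C := Γ(X, V)) (B := X.presheaf.stalk x) q).toField
    exact ⟨inferInstance, inferInstance⟩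
  · let _ : Algebra k (X.presheaf.stalk x) :=
      ((algebraMap Γ(X, V) (X.presheaf.stalk x)).comp (algebraMap k Γ(X, V))).toAlgebra
    have : IsScalarTower k Γ(X, V) (X.presheaf.stalk x) := IsScalarTower.of_algebraMap_eq fun _ => rfl
    obtain ⟨hdom, hdvr⟩ := H34.SmoothCurveAlg.exists_isDiscreteValuationRing k (C := Γ(X, V))
      (B := X.presheaf.stalk x) q
    exact ⟨hdom, inferInstance⟩

variable [IsProper (X ↘ Spec (CommRingCat.of k))]

/-- A connected smooth proper curve is integral. -/
theorem isIntegral [ConnectedSpace X] (hdim : topologicalKrullDim X ≤ 1) : IsIntegral X := by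
  have : IsLocallyNoetherian X :=
    LocallyOfFiniteType.isLocallyNoetherian (X ↘ Spec (CommRingCat.of k))
  have : CompactSpace X := QuasiCompact.compactSpace_of_compactSpace (X ↘ Spec (CommRingCat.of k))
  refine (FinCond.isIntegral_iff X).mpr ⟨inferInstance, fun y => ?_⟩
  obtain ⟨x, hxy, hx⟩ := (isClosed_closure (s := ({y} : Set X))).exists_closed_singleton
    ⟨y, subset_closure rfl⟩
  have := (closed_stalk k hdim hx).1
  obtain ⟨U, hxU, hU⟩ := FinCond.exists_integral_nhd X x
  have hyU : y ∈ U := (specializes_iff_mem_closure.mpr hxy).mem_open U.2 hxU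
  have : IsDomain ((U : Scheme.{u}).presheaf.stalk ⟨y, hyU⟩) := inferInstance
  exact (U.stalkIso ⟨y, hyU⟩).symm.commRingCatIsoToRingEquiv.toMulEquiv.isDomain _

omit [IsProper (X ↘ Spec (CommRingCat.of k))] in
/-- The local rings of a connected smooth proper curve are principal. -/
theorem isPrincipal_stalk [IsIntegral X] (hdim : topologicalKrullDim X = 1) (x : X) :
    IsPrincipalIdealRing (X.presheaf.stalk x) := by
  by_cases hx : x = genericPoint X
  · subst hx
    let _ : Field (X.presheaf.stalk (genericPoint X)) := inferInstanceAs (Field X.functionField)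
    infer_instance
  · exact (closed_stalk k hdim.le
      ((SmoothCurve.Curve.eq_genericPoint_or_isClosed hdim x).resolve_left hx)).2

/-- The context of a smooth proper geometrically connected curve over a field. -/
theorem curveCtx [GeometricallyConnected (X ↘ Spec (CommRingCat.of k))]
    (hdim : topologicalKrullDim X = 1)
    (hgood : ∀ F : X.Modules, Coh.IsCoh F → Curves.Euler.IsGood k X F) :
    Degree.CurveCtx k X := by
  have : Nonempty (Spec (CommRingCat.of k)) := inferInstanceAs (Nonempty (PrimeSpectrum k))
  have : Subsingleton (Spec (CommRingCat.of k)) := inferInstanceAs (Subsingleton (PrimeSpectrum k))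
  have : ConnectedSpace X :=
    GeometricallyConnected.connectedSpace_of_subsingleton (X ↘ Spec (CommRingCat.of k))
  have hi := isIntegral k hdim.le
  exact
    { integral := hi
      locNoeth := LocallyOfFiniteType.isLocallyNoetherian (X ↘ Spec (CommRingCat.of k))
      noethSpace := Curves.GlobalSections.noetherianSpace_of_proper k X
      dim_le := hdim.le
      pid := isPrincipal_stalk k hdim
      good := hgood }

end Groth.Agent.Lib.CurveBundle.SmoothField
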