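import Groth.Prelude.Def_TorSh
import Groth.Agent.Lib.CohBasics.Closure
import Groth.Agent.Lib.Modules.FreeStalk
import Groth.Agent.Lib.QCoh.Stalk
import Groth.Agent.Lib.TensorMod.LocFree
import Mathlib.AlgebraicGeometry.FunctionField
import Mathlib.LinearAlgebra.FreeModule.PID
import Mathlib.LinearAlgebra.Dimension.Constructions

/-!
# Coherent modules with free stalks on an integral scheme

A quasi-coherent module of finite type on an integral scheme whose stalk at a point is free with
basis `s` is free near that point; if all local rings are principal ideal domains, torsion-free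
coherent modules are finite locally free of rank the generic rank.
-/

set_option autoImplicit false
universe u

open CategoryTheory Limits AlgebraicGeometry Opposite TopologicalSpace

namespace Groth.Agent.Lib.CurveBundle.LocFree

open Groth.Agent.Lib

variable {X : Scheme.{u}} {M : X.Modules}

lemma generic_mem [IsIntegral X] {U : X.Opens} {x : X} (hx : x ∈ U) : genericPoint X ∈ U :=
  ((genericPoint_spec X).mem_open_set_iff U.isOpen).mpr ⟨x, trivial, hx⟩

lemma ne_zero_of_mem_basicOpen {U : X.Opens} {f : Γ(X, U)} {x : X} (hx : x ∈ X.basicOpen f) :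
    f ≠ 0 := fun h => by
  rw [h, Scheme.basicOpen_zero] at hx
  exact hx

/-- Linear independence of germs of sections at one point spreads to all points of the affine
open. -/
lemma linearIndependent_germ [IsIntegral X] [M.IsQuasicoherent] {U : X.Opens} (hU : IsAffineOpen U)
    {x : X} (hx : x ∈ U) {n : ℕ} (s : Fin n → Γ(M, U))
    (h : LinearIndependent (X.presheaf.stalk x) fun i => M.presheaf.germ U x hx (s i))
    {y : X} (hy : y ∈ U) :
    LinearIndependent (X.presheaf.stalk y) fun i => M.presheaf.germ U y hy (s i) := by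
  have hsec : ∀ g : Fin n → Γ(X, U), M.presheaf.germ U y hy (∑ i, g i • s i) = 0 →
      ∀ i, g i = 0 := by
    intro g hg
    obtain ⟨f, hf, hfg⟩ := (QCoh.Stalk.germ_eq_zero_iff M hU hy _).mp hg
    have h' := congrArg (M.presheaf.germ U x hx) hfg
    rw [Finset.smul_sum, map_sum, map_zero] at h'
    simp only [smul_smul, Modules.StalkModule.germ_smul] at h'
    intro i
    have := Fintype.linearIndependent_iff.mp h _ h' i
    have h0 : f * g i = 0 :=
      germ_injective_of_isIntegral X x hx (this.trans (map_zero _).symm)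
    haveI : Nonempty U := ⟨⟨x, hx⟩⟩
    exact (mul_eq_zero.mp h0).resolve_left (ne_zero_of_mem_basicOpen hf)
  rw [Fintype.linearIndependent_iff]
  intro c hc
  let _ := TopCat.Presheaf.algebra_section_stalk X.presheaf (⟨y, hy⟩ : U)
  have hloc := hU.isLocalization_stalk ⟨y, hy⟩
  obtain ⟨⟨b, hb⟩, hg⟩ := IsLocalization.exist_integer_multiples_of_finite
    (hU.primeIdealOf ⟨y, hy⟩).asIdeal.primeCompl c
  choose g hg using hg
  have hg' : ∀ i, X.presheaf.germ U y hy (g i) = X.presheaf.germ U y hy b * c i := fun i =>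
    (hg i).trans (Algebra.smul_def _ _)
  have hsum : M.presheaf.germ U y hy (∑ i, g i • s i) = 0 := by
    rw [map_sum]
    simp only [Modules.StalkModule.germ_smul, hg', mul_smul]
    rw [← Finset.smul_sum, hc, smul_zero]
  intro i
  have hu : IsUnit (X.presheaf.germ U y hy b) :=
    (X.mem_basicOpen b y hy).mp ((QCoh.Stalk.mem_primeIdealOf_compl_iff hU hy b).mp hb)
  refine hu.mul_right_eq_zero.mp ?_
  rw [← hg' i, hsec g hsum i, map_zero]

/-- Spanning germs spread to a neighbourhood. -/
lemma exists_span_germ [M.IsQuasicoherent] [SheafOfModules.IsFiniteType (R := X.ringCatSheaf) M]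
    {U : X.Opens} (hU : IsAffineOpen U) {x : X} (hx : x ∈ U) {n : ℕ} (s : Fin n → Γ(M, U))
    (h : Submodule.span (X.presheaf.stalk x)
      (Set.range fun i => M.presheaf.germ U x hx (s i)) = ⊤) :
    ∃ f : Γ(X, U), x ∈ X.basicOpen f ∧ ∀ (y : X) (hy : y ∈ U), y ∈ X.basicOpen f →
      Submodule.span (X.presheaf.stalk y)
        (Set.range fun i => M.presheaf.germ U y hy (s i)) = ⊤ := by
  obtain ⟨T, hT⟩ := (CohBasics.Affine.finite_sections (M := M) hU).fg_top
  let P : Submodule Γ(X, U) Γ(M, U) := Submodule.span Γ(X, U) (Set.range s)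
  have key : ∀ t : Γ(M, U), ∃ f : Γ(X, U), x ∈ X.basicOpen f ∧ f • t ∈ P := by
    intro t
    have hv : M.presheaf.germ U x hx t ∈ Submodule.span (X.presheaf.stalk x)
        (M.presheaf.germ U x hx '' (P : Set Γ(M, U))) := by
      refine Submodule.span_mono ?_ (h.ge Submodule.mem_top)
      rintro _ ⟨i, rfl⟩
      exact ⟨s i, Submodule.subset_span ⟨i, rfl⟩, rfl⟩
    obtain ⟨f, hf, t', ht', e⟩ := CohBasics.Affine.exists_smul_eq_of_mem_span hU hx P hv
    rw [← Modules.StalkModule.germ_smul, ← sub_eq_zero, ← map_sub] at e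
    obtain ⟨g, hg, hgt⟩ := (QCoh.Stalk.germ_eq_zero_iff M hU hx _).mp e
    refine ⟨g * f, ?_, ?_⟩
    · rw [Scheme.basicOpen_mul]; exact ⟨hg, hf⟩
    · rw [smul_sub, sub_eq_zero] at hgt
      rw [mul_smul, hgt]
      exact P.smul_mem _ ht'
  choose f hf hft using key
  classical
  refine ⟨∏ t ∈ T, f t, ?_, fun y hy hyf => eq_top_iff.mpr fun v _ => ?_⟩
  · refine Finset.prod_induction _ (fun a => x ∈ X.basicOpen a)
      (fun a b ha hb => by rw [Scheme.basicOpen_mul]; exact ⟨ha, hb⟩)
      (by rw [Scheme.basicOpen_of_isUnit X isUnit_one]; exact hx) fun t _ => hf t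
  · have hall : ∀ t : Γ(M, U), (∏ t ∈ T, f t) • t ∈ P := by
      intro t
      have ht : t ∈ Submodule.span Γ(X, U) (T : Set Γ(M, U)) := hT ▸ Submodule.mem_top
      induction ht using Submodule.span_induction with
      | mem t ht =>
        rw [← Finset.prod_erase_mul _ _ ht, mul_smul]
        exact P.smul_mem _ (hft t)
      | zero => rw [smul_zero]; exact P.zero_mem
      | add a b _ _ ha hb => rw [smul_add]; exact P.add_mem ha hb
      | smul c a _ ha => rw [smul_comm]; exact P.smul_mem _ ha
    obtain ⟨g, t, hg, e⟩ := QCoh.Stalk.exists_smul_eq_germ M hU hy v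
    refine (Submodule.smul_mem_iff_of_isUnit _ ((X.mem_basicOpen g y hy).mp hg)).mp ?_
    rw [e]
    refine (Submodule.smul_mem_iff_of_isUnit _ ((X.mem_basicOpen _ y hy).mp hyf)).mp ?_
    rw [← Modules.StalkModule.germ_smul]
    have hP := hall t
    generalize (∏ t ∈ T, f t) • t = w at hP ⊢
    induction hP using Submodule.span_induction with
    | mem w hw =>
      obtain ⟨i, rfl⟩ := hw
      exact Submodule.subset_span ⟨i, rfl⟩
    | zero => rw [map_zero]; exact Submodule.zero_mem _
    | add a b _ _ ha hb => rw [map_add]; exact Submodule.add_mem _ ha hb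
    | smul c a _ ha => rw [Modules.StalkModule.germ_smul]; exact Submodule.smul_mem _ _ ha

/-- Sections whose germs form a basis at every point of an open trivialize the module there. -/
lemma nonempty_iso_free {W : X.Opens} {n : ℕ} (s : Fin n → Γ(M, W))
    (hli : ∀ (y : X) (hy : y ∈ W),
      LinearIndependent (X.presheaf.stalk y) fun i => M.presheaf.germ W y hy (s i))
    (hsp : ∀ (y : X) (hy : y ∈ W), Submodule.span (X.presheaf.stalk y)
      (Set.range fun i => M.presheaf.germ W y hy (s i)) = ⊤) :
    Nonempty (M.restrict W.ι ≅ FlatMod.freeMod (↑W) n) := by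
  let t : Fin n → Γ(M.restrict W.ι, ⊤) := fun i =>
    M.presheaf.map (homOfLE (W.ι_image_le ⊤)).op (s i)
  suffices IsIso (Modules.Free.freeHom t) from ⟨(asIso (Modules.Free.freeHom t)).symm⟩
  rw [Modules.StalkModule.isIso_iff_stalkMapₗ_bijective]
  intro y
  let e := Modules.StalkRestrict.restrictStalkAddEquiv W.ι M y
  have he : ∀ i, e ((M.restrict W.ι).presheaf.germ ⊤ y trivial (t i)) =
      M.presheaf.germ W y.1 y.2 (s i) := fun i =>
    Modules.FreeStalk.germ_restrict W.ι M (W.ι_image_le ⊤) (s i)
  set L := Modules.StalkModule.stalkMapₗ (Modules.Free.freeHom t) y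
  let b := Modules.FreeStalk.stalkBasis (W : Scheme.{u}) n y
  have hb : ∀ i, L (b i) = (M.restrict W.ι).presheaf.germ ⊤ y trivial (t i) := fun i => by
    rw [Modules.FreeStalk.stalkBasis_apply]
    exact Modules.Free.freeHom_stalk_germ t y i
  constructor
  · rw [← LinearMap.ker_eq_bot, LinearMap.ker_eq_bot']
    intro v hv
    have hsurj : Function.Surjective (W.ι.stalkMap y) :=
      (ConcreteCategory.bijective_of_isIso (W.ι.stalkMap y)).surjective
    choose a ha using fun i => hsurj (b.repr v i)
    have h1 : e (L v) = ∑ i, (show X.presheaf.stalk y.1 from a i) • M.presheaf.germ W y.1 y.2 (s i) := by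
      conv_lhs => rw [← b.sum_repr v]
      rw [map_sum, map_sum]
      refine Finset.sum_congr rfl fun i _ => ?_
      rw [map_smul, hb, ← ha i, Modules.StalkRestrict.restrictStalkAddEquiv_smul, he]
      rfl
    rw [hv, map_zero] at h1
    have h2 := Fintype.linearIndependent_iff.mp (hli y.1 y.2) a h1.symm
    rw [← b.sum_repr v]
    exact Finset.sum_eq_zero fun i _ => by
      rw [← ha i, show a i = 0 from h2 i, map_zero, zero_smul]
  · rw [← LinearMap.range_eq_top, eq_top_iff]
    intro w _
    have h1 : e w ∈ Submodule.span (X.presheaf.stalk (W.ι y))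
        (e '' Set.range fun i => (M.restrict W.ι).presheaf.germ ⊤ y trivial (t i)) := by
      have : (e '' Set.range fun i => (M.restrict W.ι).presheaf.germ ⊤ y trivial (t i)) =
          Set.range fun i => M.presheaf.germ W y.1 y.2 (s i) := by
        rw [← Set.range_comp]
        exact congrArg Set.range (funext he)
      rw [this]
      exact (hsp y.1 y.2).ge Submodule.mem_top
    rw [← SetLike.mem_coe, Modules.StalkRestrict.span_image_restrictStalkAddEquiv] at h1
    obtain ⟨w', hw', ew⟩ := h1
    rw [← e.injective ew]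
    refine (Submodule.span_le.mpr ?_) hw'
    rintro _ ⟨i, rfl⟩
    exact ⟨b i, hb i⟩

/-- A free stalk spreads out. -/
theorem exists_free_of_basis [IsIntegral X] [M.IsQuasicoherent]
    [SheafOfModules.IsFiniteType (R := X.ringCatSheaf) M] {U : X.Opens} (hU : IsAffineOpen U)
    {x : X} (hx : x ∈ U) {n : ℕ} (s : Fin n → Γ(M, U))
    (hli : LinearIndependent (X.presheaf.stalk x) fun i => M.presheaf.germ U x hx (s i))
    (hsp : Submodule.span (X.presheaf.stalk x)
      (Set.range fun i => M.presheaf.germ U x hx (s i)) = ⊤) :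
    ∃ W : X.Opens, x ∈ W ∧ Nonempty (M.restrict W.ι ≅ FlatMod.freeMod (↑W) n) ∧
      ∀ (y : X), y ∈ W → Module.finrank (X.presheaf.stalk y) (M.presheaf.stalk y) = n := by
  obtain ⟨f, hf, hfs⟩ := exists_span_germ hU hx s hsp
  have hle : X.basicOpen f ≤ U := X.basicOpen_le f
  have hg : ∀ (y : X) (hy : y ∈ X.basicOpen f) (i : Fin n),
      M.presheaf.germ (X.basicOpen f) y hy (M.presheaf.map (homOfLE hle).op (s i)) =
        M.presheaf.germ U y (hle hy) (s i) := fun y hy i =>
    TopCat.Presheaf.germ_res_apply M.presheaf (homOfLE hle) y hy (s i)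
  refine ⟨_, hf, nonempty_iso_free (fun i => M.presheaf.map (homOfLE hle).op (s i))
    (fun y hy => by simp only [hg y hy]; exact linearIndependent_germ hU hx s hli (hle hy))
    (fun y hy => by simp only [hg y hy]; exact hfs y (hle hy) hy), fun y hy => ?_⟩
  rw [Module.finrank_eq_card_basis (Module.Basis.mk (linearIndependent_germ hU hx s hli (hle hy))
    (hfs y (hle hy) hy).ge), Fintype.card_fin]

/-- A finite free stalk has a basis of germs of sections over a given affine open. -/
lemma exists_basis_germ [M.IsQuasicoherent] {U : X.Opens} (hU : IsAffineOpen U) {x : X}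
    (hx : x ∈ U) {n : ℕ} (b : Module.Basis (Fin n) (X.presheaf.stalk x) (M.presheaf.stalk x)) :
    ∃ s : Fin n → Γ(M, U),
      LinearIndependent (X.presheaf.stalk x) (fun i => M.presheaf.germ U x hx (s i)) ∧
      Submodule.span (X.presheaf.stalk x)
        (Set.range fun i => M.presheaf.germ U x hx (s i)) = ⊤ := by
  choose f t hf ht using fun i => QCoh.Stalk.exists_smul_eq_germ M hU hx (b i)
  let b' := b.unitsSMul fun i => ((X.mem_basicOpen (f i) x hx).mp (hf i)).unit
  have : (fun i => M.presheaf.germ U x hx (t i)) = b' := funext fun i => by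
    rw [Module.Basis.unitsSMul_apply, ← ht i]
    rfl
  exact ⟨t, this ▸ b'.linearIndependent, this ▸ b'.span_eq⟩

/-- On an integral scheme whose local rings are principal, a torsion-free coherent module is
finite locally free of rank its generic rank. -/
theorem isFinLocFreeOfRank [IsIntegral X] (hP : ∀ x : X, IsPrincipalIdealRing (X.presheaf.stalk x))
    (hM : Coh.IsCoh M) (hT : TorSh.IsTorsionFree M) :
    FlatMod.IsFinLocFreeOfRank
      (Module.finrank (X.presheaf.stalk (genericPoint X))
        (M.presheaf.stalk (genericPoint X))) M := by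
  have := hM.1
  have := hM.2
  intro x
  have := hP x
  have := hT x
  have := Modules.GenStalk.finite_stalk M x
  have : Module.Free (X.presheaf.stalk x) (M.presheaf.stalk x) :=
    Module.free_of_finite_type_torsion_free'
  obtain ⟨U, hU, hx, -⟩ := exists_isAffineOpen_mem_and_subset (U := (⊤ : X.Opens)) (Set.mem_univ x)
  obtain ⟨s, hli, hsp⟩ := exists_basis_germ hU hx (Module.finBasis _ (M.presheaf.stalk x))
  obtain ⟨W, hxW, hW, hr⟩ := exists_free_of_basis hU hx s hli hsp
  rw [hr _ (generic_mem hxW)]
  exact ⟨W, hxW, hW⟩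

end Groth.Agent.Lib.CurveBundle.LocFree
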