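import Groth.Agent.Lib.CurveBundle.Devissage
import Groth.Agent.Lib.CurveBundle.Degree
import Groth.Agent.Lib.Curves.GlobalSections
import Groth.Agent.Lib.TensorMod.Pullback
import Groth.Agent.Lib.TensorMod.TensorQCoh
import Groth.Agent.H34.DimOne

/-!
# Twisting coherent sheaves on a curve by an invertible module

`M ↦ M ⊗ L` is an exact equivalence, preserves the generic rank and torsion sheaves with their
number of sections; hence `deg (M ⊗ L) = deg M + rank M · deg L`.
-/

set_option autoImplicit false
universe u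

open CategoryTheory Limits AlgebraicGeometry Opposite TopologicalSpace

namespace Groth.Agent.Lib.CurveBundle.Twist

open Groth.Agent.Lib TensorMod.Basic TensorMod.Invertible

variable {X : Scheme.{u}}

/-- `(M ⊗ L) ⊗ L' ≅ M` for `L ⊗ L' ≅ O`, naturally. -/
noncomputable def cancelNat {L L' : X.Modules}
    (e : CohB1.tensorMod L L' ≅ Coh.structureModule X) :
    tensorBy L ⋙ tensorBy L' ≅ 𝟭 X.Modules :=
  NatIso.ofComponents
    (fun M => assoc M L L' ≪≫ tensorIso (Iso.refl M) e ≪≫ rightUnit M)
    fun {M N} f => by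
      change tmap (tmap f (𝟙 L)) (𝟙 L') ≫ (assoc N L L').hom ≫ tmap (𝟙 N) e.hom ≫
          (rightUnit N).hom = ((assoc M L L').hom ≫ tmap (𝟙 M) e.hom ≫ (rightUnit M).hom) ≫ f
      rw [assoc_natural_assoc, tmap_id, ← tmap_comp_assoc, Category.comp_id, Category.id_comp,
        Category.assoc, Category.assoc, ← rightUnit_natural, ← tmap_comp_assoc, Category.id_comp,
        Category.comp_id]

/-- Twisting by an invertible module is an equivalence. -/
theorem isEquivalence {L : X.Modules} (hL : PicF.IsInvertible L) : (tensorBy L).IsEquivalence :=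
  let e := tensorDualIso hL
  (CategoryTheory.Equivalence.mk (tensorBy L) (tensorBy (TensorMod.Dual.dual L)) (cancelNat e).symm
    (cancelNat (comm _ _ ≪≫ e))).isEquivalence_functor

/-- Twisting a short exact sequence. -/
theorem shortExact {L : X.Modules} (hL : PicF.IsInvertible L) {S : ShortComplex X.Modules}
    (hS : S.ShortExact) :
    (ShortComplex.mk (tmap S.f (𝟙 L)) (tmap S.g (𝟙 L))
      (by rw [← tmap_comp, S.zero, Category.id_comp, TensorMod.Integral.tmap_zero_left])).ShortExact := by
  have := isEquivalence hL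
  have : (tensorBy L).Additive := Functor.additive_of_preserves_binary_products _
  exact hS.map_of_exact (tensorBy L)

lemma isCoh {L M : X.Modules} (hL : PicF.IsInvertible L) (hM : Coh.IsCoh M) :
    Coh.IsCoh (CohB1.tensorMod M L) := by
  have hLc := Coherent.isCoh (TensorMod.LocFree.of_rank (TensorMod.LocFree.of_isInvertible hL))
  have := hM.1
  have := hLc.1
  have := hM.2
  have := hLc.2
  exact ⟨TensorMod.TensorQCoh.isQCoh_tensorMod M L, TensorMod.TensorQCoh.isFiniteType_tensorMod M L⟩

/-- A trivialisation of `L` over `V` makes `M` and `M ⊗ L` agree over `V`. -/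
noncomputable def localIso {L : X.Modules} {V : X.Opens}
    (i : L.restrict V.ι ≅ Coh.structureModule (V : Scheme.{u})) (M : X.Modules) :
    (CohB1.tensorMod M L).restrict V.ι ≅ M.restrict V.ι :=
  TensorMod.Pullback.restrictTensorIso V.ι M L ≪≫ tensorIso (Iso.refl _) i ≪≫ rightUnit _

/-- An isomorphism of restrictions gives compatible bijections on sections. -/
lemma exists_sections_equiv {M N : X.Modules} {V : X.Opens}
    (i : M.restrict V.ι ≅ N.restrict V.ι) (W : X.Opens) (hW : W ≤ V) :
    ∃ e : Γ(M, W) ≃+ Γ(N, W), ∀ (r : Γ(X, W)) (m : Γ(M, W)), e (r • m) = r • e m := by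
  obtain ⟨W', rfl⟩ : ∃ W' : (V : Scheme.{u}).Opens, V.ι ''ᵁ W' = W :=
    ⟨V.ι ⁻¹ᵁ W, by rw [Scheme.Hom.image_preimage_eq_opensRange_inf, Scheme.Opens.opensRange_ι]
                   exact inf_eq_right.2 hW⟩
  let e : Γ(M, V.ι ''ᵁ W') ≃+ Γ(N, V.ι ''ᵁ W') :=
    { toFun := fun m => (N.restrictAppIso V.ι W').hom
        (i.hom.app W' ((M.restrictAppIso V.ι W').inv m))
      invFun := fun n => (M.restrictAppIso V.ι W').hom
        (i.inv.app W' ((N.restrictAppIso V.ι W').inv n))
      left_inv := fun m => by
        have h := congrArg (fun φ => φ.app W') i.hom_inv_id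
        simp only [Scheme.Modules.Hom.comp_app] at h
        have h' := ConcreteCategory.congr_hom h ((M.restrictAppIso V.ι W').inv m)
        simp only [ConcreteCategory.comp_apply] at h'
        beta_reduce
        rw [← ConcreteCategory.comp_apply (N.restrictAppIso V.ι W').hom, Iso.hom_inv_id,
          ConcreteCategory.id_apply, h']
        simp
      right_inv := fun n => by
        have h := congrArg (fun φ => φ.app W') i.inv_hom_id
        simp only [Scheme.Modules.Hom.comp_app] at h
        have h' := ConcreteCategory.congr_hom h ((N.restrictAppIso V.ι W').inv n)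
        simp only [ConcreteCategory.comp_apply] at h'
        beta_reduce
        rw [← ConcreteCategory.comp_apply (M.restrictAppIso V.ι W').hom, Iso.hom_inv_id,
          ConcreteCategory.id_apply, h']
        simp
      map_add' := fun a b => by simp only [map_add] }
  refine ⟨e, fun r m => ?_⟩
  obtain ⟨s, rfl⟩ := (ConcreteCategory.bijective_of_isIso (V.ι.appIso W').inv).2 r
  obtain ⟨m, rfl⟩ := (ConcreteCategory.bijective_of_isIso (M.restrictAppIso V.ι W').hom).2 m
  change (N.restrictAppIso V.ι W').hom (i.hom.app W' ((M.restrictAppIso V.ι W').inv _)) =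
    (V.ι.appIso W').inv s • (N.restrictAppIso V.ι W').hom (i.hom.app W' ((M.restrictAppIso V.ι W').inv _))
  rw [← TensorMod.Gen.restrict_smul, ← TensorMod.Gen.restrict_smul,
    ← ConcreteCategory.comp_apply (M.restrictAppIso V.ι W').hom, Iso.hom_inv_id,
    ← ConcreteCategory.comp_apply (M.restrictAppIso V.ι W').hom, Iso.hom_inv_id,
    ConcreteCategory.id_apply, ConcreteCategory.id_apply, Scheme.Modules.Hom.app_smul]

/-- The supports of `M ⊗ L` and `M` agree. -/
lemma support_twist {L : X.Modules} (hL : PicF.IsInvertible L) (M : X.Modules) :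
    CohB1.support (CohB1.tensorMod M L) = CohB1.support M := by
  ext x
  obtain ⟨V, hx, ⟨i⟩⟩ := hL x
  have h := Modules.Support.support_congr (localIso i M)
  rw [Modules.Support.support_restrict, Modules.Support.support_restrict] at h
  exact Set.ext_iff.mp h ⟨x, hx⟩

section Torsion

variable [IsIntegral X] [NoetherianSpace X]

/-- The support of a torsion coherent sheaf on a curve is finite, of closed points. -/
lemma finite_support (hdim : topologicalKrullDim X ≤ 1) {Q : X.Modules} (hQ : Coh.IsCoh Q)
    (h0 : genericPoint X ∉ CohB1.support Q) :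
    (CohB1.support Q).Finite ∧ ∀ x ∈ CohB1.support Q, IsClosed ({x} : Set X) := by
  have := hQ.2
  have hcl := Modules.Support.isClosed_support Q
  refine ⟨H34.DimOne.finite_of_no_component hdim hcl fun Z hZ _ hle => ?_, fun x hx => ?_⟩
  · rw [irreducibleComponents_eq_singleton, Set.mem_singleton_iff] at hZ
    exact h0 (hle (hZ ▸ Set.mem_univ _))
  · refine (H34.DimOne.isClosed_or_component hdim x).resolve_right fun hc => h0 ?_
    rw [irreducibleComponents_eq_singleton, Set.mem_singleton_iff] at hc
    exact hcl.closure_subset_iff.mpr (Set.singleton_subset_iff.mpr hx) (hc ▸ Set.mem_univ _)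

/-- A torsion sheaf and its twist have the same global sections over the global functions. -/
theorem exists_global_equiv (hdim : topologicalKrullDim X ≤ 1) {L Q : X.Modules}
    (hL : PicF.IsInvertible L) (hQ : Coh.IsCoh Q) (h0 : genericPoint X ∉ CohB1.support Q) :
    ∃ e : Γ(CohB1.tensorMod Q L, ⊤) ≃+ Γ(Q, ⊤),
      ∀ (r : Γ(X, ⊤)) (m : Γ(CohB1.tensorMod Q L, ⊤)), e (r • m) = r • e m := by
  obtain ⟨hfin, hclosed⟩ := finite_support hdim hQ h0
  have hL' := hL
  choose V hV i using hL
  -- one open for each point, meeting the support only there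
  have hcl : ∀ x : X, IsClosed (CohB1.support Q \ {x}) := fun x => by
    rw [← Set.biUnion_of_singleton (CohB1.support Q \ {x})]
    exact (hfin.subset Set.sdiff_subset).isClosed_biUnion fun y hy => hclosed y hy.1
  let rest : X → X.Opens := fun x => ⟨(CohB1.support Q \ {x})ᶜ, (hcl x).isOpen_compl⟩
  let U : X → X.Opens := fun x => V x ⊓ rest x
  have hxU : ∀ x, x ∈ U x := fun x => ⟨hV x, fun h => h.2 rfl⟩
  have hcov : ∀ P : X.Modules, CohB1.support P = CohB1.support Q → ∀ (x y : X), x ≠ y →
      ∀ (W : X.Opens), W ≤ U x → W ≤ U y → ∀ s : Γ(P, W), s = 0 := by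
    intro P hP x y hxy W hx hy s
    refine Modules.Support.eq_zero_of_germ_eq_zero s fun z hz hzs => absurd ?_ hxy
    rw [hP] at hzs
    have h1 : z = x := by_contra fun h => (hx hz).2 ⟨hzs, h⟩
    have h2 : z = y := by_contra fun h => (hy hz).2 ⟨hzs, h⟩
    exact h1.symm.trans h2
  have hbij : ∀ P : X.Modules, CohB1.support P = CohB1.support Q →
      Function.Bijective fun (t : Γ(P, ⊤)) (x : X) =>
        (show Γ(P, U x) from P.presheaf.map (homOfLE le_top).op t) := by
    intro P hP
    refine ⟨fun t t' h => ?_, fun f => ?_⟩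
    · rw [← sub_eq_zero]
      refine Modules.Support.eq_zero_of_germ_eq_zero _ fun z _ _ => ?_
      rw [map_sub, sub_eq_zero, ← TopCat.Presheaf.germ_res_apply P.presheaf
        (homOfLE (le_top : U z ≤ ⊤)) z (hxU z) t, ← TopCat.Presheaf.germ_res_apply P.presheaf
        (homOfLE (le_top : U z ≤ ⊤)) z (hxU z) t']
      exact congrArg _ (congrFun h z)
    · obtain ⟨t, ht, -⟩ := TopCat.Sheaf.existsUnique_gluing' (⟨P.presheaf, P.isSheaf⟩ : TopCat.Sheaf _ X)
        U ⊤ (fun x => homOfLE le_top) (fun x _ => Opens.mem_iSup.mpr ⟨x, hxU x⟩) f fun x y => by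
          by_cases hxy : x = y
          · subst hxy; rfl
          · exact (hcov P hP x y hxy _ inf_le_left inf_le_right _).trans
              (hcov P hP x y hxy _ inf_le_left inf_le_right _).symm
      exact ⟨t, funext ht⟩
  choose e he using fun x => exists_sections_equiv (localIso (i x).some Q) (U x) inf_le_left
  let a := AddEquiv.ofBijective
    (AddMonoidHom.mk' (fun (t : Γ(CohB1.tensorMod Q L, ⊤)) (x : X) =>
      (show Γ(CohB1.tensorMod Q L, U x) from
        (CohB1.tensorMod Q L).presheaf.map (homOfLE le_top).op t))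
      fun t t' => funext fun x => map_add _ _ _) (hbij _ (support_twist hL' Q))
  let b := AddEquiv.ofBijective
    (AddMonoidHom.mk' (fun (t : Γ(Q, ⊤)) (x : X) =>
      (show Γ(Q, U x) from Q.presheaf.map (homOfLE le_top).op t))
      fun t t' => funext fun x => map_add _ _ _) (hbij _ rfl)
  refine ⟨a.trans ((AddEquiv.piCongrRight e).trans b.symm), fun r m => b.injective (funext fun x => ?_)⟩
  simp only [AddEquiv.trans_apply, AddEquiv.apply_symm_apply]
  change e x ((CohB1.tensorMod Q L).presheaf.map (homOfLE le_top).op (r • m)) =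
    Q.presheaf.map (homOfLE le_top).op (r • b.symm _)
  rw [Scheme.Modules.map_smul, he, Scheme.Modules.map_smul]
  exact congrArg _ (congrFun (b.apply_symm_apply (AddEquiv.piCongrRight e (a m))) x).symm

end Torsion

open Degree

variable (k : Type u) [Field k] [X.Over (Spec (CommRingCat.of k))] [hC : CurveCtx k X]

include hC

/-- Twisting a torsion sheaf does not change its Euler characteristic. -/
theorem euler_twist_torsion {L Q : X.Modules} (hL : PicF.IsInvertible L) (hQ : Coh.IsCoh Q)
    (h : gr k Q = 0) :
    gr k (CohB1.tensorMod Q L) = 0 ∧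
      Curv2.euler k X (CohB1.tensorMod Q L) = Curv2.euler k X Q := by
  let _ := hC.integral
  have := hC.noethSpace
  have hs : Subsingleton (Q.presheaf.stalk (genericPoint X)) :=
    Rank.subsingleton_of_grank_eq_zero hQ h
  have h0 : genericPoint X ∉ CohB1.support Q := Modules.Support.not_mem_support_iff.mpr hs
  have hs' : Subsingleton ((CohB1.tensorMod Q L).presheaf.stalk (genericPoint X)) :=
    Modules.Support.not_mem_support_iff.mp (by rwa [support_twist hL])
  let _ : Field (X.presheaf.stalk (genericPoint X)) := inferInstanceAs (Field X.functionField)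
  refine ⟨Module.finrank_zero_of_subsingleton, ?_⟩
  rw [(isTorsion k hs').euler hC.dim_le, (isTorsion k hs).euler hC.dim_le, Nat.cast_inj]
  obtain ⟨e, he⟩ := exists_global_equiv hC.dim_le hL hQ h0
  letI := Curves.GlobalSections.secModule k (CohB1.tensorMod Q L)
  letI := Curves.GlobalSections.secModule k Q
  let e' : ((CohB1.tensorMod Q L).val.obj (op ⊤) : Type u) ≃ₗ[k] (Q.val.obj (op ⊤) : Type u) :=
    { e with map_smul' := fun c m => he _ m }
  exact ((Curves.GlobalSections.h0Linear k (CohB1.tensorMod Q L)).trans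
    (e'.trans (Curves.GlobalSections.h0Linear k Q).symm)).finrank_eq

/-- Twisting keeps the rank and raises the degree by the rank times the degree. -/
theorem gr_dg_twist {L M : X.Modules} (hL : PicF.IsInvertible L) (hM : Coh.IsCoh M) :
    gr k (CohB1.tensorMod M L) = gr k M ∧
      dg k (CohB1.tensorMod M L) = dg k M + (gr k M : ℤ) * dg k L := by
  let _ := hC.integral
  have := hC.locNoeth
  have := hC.noethSpace
  have hOr : FlatMod.IsFinLocFreeOfRank 1 (Coh.structureModule X) :=
    TensorMod.LocFree.of_isInvertible (PicLoc.isInvertible_structureModule X)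
  have key := Devissage.additive_eq (X := X) (A := ℤ × ℤ)
    (fun M => ((gr k (CohB1.tensorMod M L) : ℤ),
      Curv2.euler k X (CohB1.tensorMod M L) - Curv2.euler k X M))
    (fun S hS h₁ h₂ h₃ => by
      have e₁ := gr_add k (shortExact hL hS) (isCoh hL h₂)
      have e₂ := euler_add k (shortExact hL hS) (isCoh hL h₁) (isCoh hL h₂) (isCoh hL h₃)
      have e₃ := euler_add k hS h₁ h₂ h₃
      dsimp only at e₁ e₂
      refine Prod.ext ?_ ?_ <;> simp only [Prod.fst_add, Prod.snd_add] <;> omega)
    (fun Q hQ h => by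
      obtain ⟨h1, h2⟩ := euler_twist_torsion k hL hQ h
      simp [h1, h2]) M hM
  obtain ⟨k1, k2⟩ := Prod.ext_iff.mp key
  have hgL : gr k L = 1 := gr_eq k (TensorMod.LocFree.of_isInvertible hL)
  rw [Prod.smul_fst, gr_congr k (leftUnit L), hgL] at k1
  rw [Prod.smul_snd, Curves.Euler.euler_eq_of_iso (leftUnit L)] at k2
  simp only [nsmul_eq_mul, Nat.cast_one, mul_one] at k1 k2
  have h1 : gr k (CohB1.tensorMod M L) = gr k M := by exact_mod_cast k1
  refine ⟨h1, ?_⟩
  change Curv2.euler k X _ - (gr k (CohB1.tensorMod M L) : ℤ) * _ =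
    (Curv2.euler k X M - (gr k M : ℤ) * _) + _ * (Curv2.euler k X L - (gr k L : ℤ) * _)
  rw [h1, hgL, Nat.cast_one, one_mul]
  have k3 : Curv2.euler k X (CohB1.tensorMod M L) - Curv2.euler k X M =
    (gr k M : ℤ) * (Curv2.euler k X L - Curv2.euler k X (Coh.structureModule X)) := k2
  linarith

end Groth.Agent.Lib.CurveBundle.Twist
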