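import Groth.Agent.Lib.CurveBundle.Rank
import Groth.Prelude.Def_Coh
import Mathlib.AlgebraicGeometry.Morphisms.Proper
import Mathlib.FieldTheory.IsAlgClosed.Basic
import Mathlib.LinearAlgebra.Charpoly.ToMatrix
import Mathlib.CategoryTheory.Preadditive.Basic

/-!
# The algebra of endomorphisms of a vector bundle on a proper integral scheme

Global functions act on every module; on a proper integral scheme over an algebraically closed field
they are the constants, and every endomorphism of a finite locally free module is a root of a monic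
polynomial with constant coefficients.
-/

set_option autoImplicit false
universe u

open CategoryTheory Limits AlgebraicGeometry Opposite TopologicalSpace

namespace Groth.Agent.Lib.CurveBundle.EndAlg

open Groth.Agent.Lib

variable {X : Scheme.{u}}

/-- Multiplication by a global function, as an endomorphism of modules. -/
noncomputable def scal (M : X.Modules) (r : Γ(X, ⊤)) : M ⟶ M :=
  ⟨PresheafOfModules.homMk (Coh.smulAb M r).hom fun U a m => by
    change Coh.resTop X U r • a • m = a • Coh.resTop X U r • m
    rw [smul_smul, smul_smul]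
    exact congrArg (· • m) (mul_comm (show X.presheaf.obj U from Coh.resTop X U r)
      (show X.presheaf.obj U from a))⟩

lemma scal_app (M : X.Modules) (r : Γ(X, ⊤)) (U : X.Opens) (m : Γ(M, U)) :
    (scal M r).app U m = (X.presheaf.map (homOfLE (le_top (a := U))).op r : Γ(X, U)) • m := rfl

lemma toSheaf_scal (M : X.Modules) (r : Γ(X, ⊤)) :
    (SheafOfModules.toSheaf X.ringCatSheaf).map (scal M r) = Coh.smulAb M r := rfl

/-- Global functions act through a ring map into the endomorphism ring. -/
noncomputable def scalHom (M : X.Modules) : Γ(X, ⊤) →+* End M where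
  toFun r := scal M r
  map_one' := by
    refine Scheme.Modules.hom_ext _ _ fun U => ConcreteCategory.ext_apply fun m => ?_
    rw [scal_app, map_one, one_smul]
    rfl
  map_mul' r s := by
    refine Scheme.Modules.hom_ext _ _ fun U => ConcreteCategory.ext_apply fun m => ?_
    change (scal M (r * s)).app U m = (scal M r).app U ((scal M s).app U m)
    rw [scal_app, scal_app, scal_app, map_mul, mul_smul]
  map_zero' := by
    refine Scheme.Modules.hom_ext _ _ fun U => ConcreteCategory.ext_apply fun m => ?_
    rw [scal_app, map_zero, zero_smul]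
    rfl
  map_add' r s := by
    refine Scheme.Modules.hom_ext _ _ fun U => ConcreteCategory.ext_apply fun m => ?_
    change (scal M (r + s)).app U m = (scal M r).app U m + (scal M s).app U m
    rw [scal_app, scal_app, scal_app, map_add, add_smul]

lemma scal_comm {M N : X.Modules} (f : M ⟶ N) (r : Γ(X, ⊤)) : scal M r ≫ f = f ≫ scal N r := by
  refine Scheme.Modules.hom_ext _ _ fun U => ConcreteCategory.ext_apply fun m => ?_
  change f.app U ((scal M r).app U m) = (scal N r).app U (f.app U m)
  rw [scal_app, scal_app, Scheme.Modules.Hom.app_smul]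

lemma stalk_scal (M : X.Modules) (r : Γ(X, ⊤)) (x : X) (v : M.presheaf.stalk x) :
    Modules.StalkModule.stalkMapₗ (scal M r) x v = X.presheaf.germ ⊤ x trivial r • v := by
  obtain ⟨U, hx, m, rfl⟩ := TopCat.Presheaf.exists_germ_eq M.presheaf v
  rw [Modules.StalkModule.stalkMapₗ_germ, scal_app, Modules.StalkModule.germ_smul]
  exact congrArg (· • _) (TopCat.Presheaf.germ_res_apply X.presheaf _ x hx r)

variable (k : Type u) [Field k] [X.Over (Spec (CommRingCat.of k))]

variable (X) in
/-- The constants. -/
noncomputable def cst : k →+* Γ(X, ⊤) := Coh.toGlobal (X ↘ Spec (CommRingCat.of k))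

/-- The endomorphism algebra over the base field. -/
noncomputable abbrev algEnd (M : X.Modules) : Algebra k (End M) :=
  ((scalHom M).comp (cst X k)).toAlgebra' fun c f => (scal_comm f (cst X k c)).symm

/-- On a proper integral scheme over an algebraically closed field, global functions are constants. -/
theorem cst_surjective [IsAlgClosed k] [IsIntegral X] [IsProper (X ↘ Spec (CommRingCat.of k))] :
    Function.Surjective (cst X k) := by
  have hF := isField_of_universallyClosed k (X ↘ Spec (CommRingCat.of k))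
  have h1 := finite_appTop_of_universallyClosed k (X ↘ Spec (CommRingCat.of k))
  have h2 : (cst X k).Finite :=
    h1.comp (RingHom.Finite.of_surjective _
      (ConcreteCategory.bijective_of_isIso (Scheme.ΓSpecIso (CommRingCat.of k)).inv).surjective)
  let _ := (cst X k).toAlgebra
  have : IsDomain Γ(X, ⊤) := by
    let _ := hF.toField
    infer_instance
  have : Module.Finite k Γ(X, ⊤) := h2
  exact (IsAlgClosed.algebraMap_bijective_of_isIntegral (k := k) (K := Γ(X, ⊤))).surjective

/-- Near each point an endomorphism is given by a matrix. -/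
lemma exists_matrix {E : X.Modules} {n : ℕ} (hE : FlatMod.IsFinLocFreeOfRank n E) (f : E ⟶ E)
    (x : X) : ∃ (W : X.Opens) (_ : x ∈ W) (s : Fin n → Γ(E, W)) (A : Matrix (Fin n) (Fin n) Γ(X, W)),
      ∀ (y : X) (hy : y ∈ W), ∃ b : Module.Basis (Fin n) (X.presheaf.stalk y) (E.presheaf.stalk y),
        LinearMap.toMatrix b b (Modules.StalkModule.stalkMapₗ f y) =
          (X.presheaf.germ W y hy).hom.mapMatrix A := by
  obtain ⟨U, hxU, ⟨i⟩⟩ := hE x
  obtain ⟨s, hs⟩ := Coherent.exists_basis_sections i
  let b := Module.Basis.mk (hs x hxU).1 (hs x hxU).2.ge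
  have hbx : ∀ j, E.presheaf.germ U x hxU (s j) = b j := fun j =>
    (Module.Basis.mk_apply (hs x hxU).1 (hs x hxU).2.ge j).symm
  choose V hV a ha using fun p : Fin n × Fin n => TopCat.Presheaf.exists_germ_eq X.presheaf
    (LinearMap.toMatrix b b (Modules.StalkModule.stalkMapₗ f x) p.1 p.2)
  let W₀ : X.Opens := U ⊓ Finset.univ.inf V
  have hle : ∀ p, W₀ ≤ V p := fun p => inf_le_right.trans (Finset.inf_le (Finset.mem_univ p))
  have hxW₀ : x ∈ W₀ := by
    refine ⟨hxU, ?_⟩
    rw [SetLike.mem_coe, ← SetLike.mem_coe, Opens.coe_finset_inf, Finset.inf_set_eq_iInter]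
    simp only [Set.mem_iInter]
    exact fun p _ => hV p
  let s₀ : Fin n → Γ(E, W₀) := fun j => E.presheaf.map (homOfLE (inf_le_left : W₀ ≤ U)).op (s j)
  let A₀ : Fin n → Fin n → Γ(X, W₀) := fun p q => X.presheaf.map (homOfLE (hle (p, q))).op (a (p, q))
  have hg : ∀ (y : X) (hy : y ∈ W₀) j, E.presheaf.germ W₀ y hy (s₀ j) =
      E.presheaf.germ U y (inf_le_left (b := Finset.univ.inf V) hy) (s j) := fun y hy j =>
    TopCat.Presheaf.germ_res_apply E.presheaf (homOfLE (inf_le_left : W₀ ≤ U)) y hy (s j)
  have key : ∀ q, E.presheaf.germ W₀ x hxW₀ (f.app W₀ (s₀ q)) =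
      E.presheaf.germ W₀ x hxW₀ (∑ p, A₀ p q • s₀ p) := by
    intro q
    rw [← Modules.StalkModule.stalkMapₗ_germ, map_sum, hg x hxW₀ q,
      show E.presheaf.germ U x hxU (s q) = b q from (Module.Basis.mk_apply (hs x hxU).1 (hs x hxU).2.ge q).symm,
      ← b.sum_repr (Modules.StalkModule.stalkMapₗ f x (b q))]
    refine Finset.sum_congr rfl fun p _ => ?_
    rw [Modules.StalkModule.germ_smul, hg x hxW₀ p, hbx p,
      ← LinearMap.toMatrix_apply b b (Modules.StalkModule.stalkMapₗ f x) p q]
    refine congrArg (· • _) ?_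
    exact ((TopCat.Presheaf.germ_res_apply X.presheaf (homOfLE (hle (p, q))) x hxW₀ (a (p, q))).trans
      (ha (p, q))).symm
  choose W₁ hW₁ j₁ j₁' e₁ using fun q => TopCat.Presheaf.germ_eq E.presheaf x hxW₀ hxW₀ _ _ (key q)
  let W : X.Opens := W₀ ⊓ Finset.univ.inf W₁
  have hxW : x ∈ W := by
    refine ⟨hxW₀, ?_⟩
    rw [SetLike.mem_coe, ← SetLike.mem_coe, Opens.coe_finset_inf, Finset.inf_set_eq_iInter]
    simp only [Set.mem_iInter]
    exact fun p _ => hW₁ p
  let ι₀ : W ⟶ W₀ := homOfLE inf_le_left
  refine ⟨W, hxW, fun j => E.presheaf.map ι₀.op (s₀ j),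
    fun p q => X.presheaf.map ι₀.op (A₀ p q), fun y hy => ?_⟩
  have hy₀ : y ∈ W₀ := ι₀.le hy
  have hyU : y ∈ U := inf_le_left (b := Finset.univ.inf V) hy₀
  let b' := Module.Basis.mk (hs y hyU).1 (hs y hyU).2.ge
  have hb' : ∀ j, E.presheaf.germ U y hyU (s j) = b' j := fun j =>
    (Module.Basis.mk_apply (hs y hyU).1 (hs y hyU).2.ge j).symm
  refine ⟨b', ?_⟩
  ext p q
  rw [LinearMap.toMatrix_apply, ← hb' q, ← hg y hy₀ q, Modules.StalkModule.stalkMapₗ_germ]
  have hy₁ : y ∈ W₁ q :=
    (Finset.inf_le (Finset.mem_univ q) : Finset.univ.inf W₁ ≤ W₁ q)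
      (inf_le_right (a := W₀) hy)
  have e : E.presheaf.germ W₀ y hy₀ (f.app W₀ (s₀ q)) =
      E.presheaf.germ W₀ y hy₀ (∑ p, A₀ p q • s₀ p) := by
    rw [← TopCat.Presheaf.germ_res_apply E.presheaf (j₁ q) y hy₁, e₁ q]
    exact TopCat.Presheaf.germ_res_apply E.presheaf (j₁' q) y hy₁ _
  rw [e, map_sum]
  simp only [Modules.StalkModule.germ_smul, hg y hy₀]
  simp only [hb']
  rw [map_sum, Finsupp.finsetSum_apply]
  simp only [map_smul, Module.Basis.repr_self, Finsupp.smul_single, smul_eq_mul, mul_one]
  rw [Finset.sum_eq_single p (fun j _ hj => Finsupp.single_eq_of_ne (Ne.symm hj)) (fun h => absurd (Finset.mem_univ p) h), Finsupp.single_eq_same]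
  exact (TopCat.Presheaf.germ_res_apply X.presheaf ι₀ y hy (A₀ p q)).symm

/-- Every endomorphism of a finite locally free module is integral over the constants. -/
theorem isIntegral_end [IsAlgClosed k] [IsIntegral X] [IsProper (X ↘ Spec (CommRingCat.of k))]
    {E : X.Modules} {n : ℕ} (hE : FlatMod.IsFinLocFreeOfRank n E) (f : E ⟶ E) :
    letI := algEnd k E
    _root_.IsIntegral k (A := End E) f := by
  let _ := algEnd k E
  let _ : Field (X.presheaf.stalk (genericPoint X)) := inferInstanceAs (Field X.functionField)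
  have := Rank.finite_generic (Coherent.isCoh (TensorMod.LocFree.of_rank hE))
  set φ := Modules.StalkModule.stalkMapₗ f (genericPoint X) with hφ
  choose W hW s A hA using fun x => exists_matrix hE f x
  have hξ : ∀ x, genericPoint X ∈ W x := fun x => LocFree.generic_mem (hW x)
  have hchar : ∀ x, φ.charpoly = (A x).charpoly.map (X.presheaf.germ (W x) _ (hξ x)).hom := by
    intro x
    obtain ⟨b, hb⟩ := hA x _ (hξ x)
    rw [← LinearMap.charpoly_toMatrix φ b, hb, RingHom.mapMatrix_apply, Matrix.charpoly_map]
  have hcover : iSup W = ⊤ := eq_top_iff.mpr fun x _ => Opens.mem_iSup.mpr ⟨x, hW x⟩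
  have hconst : ∀ m, ∃ c : k, φ.charpoly.coeff m =
      X.presheaf.germ ⊤ (genericPoint X) trivial (cst X k c) := by
    intro m
    obtain ⟨g, hg, -⟩ := X.sheaf.existsUnique_gluing' W ⊤ (fun x => homOfLE le_top) hcover.ge
      (fun x => (A x).charpoly.coeff m) (fun x y => by
        have hxy : genericPoint X ∈ W x ⊓ W y := ⟨hξ x, hξ y⟩
        refine germ_injective_of_isIntegral X (genericPoint X) hxy ?_
        refine (TopCat.Presheaf.germ_res_apply X.presheaf (Opens.infLELeft (W x) (W y)) _ hxy _).trans
          (Eq.trans ?_ (TopCat.Presheaf.germ_res_apply X.presheaf (Opens.infLERight (W x) (W y)) _ hxy _).symm)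
        exact (((congrArg (Polynomial.coeff · m) (hchar x)).trans (Polynomial.coeff_map _ _)).symm).trans
          ((congrArg (Polynomial.coeff · m) (hchar y)).trans (Polynomial.coeff_map _ _)))
    obtain ⟨c, hc⟩ := cst_surjective k g
    let x₀ := genericPoint X
    refine ⟨c, ?_⟩
    rw [hchar x₀, Polynomial.coeff_map, ← hg x₀, hc]
    exact TopCat.Presheaf.germ_res_apply X.presheaf _ _ _ g
  let κ : k →+* X.presheaf.stalk (genericPoint X) :=
    (X.presheaf.germ ⊤ (genericPoint X) trivial).hom.comp (cst X k)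
  obtain ⟨p, hp, -, hpm⟩ := Polynomial.lifts_and_degree_eq_and_monic
    ((Polynomial.lifts_iff_coeff_lifts φ.charpoly).mpr fun m => (hconst m).imp fun c hc => hc.symm)
    φ.charpoly_monic (f := κ)
  refine ⟨p, hpm, ?_⟩
  have hM := Coherent.isQCoh (TensorMod.LocFree.of_rank hE)
  refine Rank.eq_zero_of_generic (Coherent.isTorsionFree (TensorMod.LocFree.of_rank hE))
    (Polynomial.eval₂ (algebraMap k (End E)) (f : End E) p : End E) ?_
  let θ : End E →+* Module.End (X.presheaf.stalk (genericPoint X))
      (E.presheaf.stalk (genericPoint X)) :=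
    { toFun := fun g => Modules.StalkModule.stalkMapₗ g _
      map_one' := Modules.StalkModule.stalkMapₗ_id _
      map_mul' := fun a b => Modules.StalkModule.stalkMapₗ_comp b a _
      map_zero' := Modules.StalkModule.stalkMapₗ_zero _
      map_add' := fun a b => Modules.StalkModule.stalkMapₗ_add a b _ }
  have hθ : θ.comp (algebraMap k (End E)) = (algebraMap (X.presheaf.stalk (genericPoint X))
      (Module.End (X.presheaf.stalk (genericPoint X)) (E.presheaf.stalk (genericPoint X)))).comp κ := by
    refine RingHom.ext fun c => LinearMap.ext fun v => ?_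
    exact stalk_scal E _ _ v
  show θ (Polynomial.eval₂ (algebraMap k (End E)) (f : End E) p) = 0
  rw [Polynomial.hom_eval₂, hθ, ← Polynomial.eval₂_map, hp]
  exact φ.aeval_self_charpoly

end Groth.Agent.Lib.CurveBundle.EndAlg
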