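import Groth.Agent.Lib.CurveBundle.Coherent
import Groth.Agent.Lib.Modules.Stalk
import Groth.Agent.Lib.Modules.Support
import Groth.Agent.Lib.SmoothCurve.Curve
import Mathlib.AlgebraicGeometry.Noetherian

/-!
# Generic rank of modules, subbundles on smooth curves
-/

set_option autoImplicit false
universe u

open CategoryTheory Limits AlgebraicGeometry Opposite TopologicalSpace

namespace Groth.Agent.Lib.CurveBundle.Rank

open Groth.Agent.Lib

variable {X : Scheme.{u}} {M N : X.Modules}

/-- The local rings of a smooth integral curve over an algebraically closed field are principal. -/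
theorem isPrincipal_stalk (k : Type u) [Field k] [IsAlgClosed k] [IsIntegral X]
    [X.Over (Spec (CommRingCat.of k))] [Smooth (X ↘ Spec (CommRingCat.of k))]
    (hdim : topologicalKrullDim X = 1) (x : X) : IsPrincipalIdealRing (X.presheaf.stalk x) := by
  by_cases hx : x = genericPoint X
  · subst hx
    let _ : Field (X.presheaf.stalk (genericPoint X)) := inferInstanceAs (Field X.functionField)
    infer_instance
  · have hcl := (SmoothCurve.Curve.eq_genericPoint_or_isClosed hdim x).resolve_left hx
    have := SmoothCurve.Stalk.isDiscreteValuationRing_stalk (X ↘ Spec (CommRingCat.of k)) hdim.le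
      hcl hx
    infer_instance

/-- The generic rank of a module on an integral scheme. -/
noncomputable def grank [IsIntegral X] (M : X.Modules) : ℕ :=
  Module.finrank (X.presheaf.stalk (genericPoint X)) (M.presheaf.stalk (genericPoint X))

/-- The stalk sequence of a short exact sequence is exact, as linear maps. -/
lemma stalk_exact {S : ShortComplex X.Modules} (h : S.ShortExact) (x : X) :
    Function.Injective (Modules.StalkModule.stalkMapₗ S.f x) ∧
      Function.Exact (Modules.StalkModule.stalkMapₗ S.f x) (Modules.StalkModule.stalkMapₗ S.g x) ∧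
      Function.Surjective (Modules.StalkModule.stalkMapₗ S.g x) := by
  have hx := (Modules.Stalk.shortExact_iff_stalk S).mp h x
  refine ⟨(AddCommGrpCat.mono_iff_injective _).mp hx.mono_f, ?_,
    (AddCommGrpCat.epi_iff_surjective _).mp hx.epi_g⟩
  exact (ShortComplex.ab_exact_iff_function_exact _).mp hx.exact

section

variable [IsIntegral X]

lemma grank_eq_of_rank {n : ℕ} (h : FlatMod.IsFinLocFreeOfRank n M) : grank M = n := by
  obtain ⟨b⟩ := Coherent.exists_basis_stalk h (genericPoint X)
  let _ : Field (X.presheaf.stalk (genericPoint X)) := inferInstanceAs (Field X.functionField)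
  rw [grank, Module.finrank_eq_card_basis b, Fintype.card_fin]

lemma finite_generic (h : Coh.IsCoh M) :
    Module.Finite (X.presheaf.stalk (genericPoint X)) (M.presheaf.stalk (genericPoint X)) :=
  have := h.2
  Modules.GenStalk.finite_stalk M _

/-- Generic rank is additive in short exact sequences. -/
theorem grank_add {S : ShortComplex X.Modules} (h : S.ShortExact) (h₂ : Coh.IsCoh S.X₂) :
    grank S.X₂ = grank S.X₁ + grank S.X₃ := by
  obtain ⟨hf, hfg, hg⟩ := stalk_exact h (genericPoint X)
  let _ : Field (X.presheaf.stalk (genericPoint X)) := inferInstanceAs (Field X.functionField)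
  have := finite_generic h₂
  rw [grank, ← LinearMap.finrank_range_add_finrank_ker
    (Modules.StalkModule.stalkMapₗ S.g (genericPoint X)), LinearMap.range_eq_top.mpr hg,
    LinearMap.exact_iff.mp hfg, finrank_top, LinearMap.finrank_range_of_inj hf, add_comm]
  rfl

lemma grank_congr (e : M ≅ N) : grank M = grank N :=
  (Modules.StalkModule.stalkLinearEquiv e _).finrank_eq

omit [IsIntegral X] in
/-- A monomorphism into a torsion-free module has torsion-free source. -/
lemma isTorsionFree_of_mono (i : M ⟶ N) [Mono i] (h : TorSh.IsTorsionFree N) :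
    TorSh.IsTorsionFree M := fun x => by
  have := h x
  exact (((Modules.StalkModule.mono_iff_stalkMapₗ_injective i).mp inferInstance) x).moduleIsTorsionFree
    _ fun c v => map_smul _ c v

lemma grank_le_of_mono (i : M ⟶ N) [Mono i] (hN : Coh.IsCoh N) : grank M ≤ grank N :=
  let _ : Field (X.presheaf.stalk (genericPoint X)) := inferInstanceAs (Field X.functionField)
  have := finite_generic hN
  LinearMap.finrank_le_finrank_of_injective
    ((Modules.StalkModule.mono_iff_stalkMapₗ_injective i).mp inferInstance _)

/-- Generic germs detect sections of a torsion-free quasi-coherent module. -/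
lemma eq_zero_of_germ_generic [M.IsQuasicoherent] (hT : TorSh.IsTorsionFree M) {U : X.Opens}
    {x : X} (hx : x ∈ U) (t : Γ(M, U))
    (h : M.presheaf.germ U _ (LocFree.generic_mem hx) t = 0) : M.presheaf.germ U x hx t = 0 := by
  obtain ⟨V, hV, hxV, hVU⟩ := exists_isAffineOpen_mem_and_subset hx
  have h1 : M.presheaf.germ V _ (LocFree.generic_mem hxV) (M.presheaf.map (homOfLE hVU).op t) = 0 :=
    (TopCat.Presheaf.germ_res_apply M.presheaf (homOfLE hVU) _ (LocFree.generic_mem hxV) t).trans h
  obtain ⟨f, hf, hft⟩ := (QCoh.Stalk.germ_eq_zero_iff M hV (LocFree.generic_mem hxV) _).mp h1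
  rw [← TopCat.Presheaf.germ_res_apply M.presheaf (homOfLE hVU) x hxV t]
  have h2 := congrArg (M.presheaf.germ V x hxV) hft
  rw [Modules.StalkModule.germ_smul, map_zero] at h2
  have := hT x
  exact (smul_eq_zero_iff_right fun h0 => LocFree.ne_zero_of_mem_basicOpen hf
    (germ_injective_of_isIntegral X x hxV (h0.trans (map_zero _).symm))).mp h2

/-- A morphism out of a torsion-free module which is generically injective is a monomorphism. -/
lemma mono_of_generic_injective [M.IsQuasicoherent] (hT : TorSh.IsTorsionFree M) (f : M ⟶ N)
    (h : Function.Injective (Modules.StalkModule.stalkMapₗ f (genericPoint X))) : Mono f := by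
  rw [Modules.Stalk.mono_iff_app_injective]
  intro U
  refine (injective_iff_map_eq_zero (f.app U).hom).mpr fun t ht => ?_
  refine Modules.Support.eq_zero_of_germ_eq_zero t fun x hx _ =>
    eq_zero_of_germ_generic hT hx t (h ?_)
  rw [Modules.StalkModule.stalkMapₗ_germ, map_zero]
  exact (congrArg _ ht).trans (map_zero _)

/-- A morphism into a torsion-free module which vanishes generically is zero. -/
lemma eq_zero_of_generic [N.IsQuasicoherent] (hT : TorSh.IsTorsionFree N) (f : M ⟶ N)
    (h : Modules.StalkModule.stalkMapₗ f (genericPoint X) = 0) : f = 0 := by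
  refine Scheme.Modules.hom_ext _ _ fun U => ConcreteCategory.ext_apply fun t => ?_
  refine Modules.Support.eq_zero_of_germ_eq_zero _ fun x hx _ =>
    eq_zero_of_germ_generic hT hx _ ?_
  rw [← Modules.StalkModule.stalkMapₗ_germ, h]
  rfl

/-- A torsion-free coherent module of generic rank zero is zero. -/
lemma isZero_of_grank_eq_zero (h : Coh.IsCoh M) (hT : TorSh.IsTorsionFree M) (h0 : grank M = 0) :
    IsZero M := by
  have := h.1
  let _ : Field (X.presheaf.stalk (genericPoint X)) := inferInstanceAs (Field X.functionField)
  have := finite_generic h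
  have : Subsingleton (M.presheaf.stalk (genericPoint X)) := Module.finrank_zero_iff.mp h0
  rw [IsZero.iff_id_eq_zero]
  exact eq_zero_of_generic hT _ (LinearMap.ext fun v => Subsingleton.elim _ _)

lemma subsingleton_of_grank_eq_zero (h : Coh.IsCoh M) (h0 : grank M = 0) :
    Subsingleton (M.presheaf.stalk (genericPoint X)) := by
  let _ : Field (X.presheaf.stalk (genericPoint X)) := inferInstanceAs (Field X.functionField)
  have := finite_generic h
  exact Module.finrank_zero_iff.mp h0

end

section Curve

variable (k : Type u) [Field k] [IsAlgClosed k] [IsIntegral X] [X.Over (Spec (CommRingCat.of k))]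
  [Smooth (X ↘ Spec (CommRingCat.of k))] (hdim : topologicalKrullDim X = 1)

include k hdim

/-- On a smooth curve a torsion-free coherent module is locally free of its generic rank. -/
theorem isFinLocFreeOfRank_grank (hM : Coh.IsCoh M) (hT : TorSh.IsTorsionFree M) :
    FlatMod.IsFinLocFreeOfRank (grank M) M :=
  LocFree.isFinLocFreeOfRank (isPrincipal_stalk k hdim) hM hT

variable {n : ℕ} (hE : FlatMod.IsFinLocFreeOfRank n N)

include hE

/-- On a smooth curve a coherent submodule of a vector bundle is a vector bundle. -/
theorem sub_rank (i : M ⟶ N) [Mono i] (hM : Coh.IsCoh M) :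
    FlatMod.IsFinLocFreeOfRank (grank M) M ∧ grank M ≤ n := by
  have hN := TensorMod.LocFree.of_rank hE
  exact ⟨isFinLocFreeOfRank_grank k hdim hM (isTorsionFree_of_mono i (Coherent.isTorsionFree hN)),
    (grank_le_of_mono i (Coherent.isCoh hN)).trans_eq (grank_eq_of_rank hE)⟩

end Curve

end Groth.Agent.Lib.CurveBundle.Rank
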