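import Groth.Agent.Lib.CurveBundle.ResD
import Groth.Agent.Lib.TensorMod.Pullback

/-!
# Generalized parabolic bundles on a curve

A monomorphism of generalized parabolic bundles of one rank does not lower the parabolic degree; this
gives the kernels, images and cokernels of morphisms of semistable objects of one slope, and the
simplicity of stable ones.
-/

set_option autoImplicit false
universe u

open CategoryTheory Limits AlgebraicGeometry TopologicalSpace

namespace Groth.Agent.Lib.CurveBundle.GP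

open Groth.Agent.Lib Degree Slope TensorMod.Basic TensorMod.Free ParSh

variable {X : Scheme.{u}}

/-- Multiplication by a function passes through the tensor product. -/
lemma tmap_scal (M N : X.Modules) (r : Γ(X, ⊤)) :
    tmap (EndAlg.scal M r) (𝟙 N) = EndAlg.scal (CohB1.tensorMod M N) r := by
  refine hom_ext_pairM fun U m n => ?_
  rw [pairM_tmap, EndAlg.scal_app, TensorMod.Pullback.pairM_smul_left,
    ← Category.id_comp (EndAlg.scal (CohB1.tensorMod M N) r), pairM_comp, EndAlg.scal_app]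
  rfl

lemma additive_tensorBy (N : X.Modules) : (tensorBy N).Additive := by
  have : PreservesColimitsOfShape (CategoryTheory.Discrete PEmpty.{1}) (tensorBy N) :=
    (preservesSmallestColimits_of_preservesColimits (tensorBy N)).preservesColimitsOfShape
  have : (tensorBy N).PreservesZeroMorphisms :=
    Functor.preservesZeroMorphisms_of_preserves_initial_object
  have : PreservesColimitsOfShape (CategoryTheory.Discrete WalkingPair) (tensorBy N) :=
    (preservesSmallestColimits_of_preservesColimits (tensorBy N)).preservesColimitsOfShape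
  have := preservesBinaryBiproducts_of_preservesBinaryCoproducts (tensorBy N)
  exact Functor.additive_of_preservesBinaryBiproducts _

variable {k : Type u} [Field k] [X.Over (Spec (CommRingCat.of k))] {I : X.IdealSheafData}

lemma fib_comp {A B C : X.Modules} (f : A ⟶ B) (g : B ⟶ C) (x : fibD X I A) :
    fibDMap k X I (f ≫ g) x = fibDMap k X I g (fibDMap k X I f x) := by
  show Canon.HHlin k (KoszTw.tensorMap _ _) 0 x =
    Canon.HHlin k (KoszTw.tensorMap _ _) 0 (Canon.HHlin k (KoszTw.tensorMap _ _) 0 x)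
  rw [ResD.tensorMap_eq, ResD.tensorMap_eq, ResD.tensorMap_eq, ResD.HHlin_eq, ResD.HHlin_eq,
    ResD.HHlin_eq, ← LinearMap.comp_apply, ← Curves.LES.mapK_comp, ← tmap_comp, Category.comp_id]

lemma fib_id {A : X.Modules} (x : fibD X I A) : fibDMap k X I (𝟙 A) x = x := by
  show Canon.HHlin k (KoszTw.tensorMap _ _) 0 x = x
  rw [ResD.tensorMap_eq, ResD.HHlin_eq, tmap_id, Curves.LES.mapK_id]
  rfl

lemma mapK_sub {A B : X.Modules} (φ ψ : A ⟶ B) {n : ℕ} (x : Coh.HH X A n) :
    Curves.LES.mapK k (φ - ψ) n x = Curves.LES.mapK k φ n x - Curves.LES.mapK k ψ n x := by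
  refine eq_sub_of_add_eq ?_
  have h : Curves.LES.toAbMap (φ - ψ) + Curves.LES.toAbMap ψ = Curves.LES.toAbMap φ := by
    rw [← Functor.map_add, sub_add_cancel]
  change Sheaf.H.map (Curves.LES.toAbMap (φ - ψ)) n x + Sheaf.H.map (Curves.LES.toAbMap ψ) n x =
    Sheaf.H.map (Curves.LES.toAbMap φ) n x
  rw [← Sheaf.H.map_add_apply, h]

lemma fib_add {A B : X.Modules} (f g : A ⟶ B) (x : fibD X I A) :
    fibDMap k X I (f - g) x = fibDMap k X I f x - fibDMap k X I g x := by
  show Canon.HHlin k (KoszTw.tensorMap _ _) 0 x = Canon.HHlin k (KoszTw.tensorMap _ _) 0 x -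
    Canon.HHlin k (KoszTw.tensorMap _ _) 0 x
  rw [ResD.tensorMap_eq, ResD.tensorMap_eq, ResD.tensorMap_eq,
    show tmap (f - g) (𝟙 (ClSub.quotMod I)) = tmap f (𝟙 _) - tmap g (𝟙 _) from
      haveI := additive_tensorBy (ClSub.quotMod I)
      (tensorBy (ClSub.quotMod I)).map_sub]
  rw [ResD.HHlin_eq, ResD.HHlin_eq, ResD.HHlin_eq]
  exact mapK_sub _ _ x

lemma fib_scal (A : X.Modules) (c : k) (x : fibD X I A) :
    fibDMap k X I (EndAlg.scal A (EndAlg.cst X k c)) x = c • x := by
  show Canon.HHlin k (KoszTw.tensorMap _ _) 0 x = c • x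
  rw [ResD.tensorMap_eq, tmap_scal]
  rfl

lemma fib_injective_of_isIso {A B : X.Modules} (f : A ⟶ B) [IsIso f] :
    Function.Injective (fibDMap k X I f) :=
  Function.LeftInverse.injective (g := fibDMap k X I (inv f)) fun x => by
    rw [← fib_comp, IsIso.hom_inv_id, fib_id]

lemma comp_mem {A B C : X.Modules} {F₁' : Submodule k (fibD X I C)} (p : A ⟶ B) (j : B ⟶ C)
    {f : A ⟶ C} (h : p ≫ j = f) (x : fibD X I A) (hx : fibDMap k X I f x ∈ F₁') :
    fibDMap k X I j (fibDMap k X I p x) ∈ F₁' := by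
  subst h
  exact fib_comp (k := k) p j x ▸ hx

variable [hC : CurveCtx k X] (hI : FGA.IsEffCartier I) {α : ℝ}

lemma gp_eq {E : X.Modules} {n : ℕ} (hE : FlatMod.IsFinLocFreeOfRank n E)
    (F₁ : Submodule k (fibD X I E)) :
    gpDeg k X α E F₁ n = (dg k E : ℝ) + α * (Module.finrank k F₁ : ℝ) := by
  rw [gpDeg, gpWt, (bundle (k := k) hE).2.2.2]

include hC hI

/-- Parabolic degree is monotone along monomorphisms of bundles of one rank. -/
theorem mono_le (hα0 : 0 ≤ α) (hα1 : α < 1) {E F : X.Modules} {n : ℕ}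
    (hE : FlatMod.IsFinLocFreeOfRank n E) (hF : FlatMod.IsFinLocFreeOfRank n F)
    (F₁ : Submodule k (fibD X I E)) (F₁' : Submodule k (fibD X I F)) (f : E ⟶ F) [Mono f]
    (hf : IsGPHom k X I F₁ F₁' f) :
    gpDeg k X α E F₁ n ≤ gpDeg k X α F F₁' n ∧
      (gpDeg k X α E F₁ n = gpDeg k X α F F₁' n ↔
        IsIso f ∧ (0 < α → Submodule.map (fibDMap k X I f) F₁ = F₁')) := by
  obtain ⟨hEc, -, eE, -⟩ := bundle (k := k) hE
  obtain ⟨hFc, -, eF, -⟩ := bundle (k := k) hF
  have hfd := (ResD.finrank_fib k hI hE).1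
  have hfd' := (ResD.finrank_fib k hI hF).1
  have he := ResD.finrank_ker_le k hI hE hF f
  set φ := fibDMap k X I f with hφ
  have hrn := LinearMap.finrank_range_add_finrank_ker (φ.domRestrict F₁)
  rw [LinearMap.range_domRestrict] at hrn
  have hker : Module.finrank k (LinearMap.ker (φ.domRestrict F₁)) ≤
      Module.finrank k (LinearMap.ker φ) := by
    refine LinearMap.finrank_le_finrank_of_injective
      (f := LinearMap.codRestrict (LinearMap.ker φ)
        (F₁.subtype.comp (LinearMap.ker (φ.domRestrict F₁)).subtype) fun x => x.2) fun a b h => ?_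
    exact Subtype.ext (Subtype.ext (congrArg Subtype.val h :))
  have hle : Module.finrank k (Submodule.map φ F₁) ≤ Module.finrank k F₁' :=
    Submodule.finrank_mono hf
  have hd0 : dg k E ≤ dg k F := dg_le_of_mono k f hEc hFc (by omega)
  have key : (Module.finrank k F₁ : ℝ) ≤ Module.finrank k F₁' + ((dg k F : ℝ) - dg k E) := by
    have : (Module.finrank k F₁ : ℤ) ≤ Module.finrank k F₁' + (dg k F - dg k E) := by
      have h1 : Module.finrank k F₁ ≤ Module.finrank k F₁' + Module.finrank k (LinearMap.ker φ) := by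
        omega
      linarith [(Nat.cast_le (α := ℤ)).mpr h1]
    exact_mod_cast this
  have hd : (0 : ℝ) ≤ (dg k F : ℝ) - dg k E := by
    rw [sub_nonneg]; exact_mod_cast hd0
  rw [gp_eq hE, gp_eq hF]
  refine ⟨by nlinarith, fun heq => ?_, fun ⟨hiso, hmap⟩ => ?_⟩
  · have hdz : (dg k F : ℝ) - dg k E = 0 := by nlinarith
    have hdz' : dg k E = dg k F := by exact_mod_cast (sub_eq_zero.mp hdz).symm
    have := isIso_of_mono k f hEc hFc (by omega) hdz'
    refine ⟨this, fun hα => ?_⟩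
    have h2 : (Module.finrank k F₁ : ℝ) = Module.finrank k F₁' :=
      mul_left_cancel₀ hα.ne' (by linarith)
    refine Submodule.eq_of_le_of_finrank_eq hf ?_
    rw [← (Submodule.equivMapOfInjective φ (fib_injective_of_isIso f) F₁).finrank_eq]
    exact_mod_cast h2
  · rw [dg_congr k (asIso f)]
    rcases hα0.eq_or_lt with h | h
    · simp [← h]
    · rw [← hmap h, (Submodule.equivMapOfInjective φ (fib_injective_of_isIso f) F₁).finrank_eq]

/-- Parabolic degrees in a short exact sequence of bundles. -/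
theorem gp_add {T : ShortComplex X.Modules} (hT : T.ShortExact) {a b c : ℕ}
    (h₁ : FlatMod.IsFinLocFreeOfRank a T.X₁) (h₂ : FlatMod.IsFinLocFreeOfRank b T.X₂)
    (h₃ : FlatMod.IsFinLocFreeOfRank c T.X₃) (F₁ : Submodule k (fibD X I T.X₂)) :
    gpDeg k X α T.X₂ F₁ b = gpDeg k X α T.X₁ (gpInduced k X I T.f F₁) a +
      gpDeg k X α T.X₃ (gpCoinduced k X I T.g F₁) c := by
  obtain ⟨hinj, hex, -⟩ := ResD.fib_exact k hI hT h₁ h₂ h₃
  have := (ResD.finrank_fib k hI h₂).1
  have hdg := dg_add k hT (bundle (k := k) h₁).1 (bundle (k := k) h₂).1 (bundle (k := k) h₃).1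
  set φ := fibDMap k X I T.f
  set ψ := fibDMap k X I T.g
  have hrn := LinearMap.finrank_range_add_finrank_ker (ψ.domRestrict F₁)
  rw [LinearMap.range_domRestrict] at hrn
  have e : Module.finrank k (LinearMap.ker (ψ.domRestrict F₁)) =
      Module.finrank k (F₁.comap φ) := by
    let g : F₁.comap φ →ₗ[k] LinearMap.ker (ψ.domRestrict F₁) :=
      LinearMap.codRestrict _ (LinearMap.codRestrict F₁ (φ.comp (F₁.comap φ).subtype) fun x => x.2)
        fun x => hex.apply_apply_eq_zero (x : fibD X I T.X₁)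
    refine (LinearEquiv.ofBijective g ⟨fun x y h => ?_, fun y => ?_⟩).finrank_eq.symm
    · exact Subtype.ext (hinj (congrArg (fun z => (z.1 : fibD X I T.X₂)) h :))
    · obtain ⟨x, hx⟩ := (hex y.1.1).mp (LinearMap.mem_ker.mp y.2)
      exact ⟨⟨x, show φ x ∈ F₁ by rw [hx]; exact y.1.2⟩, Subtype.ext (Subtype.ext hx)⟩
  rw [gp_eq h₁, gp_eq h₂, gp_eq h₃, hdg, ← hrn, e]
  show (_ : ℝ) = ((dg k T.X₁ : ℝ) + α * (Module.finrank k (F₁.comap φ) : ℝ)) +
    ((dg k T.X₃ : ℝ) + α * (Module.finrank k (F₁.map ψ) : ℝ))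
  push_cast
  ring

variable {E F : X.Modules} {n m : ℕ}

/-- The image of a nonzero morphism of semistable objects of one slope, with its equalities. -/
theorem image_eq (hα0 : 0 ≤ α) (hn : 0 < n) (hm : 0 < m)
    (hE : FlatMod.IsFinLocFreeOfRank n E) (hF : FlatMod.IsFinLocFreeOfRank m F)
    (F₁ : Submodule k (fibD X I E)) (F₁' : Submodule k (fibD X I F))
    (hEss : IsGPSemistable k X I α F₁ n) (hFss : IsGPSemistable k X I α F₁' m)
    (hμ : gpDeg k X α E F₁ n * (m : ℝ) = gpDeg k X α F F₁' m * (n : ℝ))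
    (f : E ⟶ F) (hf : IsGPHom k X I F₁ F₁' f) (hf0 : f ≠ 0) :
    ∃ (J : X.Modules) (j : J ⟶ F) (p : E ⟶ J) (q i : ℕ), Mono j ∧ Epi p ∧ p ≫ j = f ∧
      n = q + i ∧ 0 < i ∧ FlatMod.IsFinLocFreeOfRank q (kernel f) ∧
      FlatMod.IsFinLocFreeOfRank i J ∧
      gpDeg k X α J (gpInduced k X I j F₁') i * (m : ℝ) = gpDeg k X α F F₁' m * (i : ℝ) ∧
      (0 < q → gpDeg k X α (kernel f) (gpInduced k X I (kernel.ι f) F₁) q * (n : ℝ) =
        gpDeg k X α E F₁ n * (q : ℝ)) := by
  obtain ⟨hEc, hET, eE, -⟩ := bundle (k := k) hE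
  obtain ⟨hFc, hFT, eF, -⟩ := bundle (k := k) hF
  obtain ⟨J, p, j, hp, hj, hpj, hJ, hK, hg, -⟩ := exists_image k f hEc hFc
  have hqb := (sub_bundle (k := k) (kernel.ι f) hK hET).1
  have hib := (sub_bundle (k := k) j hJ hFT).1
  set q := gr k (kernel f) with hq
  set i := gr k J with hi
  have hi0 : 0 < i := Nat.pos_of_ne_zero fun h0 => hf0 (eq_zero_of_image k p j hpj hJ hFT h0)
  have hT : (ShortComplex.mk (kernel.ι f) p (by
      rw [← cancel_mono j, Category.assoc, hpj, kernel.condition, zero_comp])).ShortExact :=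
    { exact := ShortComplex.exact_of_f_is_kernel _
        (KernelFork.IsLimit.ofι' _ _ fun {W} t ht => ⟨kernel.lift f t (by
          rw [← hpj, ← Category.assoc, ht, zero_comp]), kernel.lift_ι _ _ _⟩) }
  have hadd := gp_add hI (α := α) hT hqb hE hib F₁
  dsimp only at hadd
  have hfi := (ResD.finrank_fib k hI hib).1
  have hle : gpCoinduced k X I p F₁ ≤ gpInduced k X I j F₁' :=
    Submodule.map_le_iff_le_comap.mpr fun x hx =>
      Submodule.mem_comap.mpr (Submodule.mem_comap.mpr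
        (comp_mem p j hpj x (hf (Submodule.mem_map_of_mem hx))))
  have hle' : gpDeg k X α J (gpCoinduced k X I p F₁) i ≤ gpDeg k X α J (gpInduced k X I j F₁') i := by
    rw [gp_eq hib, gp_eq hib]
    gcongr
    exact Submodule.finrank_mono hle
  have hnq : (n : ℝ) = q + i := by exact_mod_cast (show n = q + i by omega)
  have h1 : gpDeg k X α (kernel f) (gpInduced k X I (kernel.ι f) F₁) q * (n : ℝ) ≤
      gpDeg k X α E F₁ n * (q : ℝ) := by
    rcases Nat.eq_zero_or_pos q with h0 | h0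
    · obtain ⟨h1, h2⟩ := ResD.finrank_fib k hI hqb
      have hsub : Module.finrank k (gpInduced k X I (kernel.ι f) F₁) = 0 := by
        have := Submodule.finrank_le (gpInduced k X I (kernel.ι f) F₁)
        rw [h0, Nat.cast_zero, zero_mul] at h2
        omega
      rw [gp_eq hqb, hsub, (sub_zero_rank (k := k) (kernel.ι f) hK hET h0).2, h0]
      simp
    · exact hEss _ q _ inferInstance h0 hqb
  have h2 := hFss J i j hj hi0 hib
  have hn' : (0 : ℝ) < n := by exact_mod_cast hn
  have hm' : (0 : ℝ) < m := by exact_mod_cast hm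
  set gK := gpDeg k X α (kernel f) (gpInduced k X I (kernel.ι f) F₁) q
  set gJ := gpDeg k X α J (gpInduced k X I j F₁') i
  set gJ' := gpDeg k X α J (gpCoinduced k X I p F₁) i
  set gE := gpDeg k X α E F₁ n
  set gF := gpDeg k X α F F₁' m
  have e1 : gE * (n : ℝ) = gK * n + gJ' * n := by rw [hadd, add_mul]
  have e2 : gE * (n : ℝ) = gE * q + gE * i := by rw [hnq, mul_add]
  have e3 := mul_le_mul_of_nonneg_right hle' hn'.le
  have hlow : gE * i ≤ gJ * n := by linarith
  have heq : gJ * m = gF * i := by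
    refine le_antisymm h2 (le_of_mul_le_mul_right ?_ hn')
    calc gF * i * n = gE * i * m := by rw [mul_right_comm, ← hμ]; ring
      _ ≤ gJ * n * m := mul_le_mul_of_nonneg_right hlow hm'.le
      _ = gJ * m * n := by ring
  refine ⟨J, j, p, q, i, hj, hp, hpj, by omega, hi0, hqb, hib, heq, fun _ => le_antisymm h1 ?_⟩
  have h3 : gJ * n = gE * i := by
    refine mul_right_cancel₀ hm'.ne' ?_
    calc gJ * n * m = gJ * m * n := by ring
      _ = gF * i * n := by rw [heq]
      _ = gE * i * m := by rw [mul_right_comm, ← hμ]; ring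
  linarith

/-- The cokernel of a morphism of semistable objects of one slope is a bundle. -/
theorem cokernel_bundle (hα0 : 0 ≤ α) (hα1 : α < 1) (hn : 0 < n) (hm : 0 < m)
    (hE : FlatMod.IsFinLocFreeOfRank n E) (hF : FlatMod.IsFinLocFreeOfRank m F)
    (F₁ : Submodule k (fibD X I E)) (F₁' : Submodule k (fibD X I F))
    (hEss : IsGPSemistable k X I α F₁ n) (hFss : IsGPSemistable k X I α F₁' m)
    (hμ : gpDeg k X α E F₁ n * (m : ℝ) = gpDeg k X α F F₁' m * (n : ℝ))
    (f : E ⟶ F) (hf : IsGPHom k X I F₁ F₁' f) :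
    ∃ r₀ : ℕ, FlatMod.IsFinLocFreeOfRank r₀ (cokernel f) := by
  have := hC.integral
  have := hC.locNoeth
  by_cases hf0 : f = 0
  · subst hf0
    exact ⟨m, TensorMod.LocFree.rank_of_iso (cokernelZeroIsoTarget).symm hF⟩
  obtain ⟨J, j, p, q, i, hj, hp, hpj, -, hi0, -, hib, heq, -⟩ :=
    image_eq hI hα0 hn hm hE hF F₁ F₁' hEss hFss hμ f hf hf0
  obtain ⟨hFc, hFT, -, -⟩ := bundle (k := k) hF
  obtain ⟨hJ, -, eJ, -⟩ := bundle (k := k) hib
  obtain ⟨G, l, a, hl, ha, hal, hG, hgr, hT, hc⟩ := Saturation.exists_saturation j hJ hFc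
  obtain ⟨hGb, -⟩ := sub_bundle (k := k) l hG hFT
  have hgi : gr k G = i := hgr.trans eJ
  rw [hgi] at hGb
  have hom : IsGPHom k X I (gpInduced k X I j F₁') (gpInduced k X I l F₁') a := by
    rintro _ ⟨x, hx, rfl⟩
    show fibDMap k X I l (fibDMap k X I a x) ∈ F₁'
    rw [← fib_comp, hal]
    exact hx
  obtain ⟨h1, h2⟩ := mono_le hI hα0 hα1 hib hGb _ _ a hom
  have h3 := hFss G i l hl hi0 hGb
  have hm' : (0 : ℝ) < m := by exact_mod_cast hm
  obtain ⟨_, -⟩ := h2.mp (le_antisymm h1 (le_of_mul_le_mul_right (h3.trans heq.ge) hm'))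
  have e : cokernel f ≅ cokernel l :=
    cokernelIsoOfEq hpj.symm ≪≫ cokernelEpiComp p j ≪≫ cokernelIsoOfEq hal.symm ≪≫
      cokernelEpiComp a l
  exact ⟨_, TensorMod.LocFree.rank_of_iso e.symm (rank_gr k hc hT)⟩

/-- Morphisms of stable objects of one slope. -/
theorem eq_zero_or_isIso (hα0 : 0 ≤ α) (hα1 : α < 1) (hn : 0 < n) (hm : 0 < m)
    (hE : FlatMod.IsFinLocFreeOfRank n E) (hF : FlatMod.IsFinLocFreeOfRank m F)
    (F₁ : Submodule k (fibD X I E)) (F₁' : Submodule k (fibD X I F))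
    (hEss : IsGPSemistable k X I α F₁ n) (hEst : IsGPStable k X I α F₁ n)
    (hFss : IsGPSemistable k X I α F₁' m) (hFst : IsGPStable k X I α F₁' m)
    (hμ : gpDeg k X α E F₁ n * (m : ℝ) = gpDeg k X α F F₁' m * (n : ℝ))
    (f : E ⟶ F) (hf : IsGPHom k X I F₁ F₁' f) :
    f = 0 ∨ (IsIso f ∧ (0 < α → Submodule.map (fibDMap k X I f) F₁ = F₁')) := by
  refine or_iff_not_imp_left.mpr fun hf0 => ?_
  obtain ⟨J, j, p, q, i, hj, hp, hpj, hnqi, hi0, hqb, hib, heq, hKeq⟩ :=
    image_eq hI hα0 hn hm hE hF F₁ F₁' hEss hFss hμ f hf hf0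
  obtain ⟨hEc, hET, eE, -⟩ := bundle (k := k) hE
  obtain ⟨hFc, -, eF, -⟩ := bundle (k := k) hF
  obtain ⟨hK, -, eK, -⟩ := bundle (k := k) hqb
  obtain ⟨hJ, -, eJ, -⟩ := bundle (k := k) hib
  have hq0 : q = 0 := Nat.eq_zero_of_not_pos fun h0 =>
    (hEst _ q _ inferInstance h0 (by omega) hqb).ne (hKeq h0)
  have him : i = m := by
    rcases (show gr k J ≤ gr k F from gr_le_of_mono k j hFc).lt_or_eq with h | h
    · exact absurd heq (hFst J i j hj hi0 (by omega) hib).ne
    · omega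
  obtain rfl : n = m := by omega
  have : Mono f := Preadditive.mono_of_kernel_zero
    ((sub_zero_rank (k := k) (kernel.ι f) hK hET (by omega)).1.eq_of_src _ _)
  have hn' : (n : ℝ) ≠ 0 := by exact_mod_cast hn.ne'
  exact (mono_le hI hα0 hα1 hE hF F₁ F₁' f hf).2.mp (mul_right_cancel₀ hn' hμ)

/-- Stable objects are simple. -/
theorem exists_scal [IsAlgClosed k] [IsProper (X ↘ Spec (CommRingCat.of k))] (hα0 : 0 ≤ α)
    (hα1 : α < 1) (hn : 0 < n) (hE : FlatMod.IsFinLocFreeOfRank n E)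
    (F₁ : Submodule k (fibD X I E)) (hEss : IsGPSemistable k X I α F₁ n)
    (hEst : IsGPStable k X I α F₁ n) (f : E ⟶ E) (hf : IsGPHom k X I F₁ F₁ f) :
    ∃ c : k, f = EndAlg.scal E (EndAlg.cst X k c) := by
  have := hC.integral
  let _ := EndAlg.algEnd k E
  have : Nontrivial (End E) := ⟨⟨1, 0, fun h10 => Indec.not_isZero_of_rank hn hE
    ((IsZero.iff_id_eq_zero E).mpr h10)⟩⟩
  let f' : End E := f
  have hint : _root_.IsIntegral k f' := EndAlg.isIntegral_end k hE f
  obtain ⟨c, hc⟩ := IsAlgClosed.exists_root (minpoly k f')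
    (minpoly.degree_pos hint).ne'
  refine ⟨c, sub_eq_zero.mp (by_contra fun h0 => ?_)⟩
  have hom : IsGPHom k X I F₁ F₁ (f - EndAlg.scal E (EndAlg.cst X k c)) := by
    rintro _ ⟨x, hx, rfl⟩
    rw [fib_add, fib_scal]
    exact sub_mem (hf ⟨x, hx, rfl⟩) (F₁.smul_mem c hx)
  obtain ⟨hiso, -⟩ := (eq_zero_or_isIso hI hα0 hα1 hn hn hE hE F₁ F₁ hEss hEst hEss hEst rfl _
    hom).resolve_left h0
  have hu : IsUnit (f' - algebraMap k (End E) c) := (isUnit_iff_isIso _).mpr hiso
  obtain ⟨q, hq⟩ := Polynomial.dvd_iff_isRoot.mpr hc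
  have h1 := minpoly.aeval k f'
  rw [hq, map_mul, map_sub, Polynomial.aeval_X, Polynomial.aeval_C] at h1
  have hq0 : q ≠ 0 := fun h => minpoly.ne_zero hint (by rw [hq, h, mul_zero])
  have hlt : q.degree < (minpoly k f').degree := by
    rw [hq, Polynomial.degree_mul, Polynomial.degree_X_sub_C]
    obtain ⟨d, hd⟩ : ∃ d : ℕ, q.degree = d := ⟨_, Polynomial.degree_eq_natDegree hq0⟩
    rw [hd]
    exact_mod_cast Nat.lt_one_add_iff.mpr le_rfl
  exact absurd (minpoly.degree_le_of_ne_zero k _ hq0 (hu.mul_right_eq_zero.mp h1)) (not_le.mpr hlt)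

end Groth.Agent.Lib.CurveBundle.GP
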