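import Groth.Agent.Lib.CurveBundle.Slope
import Groth.Agent.Lib.CurveBundle.Twist
import Groth.Agent.Lib.ClSub.Quot
import Groth.Agent.Lib.ClSub.Cartier
import Groth.Agent.Lib.Modules.SupportOps
import Groth.Agent.Lib.TensorMod.Free
import Groth.Agent.Lib.TensorMod.Colimit
import Groth.Prelude.Def_ParBun2
import Groth.Prelude.Def_FGA

/-!
# Restriction of bundles to an effective divisor of a curve

`H⁰(E ⊗ O_D)` has dimension rank · deg D; on short exact sequences of bundles it is exact; for a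
monomorphism of bundles of one rank its kernel is at most the drop of degree.
-/

set_option autoImplicit false
universe u

open CategoryTheory Limits AlgebraicGeometry Opposite TopologicalSpace

namespace Groth.Agent.Lib.CurveBundle.ResD

open Groth.Agent.Lib Degree Slope TensorMod.Basic

section General

variable {X : Scheme.{u}}

lemma tensorMap_eq {M M' N N' : X.Modules} (f : M ⟶ M') (g : N ⟶ N') :
    KoszTw.tensorMap f g = tmap f g := by
  have e₁ : (DCoh.tensorBi.map f).app N = tmap f (𝟙 N) :=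
    congrArg DCoh.shP.map (MonoidalCategory.tensorHom_id _ _).symm
  have e₂ : (DCoh.tensorBi.obj M').map g = tmap (𝟙 M') g :=
    congrArg DCoh.shP.map (MonoidalCategory.id_tensorHom _ _).symm
  rw [KoszTw.tensorMap, e₁, e₂]
  exact (tmap_comp _ _ _ _).symm.trans (by simp)

lemma HHlin_eq {k : Type u} [Field k] [X.Over (Spec (CommRingCat.of k))] {M N : X.Modules}
    (f : M ⟶ N) (n : ℕ) : Canon.HHlin k f n = Curves.LES.mapK k f n :=
  LinearMap.ext fun _ => rfl

lemma zw {S : ShortComplex X.Modules} (_ : S.Exact) : S.f ≫ S.g = 0 := S.zero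

/-- `E ⊗ -` carries cokernels to cokernels. -/
lemma exact_tensor (E : X.Modules) {S : ShortComplex X.Modules} (hS : S.ShortExact) :
    (ShortComplex.mk (tmap (𝟙 E) S.f) (tmap (𝟙 E) S.g)
      (by rw [← tmap_comp, S.zero, Category.id_comp]
          exact ((tensorFunctor X).obj E).map_zero _ _)).Exact ∧ Epi (tmap (𝟙 E) S.g) := by
  let G := (tensorFunctor X).obj E
  have := hS.epi_g
  exact ⟨ShortComplex.exact_of_g_is_cokernel _
    (isColimitCoforkMapOfIsColimit' G S.zero hS.gIsCokernel), G.map_epi S.g⟩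

/-- `- ⊗ N` carries cokernels to cokernels. -/
lemma exact_tensor_left (N : X.Modules) {S : ShortComplex X.Modules} (hS : S.ShortExact) :
    (ShortComplex.mk (tmap S.f (𝟙 N)) (tmap S.g (𝟙 N))
      (by rw [← tmap_comp, S.zero, Category.id_comp, TensorMod.Integral.tmap_zero_left])).Exact ∧
      Epi (tmap S.g (𝟙 N)) := by
  let G := tensorBy N
  have := hS.epi_g
  exact ⟨ShortComplex.exact_of_g_is_cokernel _
    (isColimitCoforkMapOfIsColimit' G S.zero hS.gIsCokernel), G.map_epi S.g⟩

end General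

variable {X : Scheme.{u}} (k : Type u) [Field k] [X.Over (Spec (CommRingCat.of k))]
  [hC : CurveCtx k X] {I : X.IdealSheafData} (hI : FGA.IsEffCartier I)

include hC

/-- Sheaves of rank zero: finite sections, counted by the degree. -/
lemma dim_eq {Q : X.Modules} (hQ : Coh.IsCoh Q) (h : gr k Q = 0) :
    FiniteDimensional k (Coh.HH X Q 0) ∧ (Module.finrank k (Coh.HH X Q 0) : ℤ) = dg k Q := by
  let _ := hC.integral
  have := hC.noethSpace
  refine ⟨(hC.good Q hQ).fin₀, ?_⟩
  have h0 : Rank.grank Q = 0 := h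
  rw [dg, h0, Nat.cast_zero, zero_mul, sub_zero,
    (isTorsion k (Rank.subsingleton_of_grank_eq_zero hQ h0)).euler hC.dim_le]

/-- An epimorphism with kernel of rank zero is surjective on sections. -/
lemma surjective_of_epi {A B : X.Modules} (f : A ⟶ B) [Epi f] (hA : Coh.IsCoh A) (hB : Coh.IsCoh B)
    (h : gr k A = 0) : Function.Surjective (Curves.LES.mapK k f 0) := by
  let _ := hC.integral
  have := hC.noethSpace
  obtain ⟨hK, hg, -⟩ := kernel_ses k f hA hB
  have hS : (ShortComplex.mk (kernel.ι f) f (kernel.condition f)).ShortExact :=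
    { exact := ShortComplex.exact_kernel f }
  have : Subsingleton (Coh.HH X (kernel f) 1) :=
    (isTorsion k (Rank.subsingleton_of_grank_eq_zero hK (show gr k (kernel f) = 0 by omega))
      ).subsingleton_HH_succ hC.dim_le 0
  exact fun x => (Curves.LES.exactK₃ k hS 0 1 rfl x).mp (Subsingleton.elim _ _)

/-- A map of sheaves of rank zero on sections: the kernel. -/
lemma ker_eq {A B : X.Modules} (f : A ⟶ B) (hA : Coh.IsCoh A) (hB : Coh.IsCoh B) (h : gr k A = 0)
    (h' : gr k B = 0) :
    (Module.finrank k (LinearMap.ker (Curves.LES.mapK k f 0)) : ℤ) = dg k (kernel f) ∧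
      dg k A - dg k B = dg k (kernel f) - dg k (cokernel f) := by
  let _ := hC.integral
  obtain ⟨J, p, j, hp, hj, hpj, hJ, hK, hg, hd⟩ := exists_image k f hA hB
  obtain ⟨hc, hgj, hdj⟩ := cokernel_ses k j hJ hB
  have e : cokernel f ≅ cokernel j := cokernelIsoOfEq hpj.symm ≪≫ cokernelEpiComp p j
  refine ⟨?_, by rw [dg_congr k e]; omega⟩
  have hS : (ShortComplex.mk (kernel.ι f) p (by
      rw [← cancel_mono j, Category.assoc, hpj, kernel.condition, zero_comp])).ShortExact :=
    { exact := ShortComplex.exact_of_f_is_kernel _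
        (KernelFork.IsLimit.ofι' _ _ fun {W} t ht => ⟨kernel.lift f t (by
          rw [← hpj, ← Category.assoc, ht, zero_comp]), kernel.lift_ι _ _ _⟩) }
  have hker : LinearMap.ker (Curves.LES.mapK k f 0) =
      LinearMap.range (Curves.LES.mapK k (kernel.ι f) 0) := by
    rw [show Curves.LES.mapK k f 0 = (Curves.LES.mapK k j 0).comp (Curves.LES.mapK k p 0) by
        rw [← Curves.LES.mapK_comp, hpj], LinearMap.ker_comp,
      LinearMap.ker_eq_bot.mpr (Curves.LES.mapK_injective_of_mono k j), Submodule.comap_bot]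
    have e := Curves.LES.exactK₂ k hS 0
    dsimp at e
    exact LinearMap.exact_iff.mp e
  rw [hker, LinearMap.finrank_range_of_inj (Curves.LES.mapK_injective_of_mono k (kernel.ι f))]
  exact (dim_eq k hK (by omega)).2

include hI

/-- The degree of the divisor. -/
lemma support_ne : letI := hC.integral; genericPoint X ∉ (I.support : Set X) := by
  let _ := hC.integral
  intro hη
  obtain ⟨U, hU, a, ha, hUa⟩ := hI (genericPoint X)
  have hη' := (Scheme.IdealSheafData.mem_support_iff_of_mem hU).mp hη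
  have ha' : genericPoint X ∉ X.basicOpen a :=
    (Scheme.mem_zeroLocus_iff _ _ _).mp hη' a (by rw [hUa]; exact Ideal.mem_span_singleton_self a)
  have : Nonempty ↥(U.1) := ⟨⟨_, hU⟩⟩
  have hne : a ≠ 0 := nonZeroDivisors.ne_zero ha
  refine ha' (((genericPoint_spec X).mem_open_set_iff (X.basicOpen a).2).mpr ?_)
  rw [Set.univ_inter, Set.nonempty_iff_ne_empty]
  intro he
  exact hne ((basicOpen_eq_bot_iff a).mp (Opens.ext he))

lemma isInvertible_ideal : PicF.IsInvertible (ClSub.idealMod I) :=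
  ClSub.Cartier.isInvertible_idealMod hI

/-- `O_D` is coherent of rank zero. -/
lemma quot_facts : letI := hC.integral; Coh.IsCoh (ClSub.quotMod I) ∧
    genericPoint X ∉ CohB1.support (ClSub.quotMod I) := by
  let _ := hC.integral
  refine ⟨?_, by rw [ClSub.Quot.support_quotMod]; exact support_ne k hI⟩
  have hO := TensorMod.LocFree.of_rank
    (TensorMod.LocFree.of_isInvertible (PicLoc.isInvertible_structureModule X))
  have hJ := TensorMod.LocFree.of_rank
    (TensorMod.LocFree.of_isInvertible (isInvertible_ideal k hI))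
  refine CohBasics.Closure.isCoh_of_iso ?_ (CohBasics.Closure.isCoh_cokernel
    (ClSub.idealModι I) (Coherent.isQCoh hJ) (Coherent.isCoh hO))
  exact IsColimit.coconePointUniqueUpToIso (cokernelIsCokernel (ClSub.idealModι I))
    (ClSub.Quot.idealSeq_shortExact I).gIsCokernel

/-- `E ⊗ O_D` is coherent of rank zero for coherent `E`. -/
lemma res_facts {E : X.Modules} (hE : Coh.IsCoh E) :
    Coh.IsCoh (ParSh.resD I E) ∧ gr k (ParSh.resD I E) = 0 := by
  let _ := hC.integral
  obtain ⟨hQ, hη⟩ := quot_facts k hI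
  have := hE.1
  have := hE.2
  have := hQ.1
  have := hQ.2
  refine ⟨⟨TensorMod.TensorQCoh.isQCoh_tensorMod _ _,
    TensorMod.TensorQCoh.isFiniteType_tensorMod _ _⟩, ?_⟩
  have hs : Subsingleton ((ParSh.resD I E).presheaf.stalk (genericPoint X)) :=
    Modules.Support.not_mem_support_iff.mp (by
      rw [Modules.SupportOps.support_tensorMod]; exact fun h => hη h.2)
  let _ : Field (X.presheaf.stalk (genericPoint X)) := inferInstanceAs (Field X.functionField)
  exact Module.finrank_zero_of_subsingleton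

/-- `dim H⁰(E ⊗ O_D) = rank E · deg D`. -/
theorem dg_res {E : X.Modules} {r : ℕ} (hE : FlatMod.IsFinLocFreeOfRank r E) :
    dg k (ParSh.resD I E) = (r : ℤ) * -dg k (ClSub.idealMod I) := by
  let _ := hC.integral
  obtain ⟨hEc, hET, er, -⟩ := bundle (k := k) hE
  have hJ := isInvertible_ideal k hI
  obtain ⟨hQc, hQ0⟩ := res_facts k hI hEc
  obtain ⟨hex, hepi⟩ := exact_tensor E (ClSub.Quot.idealSeq_shortExact I)
  let u := tmap (𝟙 E) (ClSub.idealModι I)
  let v := tmap (𝟙 E) (ClSub.toSubscheme I)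
  have huv : u ≫ v = 0 := (zw hex)
  have hcoh1 := Twist.isCoh hJ hEc
  have hcoh2 : Coh.IsCoh (CohB1.tensorMod E (Coh.structureModule X)) :=
    CohBasics.Closure.isCoh_of_iso (rightUnit E).symm hEc
  obtain ⟨J, p, j, hp, hj, hpj, hJc, hK, hg, hd⟩ := exists_image k u hcoh1 hcoh2
  obtain ⟨-, hgj, hdj⟩ := cokernel_ses k j hJc hcoh2
  have : Epi v := hepi
  have e : cokernel j ≅ ParSh.resD I E :=
    (cokernelIsoOfEq hpj.symm ≪≫ cokernelEpiComp p j).symm ≪≫
      IsColimit.coconePointUniqueUpToIso (cokernelIsCokernel u)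
        (ShortComplex.Exact.gIsCokernel (S := ShortComplex.mk u v huv) hex)
  obtain ⟨eg1, ed1⟩ := Twist.gr_dg_twist k hJ hEc
  rw [gr_congr k e, dg_congr k e, gr_congr k (rightUnit E), dg_congr k (rightUnit E)] at *
  have hET1 : TorSh.IsTorsionFree (CohB1.tensorMod E (ClSub.idealMod I)) :=
    Coherent.isTorsionFree (TensorMod.LocFree.isFinLocFree_tensorMod
      (TensorMod.LocFree.of_rank hE)
      (TensorMod.LocFree.of_rank (TensorMod.LocFree.of_isInvertible hJ)))
  have hKz := sub_zero_rank (k := k) (kernel.ι u) hK hET1 (by omega)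
  rw [er] at ed1
  linarith [hKz.2]

/-- On sections, dimensions. -/
lemma finrank_fib {E : X.Modules} {r : ℕ} (hE : FlatMod.IsFinLocFreeOfRank r E) :
    FiniteDimensional k (ParSh.fibD X I E) ∧
      (Module.finrank k (ParSh.fibD X I E) : ℤ) = (r : ℤ) * -dg k (ClSub.idealMod I) := by
  obtain ⟨hc, h0⟩ := res_facts k hI (bundle (k := k) hE).1
  obtain ⟨h1, h2⟩ := dim_eq k hc h0
  exact ⟨h1, h2.trans (dg_res k hI hE)⟩

/-- For a monomorphism of bundles of one rank the kernel on fibres is at most the drop in degree. -/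
theorem finrank_ker_le {E F : X.Modules} {n : ℕ} (hE : FlatMod.IsFinLocFreeOfRank n E)
    (hF : FlatMod.IsFinLocFreeOfRank n F) (f : E ⟶ F) [Mono f] :
    (Module.finrank k (LinearMap.ker (ParSh.fibDMap k X I f)) : ℤ) ≤ dg k F - dg k E := by
  let _ := hC.integral
  obtain ⟨hEc, -, eE, -⟩ := bundle (k := k) hE
  obtain ⟨hFc, -, eF, -⟩ := bundle (k := k) hF
  obtain ⟨hA, hA0⟩ := res_facts k hI hEc
  obtain ⟨hB, hB0⟩ := res_facts k hI hFc
  obtain ⟨hQ, hgQ, hdQ⟩ := cokernel_ses k f hEc hFc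
  obtain ⟨hQD, hQD0⟩ := res_facts k hI hQ
  let φ := ParSh.resDMap I f
  obtain ⟨h1, h2⟩ := ker_eq k φ hA hB hA0 hB0
  show (Module.finrank k (LinearMap.ker (Canon.HHlin k φ 0)) : ℤ) ≤ _
  rw [HHlin_eq, h1]
  have e1 := dg_res k hI hE
  have e2 := dg_res k hI hF
  -- the cokernel on `D` is a quotient of the cokernel
  let π : F ⟶ ParSh.resD I F :=
    (rightUnit F).inv ≫ tmap (𝟙 F) (ClSub.toSubscheme I)
  have : Epi π := by
    have := (exact_tensor F (ClSub.Quot.idealSeq_shortExact I)).2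
    exact epi_comp' inferInstance this
  have hπ : f ≫ π ≫ cokernel.π φ = 0 := by
    have h3 : f ≫ π = ((rightUnit E).inv ≫ tmap (𝟙 E) (ClSub.toSubscheme I)) ≫ φ := by
      have hu : f ≫ (rightUnit F).inv = (rightUnit E).inv ≫ tmap f (𝟙 _) := by
        rw [Iso.comp_inv_eq, Category.assoc, rightUnit_natural, Iso.inv_hom_id_assoc]
      show f ≫ _ ≫ _ = (_ ≫ _) ≫ KoszTw.tensorMap f (𝟙 _)
      rw [tensorMap_eq, ← Category.assoc, hu, Category.assoc, Category.assoc, ← tmap_comp,
        ← tmap_comp]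
      simp
    rw [← Category.assoc, h3, Category.assoc, cokernel.condition, comp_zero]
  let q : cokernel f ⟶ cokernel φ := cokernel.desc f (π ≫ cokernel.π φ) hπ
  have hq : cokernel.π f ≫ q = π ≫ cokernel.π φ := cokernel.π_desc _ _ _
  have : Epi q := epi_of_epi_fac hq
  have hcφ := CohBasics.Closure.isCoh_cokernel φ hA.1 hB
  obtain ⟨hKq, hgq, hdq⟩ := kernel_ses k q hQ hcφ
  have := dg_nonneg_of_gr_zero k hKq (by omega)
  linarith

/-- Short exact sequences of bundles stay short exact on fibres over `D`. -/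
theorem fib_exact {T : ShortComplex X.Modules} (hT : T.ShortExact) {a b c : ℕ}
    (h₁ : FlatMod.IsFinLocFreeOfRank a T.X₁) (h₂ : FlatMod.IsFinLocFreeOfRank b T.X₂)
    (h₃ : FlatMod.IsFinLocFreeOfRank c T.X₃) :
    Function.Injective (ParSh.fibDMap k X I T.f) ∧
      Function.Exact (ParSh.fibDMap k X I T.f) (ParSh.fibDMap k X I T.g) ∧
      Function.Surjective (ParSh.fibDMap k X I T.g) := by
  let _ := hC.integral
  obtain ⟨hc₁, -, e₁, -⟩ := bundle (k := k) h₁
  obtain ⟨hc₂, -, e₂, -⟩ := bundle (k := k) h₂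
  obtain ⟨hc₃, -, e₃, -⟩ := bundle (k := k) h₃
  obtain ⟨hA, hA0⟩ := res_facts k hI hc₁
  obtain ⟨hB, hB0⟩ := res_facts k hI hc₂
  obtain ⟨hD, hD0⟩ := res_facts k hI hc₃
  obtain ⟨hex, hepi⟩ := exact_tensor_left (ClSub.quotMod I) hT
  let φ := tmap T.f (𝟙 (ClSub.quotMod I))
  let ψ := tmap T.g (𝟙 (ClSub.quotMod I))
  have hfe : ParSh.fibDMap k X I T.f = Curves.LES.mapK k φ 0 := by
    show Canon.HHlin k (KoszTw.tensorMap _ _) 0 = _
    rw [tensorMap_eq]; exact HHlin_eq _ _
  have hge : ParSh.fibDMap k X I T.g = Curves.LES.mapK k ψ 0 := by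
    show Canon.HHlin k (KoszTw.tensorMap _ _) 0 = _
    rw [tensorMap_eq]; exact HHlin_eq _ _
  have hw : φ ≫ ψ = 0 := (zw hex)
  have : Epi ψ := hepi
  obtain ⟨-, h2⟩ := ker_eq k φ hA hB hA0 hB0
  have ec : cokernel φ ≅ ParSh.resD I T.X₃ :=
    IsColimit.coconePointUniqueUpToIso (cokernelIsCokernel φ)
      (ShortComplex.Exact.gIsCokernel (S := ShortComplex.mk φ ψ hw) hex)
  have hadd := gr_add k hT hc₂
  rw [e₁, e₂, e₃] at hadd
  have hz : dg k (kernel φ) = 0 := by
    rw [dg_congr k ec, dg_res k hI h₁, dg_res k hI h₂, dg_res k hI h₃, hadd] at h2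
    push_cast at h2
    linarith
  have hK : Coh.IsCoh (kernel φ) := by
    have := hC.locNoeth
    exact CohBasics.Closure.isCoh_kernel φ hA hB.1
  obtain ⟨hKc, hKg, -⟩ : Coh.IsCoh (kernel φ) ∧ gr k (kernel φ) = 0 ∧ True :=
    ⟨hK, by
      have : gr k (kernel φ) ≤ gr k (ParSh.resD I T.X₁) := gr_le_of_mono k (kernel.ι φ) hA
      omega, trivial⟩
  have : Mono φ := Preadditive.mono_of_kernel_zero ((isZero_of_gr_dg k hKc hKg hz).eq_of_src _ _)
  have hS : (ShortComplex.mk φ ψ hw).ShortExact := { exact := hex }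
  rw [hfe, hge]
  exact ⟨Curves.LES.mapK_injective_of_mono k φ, Curves.LES.exactK₂ k hS 0,
    surjective_of_epi k ψ hB hD hB0⟩

end Groth.Agent.Lib.CurveBundle.ResD
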