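import Groth.Agent.S12131
import Groth.Agent.S18860
import Groth.Agent.H81.PushLocFree
import Groth.Agent.Lib.Modules.ProjFormula
import Groth.Agent.Lib.TensorMod.LocFree
import Groth.Agent.Lib.TensorMod.QCohInv
import Groth.Agent.Lib.Curves.GlobalSections
import Groth.Agent.Lib.NoriFGS.Basic
import Groth.Agent.Lib.JacCrit.OverField

/-!
# The square of the direct image of a finite torsor
-/

set_option autoImplicit false
universe u

open CategoryTheory CategoryTheory.Limits MonoidalCategory CartesianMonoidalCategory AlgebraicGeometry Opposite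

namespace Groth.Agent.Lib.CurveBundle.TorsorSquare

open Groth.Agent.Lib TensorMod.Basic

/-- Base change of the direct image of the structure sheaf along an affine morphism. -/
theorem push_baseChange {X S X' S' : Scheme.{u}} (f : X ⟶ S) (g : S' ⟶ S) (g' : X' ⟶ X)
    (f' : X' ⟶ S') (h : IsPullback g' f' f g) [IsAffineHom f] :
    Nonempty ((Scheme.Modules.pullback g).obj ((Coh.push f).obj (Coh.structureModule X)) ≅
      (Coh.push f').obj (Coh.structureModule X')) := by
  haveI : Coh.IsQCoh (Coh.structureModule X) := TensorMod.QCohInv.isQCoh_structureModule X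
  haveI := Groth.Agent.S12131.result f g g' f' h (Coh.structureModule X)
  exact ⟨asIso (((Scheme.Modules.pullbackPushforwardAdjunction g).homEquiv
      ((Scheme.Modules.pushforward f).obj (Coh.structureModule X))
      ((Scheme.Modules.pushforward f').obj ((Scheme.Modules.pullback g').obj (Coh.structureModule X)))).symm
      ((Scheme.Modules.pushforward f).map
          ((Scheme.Modules.pullbackPushforwardAdjunction g').unit.app (Coh.structureModule X)) ≫
        (Scheme.Modules.pushforwardComp g' f).hom.app
            ((Scheme.Modules.pullback g').obj (Coh.structureModule X)) ≫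
        (Scheme.Modules.pushforwardCongr h.w).hom.app
            ((Scheme.Modules.pullback g').obj (Coh.structureModule X)) ≫
        (Scheme.Modules.pushforwardComp f' g).inv.app
            ((Scheme.Modules.pullback g').obj (Coh.structureModule X)))) ≪≫
    (Coh.push f').mapIso (PicLoc.pullbackStructureIso g')⟩

variable {k : Type u} [Field k]

/-- Over a field the functions of a finite scheme form a free module of their dimension. -/
theorem push_field {G : Scheme.{u}} [G.Over (Spec (CommRingCat.of k))]
    [IsFinite (G ↘ Spec (CommRingCat.of k))] {n : ℕ}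
    (hn : Module.finrank k (Coh.HH G (Coh.structureModule G) 0) = n) :
    Nonempty ((Coh.push (G ↘ Spec (CommRingCat.of k))).obj (Coh.structureModule G) ≅
      FlatMod.freeMod (Spec (CommRingCat.of k)) n) := by
  let f := G ↘ Spec (CommRingCat.of k)
  haveI : Flat f := GrpSch.flat_of_isField (Field.toIsField k) f
  haveI : LocallyOfFinitePresentation f := JacCrit.OverField.locallyOfFinitePresentation f
  haveI : Subsingleton (Spec (CommRingCat.of k)) :=
    inferInstanceAs (Subsingleton (PrimeSpectrum k))
  let pt : Spec (CommRingCat.of k) := (⊥ : PrimeSpectrum k)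
  obtain ⟨U, m, hy, ⟨i⟩⟩ := H81.PushLocFree.isFinLocFree_push f pt
  have hU : U = ⊤ := top_le_iff.mp fun x _ => by rw [Subsingleton.elim x pt]; exact hy
  subst hU
  have hm : m = n := by
    letI : Algebra Γ(Spec (CommRingCat.of k), ⊤) Γ(G, f ⁻¹ᵁ ⊤) := (f.app ⊤).hom.toAlgebra
    obtain ⟨b⟩ := H81.PushLocFree.nonempty_basis (le_refl (⊤ : (Spec (CommRingCat.of k)).Opens)) i
    letI := Curves.GlobalSections.secModule k (Coh.structureModule G)
    letI : Module k Γ(G, f ⁻¹ᵁ ⊤) := Curves.GlobalSections.secModule k (Coh.structureModule G)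
    let φ : Γ(Spec (CommRingCat.of k), ⊤) ≃+* k :=
      (Scheme.ΓSpecIso (CommRingCat.of k)).commRingCatIsoToRingEquiv
    have hb := b.mapCoeffs (M := Γ(G, f ⁻¹ᵁ ⊤)) (R' := k) φ
      (h := fun c x => by
        show (f.app ⊤).hom ((Scheme.ΓSpecIso (CommRingCat.of k)).inv.hom
          ((Scheme.ΓSpecIso (CommRingCat.of k)).hom.hom c)) * x = (f.app ⊤).hom c * x
        congr 2
        exact congr($((Scheme.ΓSpecIso (CommRingCat.of k)).hom_inv_id) c))
    rw [← hn, (Curves.GlobalSections.h0Linear k (Coh.structureModule G)).finrank_eq]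
    exact (Module.finrank_eq_card_basis hb).trans (Fintype.card_fin m) |>.symm
  subst hm
  let t := (Spec (CommRingCat.of k)).topIso
  exact ⟨((Scheme.Modules.pullbackId _).app _).symm ≪≫
    (Scheme.Modules.pullbackCongr (t.inv_hom_id)).symm.app _ ≪≫
    (Scheme.Modules.pullbackComp t.inv t.hom).symm.app _ ≪≫
    (Scheme.Modules.pullback t.inv).mapIso
      ((Scheme.Modules.restrictFunctorIsoPullback t.hom).symm.app _ ≪≫ i) ≪≫
    TensorMod.LocFree.pullbackFreeModIso t.inv _⟩

/-- `j_* O_P ⊗ j_* O_P ≅ (j_* O_P)^n` for a torsor `j : P → X` under a finite group scheme of order `n`. -/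
theorem square {X : Scheme.{u}} [X.Over (Spec (CommRingCat.of k))] {G : Scheme.{u}}
    [G.Over (Spec (CommRingCat.of k))] [GrpObj (G.asOver (Spec (CommRingCat.of k)))]
    [IsFinite (G ↘ Spec (CommRingCat.of k))] [IsLocallyNoetherian X] {n : ℕ}
    (hn : Module.finrank k (Coh.HH G (Coh.structureModule G) 0) = n) {P : Over X}
    (a : AlgGrp.Action (Red.bc (X ↘ Spec (CommRingCat.of k)) (G.asOver (Spec (CommRingCat.of k)))) P)
    (hP : NonAbH1.IsTorsorFor Scheme.fppfPrecoverage a) :
    Nonempty (CohB1.tensorMod ((Coh.push P.hom).obj (Coh.structureModule P.left))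
        ((Coh.push P.hom).obj (Coh.structureModule P.left)) ≅
      ∐ fun _ : Fin n => (Coh.push P.hom).obj (Coh.structureModule P.left)) := by
  let p := X ↘ Spec (CommRingCat.of k)
  let pG := G ↘ Spec (CommRingCat.of k)
  let H := Red.bc p (G.asOver (Spec (CommRingCat.of k)))
  have hq := TorsorSch.Descent.isTorsorFor_mono Scheme.fppfPrecoverage_le_fpqcPrecoverage hP
  haveI : IsFinite (G.asOver (Spec (CommRingCat.of k))).hom := ‹IsFinite pG›
  haveI hfin : IsFinite P.hom := (Groth.Agent.S18860.result a hq).2.2.1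
    (inferInstanceAs (IsFinite (pullback.snd (G.asOver (Spec (CommRingCat.of k))).hom p)))
  obtain ⟨-, hflat, -, -⟩ := NoriFGS.torsor_props hq
  haveI : LocallyOfFinitePresentation P.hom := JacCrit.OverField.locallyOfFinitePresentation P.hom
  have hlf := H81.PushLocFree.isFinLocFree_push P.hom
  let Q := (Coh.push P.hom).obj (Coh.structureModule P.left)
  -- `P ×_X P ≅ G ×_k P` over the second factor
  haveI : IsIso (lift a.act (snd H P)) := hP.1
  haveI : IsIso (lift a.act (snd H P)).left :=
    inferInstanceAs (IsIso ((Over.forget X).map (lift a.act (snd H P))))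
  let σ : pullback H.hom P.hom ≅ pullback P.hom P.hom := asIso (lift a.act (snd H P)).left
  have hσ : σ.hom ≫ pullback.snd P.hom P.hom = pullback.snd H.hom P.hom :=
    congr($(lift_snd a.act (snd H P)).left)
  have sq : IsPullback (σ.hom ≫ pullback.fst P.hom P.hom) (pullback.snd H.hom P.hom) P.hom P.hom :=
    (IsPullback.of_hasPullback P.hom P.hom).of_iso σ.symm (Iso.refl _) (Iso.refl _) (Iso.refl _)
      (by simp) (by rw [← hσ]; simp) (by simp) (by simp)
  have sq' : IsPullback (pullback.fst H.hom P.hom ≫ pullback.fst pG p) (pullback.snd H.hom P.hom) pG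
      (P.hom ≫ p) :=
    (IsPullback.of_hasPullback H.hom P.hom).paste_horiz (IsPullback.of_hasPullback pG p)
  obtain ⟨e₁⟩ := push_baseChange P.hom P.hom _ _ sq
  obtain ⟨e₂⟩ := push_baseChange pG (P.hom ≫ p) _ _ sq'
  obtain ⟨e₃⟩ := push_field hn
  let e : (Scheme.Modules.pullback P.hom).obj Q ≅ FlatMod.freeMod P.left n :=
    e₁ ≪≫ e₂.symm ≪≫ (Scheme.Modules.pullback (P.hom ≫ p)).mapIso e₃ ≪≫
      TensorMod.LocFree.pullbackFreeModIso _ _
  haveI : (TensorMod.Pullback.pf P.hom).Additive := inferInstance
  haveI : PreservesFiniteBiproducts (TensorMod.Pullback.pf P.hom) :=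
    Functor.preservesFiniteBiproductsOfAdditive _
  haveI : PreservesColimitsOfShape (Discrete (Fin n)) (TensorMod.Pullback.pf P.hom) :=
    preservesCoproductsOfShape_of_preservesBiproductsOfShape _
  exact ⟨(Modules.ProjFormula.projIso P.hom (E := Q)
      (Modules.DualBasis.hasDBases_of_isFinLocFree hlf)).app (Coh.structureModule P.left) ≪≫
    (TensorMod.Pullback.pf P.hom).mapIso (rightUnit _ ≪≫ e) ≪≫
    PreservesCoproduct.iso (TensorMod.Pullback.pf P.hom) _⟩

end Groth.Agent.Lib.CurveBundle.TorsorSquare
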