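import Groth.Agent.Lib.CurveBundle.EndAlg
import Mathlib.CategoryTheory.Preadditive.Biproducts
import Mathlib.CategoryTheory.Idempotents.Basic
import Mathlib.RingTheory.IntegralClosure.IsIntegral.Basic
import Mathlib.FieldTheory.Minpoly.Basic

/-!
# Indecomposable vector bundles have local endomorphism rings
-/

set_option autoImplicit false
universe u v

open CategoryTheory Limits AlgebraicGeometry Opposite TopologicalSpace Polynomial

namespace Groth.Agent.Lib.CurveBundle.Indec

open Groth.Agent.Lib

/-- In an integral algebra over an algebraically closed field with only trivial idempotents every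
element is a scalar plus a nilpotent. -/
theorem exists_isNilpotent_sub {k : Type u} [Field k] [IsAlgClosed k] {R : Type v} [Ring R]
    [Algebra k R] [Nontrivial R] (hi : ∀ e : R, IsIdempotentElem e → e = 0 ∨ e = 1) (a : R)
    (ha : _root_.IsIntegral k a) : ∃ c : k, IsNilpotent (a - algebraMap k R c) := by
  classical
  have hp : minpoly k a ≠ 0 := minpoly.ne_zero ha
  have hdeg : (minpoly k a).degree ≠ 0 := fun h => (minpoly.degree_pos ha).ne' h
  obtain ⟨c, hc⟩ := IsAlgClosed.exists_root (minpoly k a) hdeg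
  obtain ⟨q, hq, hnd⟩ := exists_eq_pow_rootMultiplicity_mul_and_not_dvd (minpoly k a) hp c
  set m := (minpoly k a).rootMultiplicity c with hm
  have hm0 : 0 < m := (rootMultiplicity_pos hp).mpr hc
  have hcop : IsCoprime ((X - C c) ^ m) q :=
    IsCoprime.pow_left ((irreducible_X_sub_C c).coprime_iff_not_dvd.mpr hnd)
  obtain ⟨u, w, huw⟩ := hcop
  set Φ := (aeval a : k[X] →ₐ[k] R)
  have hzero : Φ ((X - C c) ^ m * q) = 0 := by
    rw [← hq]
    exact minpoly.aeval k a
  refine ⟨c, m, ?_⟩
  have hsum : Φ (u * (X - C c) ^ m) + Φ (w * q) = 1 := by rw [← map_add, huw, map_one]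
  have hprod : Φ (w * q) * Φ (u * (X - C c) ^ m) = 0 := by
    rw [← map_mul, show w * q * (u * (X - C c) ^ m) = w * u * ((X - C c) ^ m * q) by ring, map_mul,
      hzero, mul_zero]
  have hidem : IsIdempotentElem (Φ (w * q)) := by
    rw [IsIdempotentElem, ← sub_eq_zero]
    calc Φ (w * q) * Φ (w * q) - Φ (w * q)
        = Φ (w * q) * (Φ (w * q) - (Φ (u * (X - C c) ^ m) + Φ (w * q))) := by
          rw [hsum, mul_sub, mul_one]
      _ = 0 := by rw [sub_add_cancel_right, mul_neg, hprod, neg_zero]
  have key : Φ (u * (X - C c) ^ m) = 0 → Φ ((X - C c) ^ m) = 0 := fun h => by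
    have : Φ (w * q) = 1 := by rwa [h, zero_add] at hsum
    rw [← one_mul (Φ ((X - C c) ^ m)), ← this, ← map_mul,
      show w * q * (X - C c) ^ m = w * ((X - C c) ^ m * q) by ring, map_mul, hzero, mul_zero]
  rcases hi _ hidem with h0 | h1
  · exfalso
    rw [h0, add_zero] at hsum
    have hq0 : Φ q = 0 := by
      rw [← one_mul (Φ q), ← hsum, ← map_mul,
        show u * (X - C c) ^ m * q = u * ((X - C c) ^ m * q) by ring, map_mul, hzero, mul_zero]
    have hq0' : q ≠ 0 := fun h => hp (by rw [hq, h, mul_zero])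
    have hdvd := minpoly.dvd k a hq0
    have : (X - C c) ∣ q :=
      ((dvd_pow_self _ hm0.ne').trans ⟨q, hq⟩).trans hdvd
    exact hnd this
  · have hu : Φ (u * (X - C c) ^ m) = 0 := by rwa [h1, add_eq_right] at hsum
    have := key hu
    simpa [Φ, map_pow] using this

variable {X : Scheme.{u}}

/-- Only trivial splittings. -/
def Indecomposable (E : X.Modules) : Prop :=
  ¬ IsZero E ∧ ∀ (E₁ E₂ : X.Modules), Nonempty (E ≅ E₁ ⊞ E₂) → IsZero E₁ ∨ IsZero E₂

/-- An indecomposable module has only trivial idempotent endomorphisms. -/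
lemma idempotent_trivial {E : X.Modules} (h : Indecomposable E) (e : E ⟶ E) (he : e ≫ e = e) :
    e = 0 ∨ e = 𝟙 E := by
  have he' : (𝟙 E - e) ≫ (𝟙 E - e) = 𝟙 E - e := by
    simp only [Preadditive.sub_comp, Preadditive.comp_sub, Category.id_comp, Category.comp_id, he]
    abel
  obtain ⟨A, i, p, hip, hpi⟩ := IsIdempotentComplete.idempotents_split E e he
  obtain ⟨B, j, q, hjq, hqj⟩ := IsIdempotentComplete.idempotents_split E (𝟙 E - e) he'
  have hiq : i ≫ q = 0 := by
    have : i ≫ (q ≫ j) = 0 := by
      rw [hqj, ← hpi, Preadditive.comp_sub, Category.comp_id, ← Category.assoc, hip, Category.id_comp,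
        sub_self]
    rw [← Category.comp_id (i ≫ q), ← hjq, ← Category.assoc, Category.assoc i q j, this, Limits.zero_comp]
  have hjp : j ≫ p = 0 := by
    have : j ≫ (p ≫ i) = 0 := by
      have h1 : j ≫ q ≫ j = j := by rw [← Category.assoc, hjq, Category.id_comp]
      rw [hqj, Preadditive.comp_sub, Category.comp_id, sub_eq_self] at h1
      rw [hpi, h1]
    rw [← Category.comp_id (j ≫ p), ← hip, ← Category.assoc, Category.assoc j p i, this, Limits.zero_comp]
  let iso : E ≅ A ⊞ B :=
    { hom := biprod.lift p q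
      inv := biprod.desc i j
      hom_inv_id := by rw [biprod.lift_desc, hpi, hqj]; abel
      inv_hom_id := by
        apply biprod.hom_ext <;> apply biprod.hom_ext' <;>
          simp only [Category.assoc, biprod.lift_fst, biprod.lift_snd, biprod.inl_desc_assoc,
            biprod.inr_desc_assoc, Category.id_comp, hip, hjq, hiq, hjp, biprod.inl_fst,
            biprod.inl_snd, biprod.inr_fst, biprod.inr_snd, biprod.inl_desc, biprod.inr_desc] }
  rcases h.2 A B ⟨iso⟩ with hA | hB
  · exact Or.inl (by rw [← hpi, hA.eq_of_src i 0, Limits.comp_zero])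
  · refine Or.inr (sub_eq_zero.mp ?_).symm
    rw [← hqj, hB.eq_of_src j 0, Limits.comp_zero]

/-- A nonzero module with only trivial idempotents is indecomposable. -/
lemma indecomposable_of_idempotent {E : X.Modules} (h0 : ¬ IsZero E)
    (h : ∀ e : E ⟶ E, e ≫ e = e → e = 0 ∨ e = 𝟙 E) : Indecomposable E := by
  refine ⟨h0, fun E₁ E₂ ⟨φ⟩ => ?_⟩
  let e := φ.hom ≫ biprod.fst ≫ biprod.inl ≫ φ.inv
  have he : e ≫ e = e := by simp [e]
  rcases h e he with h' | h'
  · left
    rw [IsZero.iff_id_eq_zero]
    have := congrArg (fun v => biprod.inl ≫ φ.inv ≫ v ≫ φ.hom ≫ biprod.fst) h'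
    simpa [e] using this
  · right
    rw [IsZero.iff_id_eq_zero]
    have := congrArg (fun v => biprod.inr ≫ φ.inv ≫ v ≫ φ.hom ≫ biprod.snd) h'
    simpa [e] using this.symm

lemma not_isZero_of_rank [IsIntegral X] {E : X.Modules} {n : ℕ} (hn : 0 < n)
    (hE : FlatMod.IsFinLocFreeOfRank n E) : ¬ IsZero E := fun h0 => by
  have h := ((Modules.Stalk.isZero_iff_stalk_subsingleton).mp h0) (genericPoint X)
  obtain ⟨b⟩ := Coherent.exists_basis_stalk hE (genericPoint X)
  exact b.ne_zero ⟨0, hn⟩ (Subsingleton.elim _ _)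

/-- Invertible modules are indecomposable. -/
lemma indecomposable_of_rank_one [IsIntegral X] {L : X.Modules}
    (hL : FlatMod.IsFinLocFreeOfRank 1 L) : Indecomposable L := by
  refine indecomposable_of_idempotent (not_isZero_of_rank one_pos hL) fun e he => ?_
  obtain ⟨b⟩ := Coherent.exists_basis_stalk hL (genericPoint X)
  have hF := TensorMod.LocFree.of_rank hL
  have := Coherent.isQCoh hF
  let _ : Field (X.presheaf.stalk (genericPoint X)) := inferInstanceAs (Field X.functionField)
  set φ := Modules.StalkModule.stalkMapₗ e (genericPoint X)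
  have hφ : φ.comp φ = φ := by rw [← Modules.StalkModule.stalkMapₗ_comp, he]
  set c := b.repr (φ (b 0)) 0 with hc
  have hb : φ (b 0) = c • b 0 := by
    conv_lhs => rw [← b.sum_repr (φ (b 0))]
    simp [hc]
  have hcc : c * c = c := by
    have := LinearMap.congr_fun hφ (b 0)
    rw [LinearMap.comp_apply, hb, map_smul, hb, smul_smul] at this
    simpa [smul_left_inj (b.ne_zero 0)] using congrArg (fun v => b.repr v 0) this
  rcases (IsIdempotentElem.iff_eq_zero_or_one.mp hcc) with hc0 | hc1
  · refine Or.inl (Rank.eq_zero_of_generic (Coherent.isTorsionFree hF) e (b.ext fun i => ?_))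
    rw [Subsingleton.elim i 0]
    exact hb.trans (by rw [hc0, zero_smul]; rfl)
  · refine Or.inr (sub_eq_zero.mp (Rank.eq_zero_of_generic (Coherent.isTorsionFree hF) _
      (b.ext fun i => ?_)))
    rw [Subsingleton.elim i 0]
    have e1 : Modules.StalkModule.stalkMapₗ (e - 𝟙 L) (genericPoint X) = φ - LinearMap.id := by
      rw [eq_sub_iff_add_eq, ← Modules.StalkModule.stalkMapₗ_id, ← Modules.StalkModule.stalkMapₗ_add,
        sub_add_cancel]
    rw [e1, LinearMap.sub_apply, hb, hc1, one_smul, LinearMap.id_apply, sub_self]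
    rfl

variable (k : Type u) [Field k] [IsAlgClosed k] [X.Over (Spec (CommRingCat.of k))] [IsIntegral X]
  [IsProper (X ↘ Spec (CommRingCat.of k))]

include k

/-- Every endomorphism of an indecomposable bundle is a constant plus a nilpotent. -/
theorem exists_scalar {E : X.Modules} {n : ℕ} (hE : FlatMod.IsFinLocFreeOfRank n E)
    (h : Indecomposable E) (f : End E) :
    ∃ c : k, IsNilpotent (f - EndAlg.scalHom E (EndAlg.cst X k c)) := by
  let _ := EndAlg.algEnd k E
  have : Nontrivial (End E) := ⟨⟨1, 0, fun h10 => h.1 ((IsZero.iff_id_eq_zero E).mpr h10)⟩⟩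
  exact exists_isNilpotent_sub (R := End E) (fun e he => idempotent_trivial h e he.eq) f
    (EndAlg.isIntegral_end k hE f)

/-- Every endomorphism of an indecomposable bundle is invertible or nilpotent. -/
theorem isUnit_or_isNilpotent {E : X.Modules} {n : ℕ} (hE : FlatMod.IsFinLocFreeOfRank n E)
    (h : Indecomposable E) (f : End E) : IsUnit f ∨ IsNilpotent f := by
  obtain ⟨c, hc⟩ := exists_scalar k hE h f
  let _ := EndAlg.algEnd k E
  by_cases hc0 : c = 0
  · subst hc0
    rw [map_zero, map_zero, sub_zero] at hc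
    exact Or.inr hc
  · refine Or.inl ?_
    have hu : IsUnit (algebraMap k (End E) c) := (IsUnit.mk0 c hc0).map _
    have := IsNilpotent.isUnit_add_left_of_commute (r := f - algebraMap k (End E) c)
      (u := algebraMap k (End E) c) hc hu (Algebra.commute_algebraMap_right _ _)
    rwa [add_sub_cancel] at this

/-- If `f₁ + f₂` is an isomorphism of an indecomposable bundle then so is one of them. -/
theorem isIso_of_add {E : X.Modules} {n : ℕ} (hE : FlatMod.IsFinLocFreeOfRank n E)
    (h : Indecomposable E) (f₁ f₂ : E ⟶ E) [IsIso (f₁ + f₂)] : IsIso f₁ ∨ IsIso f₂ := by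
  let g : E ⟶ E := f₁ ≫ inv (f₁ + f₂)
  let g' : E ⟶ E := f₂ ≫ inv (f₁ + f₂)
  have hgg : g + g' = 𝟙 E := by rw [← Preadditive.add_comp, IsIso.hom_inv_id]
  rcases isUnit_or_isNilpotent k hE h g with hu | hn
  · have := (isUnit_iff_isIso _).mp hu
    exact Or.inl (IsIso.of_isIso_comp_right f₁ (inv (f₁ + f₂)))
  · have hu : IsUnit ((1 : End E) - (show End E from g)) := hn.isUnit_one_sub
    have := (isUnit_iff_isIso _).mp hu
    have e : g' = (1 : End E) - (show End E from g) := by
      show g' = 𝟙 E - g
      rw [← hgg, add_sub_cancel_left]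
    have : IsIso g' := e ▸ this
    exact Or.inr (IsIso.of_isIso_comp_right f₂ (inv (f₁ + f₂)))

/-- The eigenvalue of an endomorphism of an indecomposable bundle is unique. -/
theorem scalar_unique {E : X.Modules} {n : ℕ} (hE : FlatMod.IsFinLocFreeOfRank n E)
    (h : Indecomposable E) (f : E ⟶ E) (a b : k)
    (ha : ¬ IsIso (f - EndAlg.scal E (EndAlg.cst X k a)))
    (hb : ¬ IsIso (f - EndAlg.scal E (EndAlg.cst X k b))) : a = b := by
  let _ := EndAlg.algEnd k E
  by_contra hab
  let x : End E := f - EndAlg.scal E (EndAlg.cst X k a)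
  let y : End E := f - EndAlg.scal E (EndAlg.cst X k b)
  have hy : IsNilpotent y :=
    (isUnit_or_isNilpotent k hE h y).resolve_left fun hu => hb ((isUnit_iff_isIso _).mp hu)
  have hu : IsUnit (algebraMap k (End E) (b - a)) := (IsUnit.mk0 _ (sub_ne_zero.mpr (Ne.symm hab))).map _
  have := IsNilpotent.isUnit_add_left_of_commute hy hu (Algebra.commute_algebraMap_right _ _)
  have e : algebraMap k (End E) (b - a) + y = x := by
    rw [map_sub]
    change (algebraMap k (End E) b - algebraMap k (End E) a) + ((show End E from f) - algebraMap k (End E) b) =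
      (show End E from f) - algebraMap k (End E) a
    abel
  rw [e] at this
  exact ha ((isUnit_iff_isIso _).mp this)

end Groth.Agent.Lib.CurveBundle.Indec
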