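import Groth.Agent.Lib.CurveBundle.Degree
import Groth.Agent.Lib.CurveBundle.Indec
import Groth.Agent.Lib.TensorMod.LocFree
import Groth.Prelude.Def_ModFun2

/-!
# Slopes of vector bundles on a curve

`SS k E` and `ST k E` test semistability and stability on all coherent subsheaves; they follow from
the conditions on locally free submodules. Homomorphisms of semistable bundles are controlled
through their images.
-/

set_option autoImplicit false
universe u

open CategoryTheory Limits AlgebraicGeometry TopologicalSpace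

namespace Groth.Agent.Lib.CurveBundle.Slope

open Groth.Agent.Lib Degree

variable (k : Type u) [Field k] {X : Scheme.{u}} [X.Over (Spec (CommRingCat.of k))]
  [hC : CurveCtx k X]

include hC

/-- Semistability, tested on coherent subsheaves. -/
def SS (E : X.Modules) : Prop :=
  ∀ (G : X.Modules) (i : G ⟶ E), Mono i → Coh.IsCoh G →
    dg k G * (gr k E : ℤ) ≤ dg k E * (gr k G : ℤ)

/-- Stability, tested on coherent subsheaves of smaller rank. -/
def ST (E : X.Modules) : Prop :=
  ∀ (G : X.Modules) (i : G ⟶ E), Mono i → Coh.IsCoh G → 0 < gr k G → gr k G < gr k E →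
    dg k G * (gr k E : ℤ) < dg k E * (gr k G : ℤ)

variable {k}

/-- What a vector bundle gives. -/
lemma bundle {E : X.Modules} {r : ℕ} (hE : FlatMod.IsFinLocFreeOfRank r E) :
    Coh.IsCoh E ∧ TorSh.IsTorsionFree E ∧ gr k E = r ∧ Curv2.deg k X E r = dg k E :=
  ⟨Coherent.isCoh (TensorMod.LocFree.of_rank hE), Coherent.isTorsionFree (TensorMod.LocFree.of_rank hE),
    gr_eq k hE, (dg_eq_deg k hE).symm⟩

/-- A coherent subsheaf of a torsion-free sheaf is a bundle. -/
lemma sub_bundle {G E : X.Modules} (i : G ⟶ E) [Mono i] (hG : Coh.IsCoh G)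
    (hT : TorSh.IsTorsionFree E) :
    FlatMod.IsFinLocFreeOfRank (gr k G) G ∧ Curv2.deg k X G (gr k G) = dg k G := by
  let _ := hC.integral
  have h := rank_gr k hG (Rank.isTorsionFree_of_mono i hT)
  exact ⟨h, (dg_eq_deg k h).symm⟩

lemma sub_zero_rank {G E : X.Modules} (i : G ⟶ E) [Mono i] (hG : Coh.IsCoh G)
    (hT : TorSh.IsTorsionFree E) (h : gr k G = 0) : IsZero G ∧ dg k G = 0 := by
  let _ := hC.integral
  have h0 := isZero_of_gr k hG (Rank.isTorsionFree_of_mono i hT) h
  exact ⟨h0, dg_of_isZero k h0 hG⟩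

variable {E F : X.Modules} {r s : ℕ}

lemma ss_of (hE : FlatMod.IsFinLocFreeOfRank r E) (h : ModFun.IsSlopeSemistable k X E r) :
    SS k E := by
  intro G i _ hG
  obtain ⟨-, hT, hr, hd⟩ := bundle (k := k) hE
  rcases Nat.eq_zero_or_pos (gr k G) with h0 | h0
  · simp [(sub_zero_rank i hG hT h0).2, h0]
  · obtain ⟨hG', hd'⟩ := sub_bundle (k := k) i hG hT
    have := h G _ i ‹_› h0 hG'
    rwa [hd', hd, ← hr] at this

lemma st_of (hE : FlatMod.IsFinLocFreeOfRank r E) (h : ModFun.IsSlopeStable k X E r) : ST k E := by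
  intro G i _ hG h0 h1
  obtain ⟨-, hT, hr, hd⟩ := bundle (k := k) hE
  obtain ⟨hG', hd'⟩ := sub_bundle (k := k) i hG hT
  have := h G _ i ‹_› h0 (hr ▸ h1) hG'
  rwa [hd', hd, ← hr] at this

lemma isSlopeSemistable (hE : FlatMod.IsFinLocFreeOfRank r E) (h : SS k E) :
    ModFun.IsSlopeSemistable k X E r := by
  intro G n i _ _ hG
  obtain ⟨hGc, -, hn, hd'⟩ := bundle (k := k) hG
  obtain ⟨-, -, hr, hd⟩ := bundle (k := k) hE
  have := h G i ‹_› hGc
  rwa [hn, hr, ← hd, ← hd'] at this

/-- Stable bundles are semistable. -/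
lemma ss_of_st (hE : FlatMod.IsFinLocFreeOfRank r E) (h : ST k E) : SS k E := by
  intro G i _ hG
  obtain ⟨hEc, hT, -, -⟩ := bundle (k := k) hE
  rcases Nat.eq_zero_or_pos (gr k G) with h0 | h0
  · simp [(sub_zero_rank i hG hT h0).2, h0]
  · rcases (gr_le_of_mono k i hEc).lt_or_eq with h1 | h1
    · exact (h G i ‹_› hG h0 h1).le
    · rw [h1]
      exact mul_le_mul_of_nonneg_right (dg_le_of_mono k i hG hEc h1) (Int.natCast_nonneg _)

/-- The variant of stability asking strict inequality for submodules other than the whole module. -/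
lemma st_of_proper (hE : FlatMod.IsFinLocFreeOfRank r E)
    (h : ∀ (G : X.Modules) (n : ℕ) (i : G ⟶ E), Mono i → 0 < n → FlatMod.IsFinLocFreeOfRank n G →
      (¬ IsIso i) → Curv2.deg k X G n * (r : ℤ) < Curv2.deg k X E r * (n : ℤ)) : ST k E := by
  refine st_of hE fun G n i hi hn hlt hG => h G n i hi hn hG fun hiso => ?_
  obtain ⟨-, -, hr, -⟩ := bundle (k := k) hE
  obtain ⟨-, -, hn', -⟩ := bundle (k := k) hG
  have := gr_congr k (asIso i)
  omega

/-- The kernel and image of a morphism out of a semistable bundle. -/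
lemma exists_image_ss (hE : SS k E) (hEc : Coh.IsCoh E) (hFc : Coh.IsCoh F) (f : E ⟶ F) :
    ∃ (I : X.Modules) (p : E ⟶ I) (j : I ⟶ F), Epi p ∧ Mono j ∧ p ≫ j = f ∧ Coh.IsCoh I ∧
      Coh.IsCoh (kernel f) ∧ gr k E = gr k (kernel f) + gr k I ∧
      dg k E = dg k (kernel f) + dg k I ∧
      dg k E * (gr k I : ℤ) ≤ dg k I * (gr k E : ℤ) := by
  obtain ⟨I, p, j, hp, hj, hf, hI, hK, hg, hd⟩ := exists_image k f hEc hFc
  refine ⟨I, p, j, hp, hj, hf, hI, hK, hg, hd, ?_⟩
  have := hE _ (kernel.ι f) inferInstance hK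
  have hg' : (gr k E : ℤ) = gr k (kernel f) + gr k I := by exact_mod_cast hg
  simp only [hd, hg', add_mul, mul_add] at this ⊢
  linarith

/-- Coherent quotients of a semistable bundle have at least its slope. -/
lemma quot_ge {Q : X.Modules} (hE : SS k E) (hEc : Coh.IsCoh E) (hQ : Coh.IsCoh Q) (p : E ⟶ Q)
    [Epi p] : dg k E * (gr k Q : ℤ) ≤ dg k Q * (gr k E : ℤ) := by
  obtain ⟨hK, hg, hd⟩ := kernel_ses k p hEc hQ
  have := hE _ (kernel.ι p) inferInstance hK
  have hg' : (gr k E : ℤ) = gr k (kernel p) + gr k Q := by exact_mod_cast hg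
  simp only [hd, hg', add_mul, mul_add] at this ⊢
  linarith

/-- No morphism from a semistable bundle to one whose subsheaves all have smaller slope. -/
lemma hom_eq_zero (hE : SS k E) (hEc : Coh.IsCoh E) (hFc : Coh.IsCoh F)
    (hT : TorSh.IsTorsionFree F)
    (hF : ∀ (G : X.Modules) (i : G ⟶ F), Mono i → Coh.IsCoh G → 0 < gr k G →
      dg k G * (gr k E : ℤ) < dg k E * (gr k G : ℤ))
    (f : E ⟶ F) : f = 0 := by
  obtain ⟨I, p, j, _, hj, hf, hI, -, -, -, hle⟩ := exists_image_ss hE hEc hFc f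
  rcases Nat.eq_zero_or_pos (gr k I) with h0 | h0
  · exact eq_zero_of_image k p j hf hI hT h0
  · exact absurd (hF I j hj hI h0) (not_lt.mpr hle)

/-- Semistable bundles of decreasing slope have no morphisms between them. -/
lemma hom_eq_zero_of_lt (hE : SS k E) (hF : SS k F) (hEc : Coh.IsCoh E) (hFc : Coh.IsCoh F)
    (hT : TorSh.IsTorsionFree F) (hs : 0 < gr k F)
    (h : dg k F * (gr k E : ℤ) < dg k E * (gr k F : ℤ)) (f : E ⟶ F) : f = 0 := by
  refine hom_eq_zero hE hEc hFc hT (fun G i hi hG hG0 => ?_) f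
  have h1 := hF G i hi hG
  have h2 : (0 : ℤ) < gr k G := by exact_mod_cast hG0
  have h3 : (0 : ℤ) < gr k F := by exact_mod_cast hs
  by_contra! hle
  nlinarith

/-- A nonzero morphism of stable bundles of equal slope is an isomorphism. -/
lemma isIso_of_stable (hEc : Coh.IsCoh E) (hET : TorSh.IsTorsionFree E) (hFc : Coh.IsCoh F)
    (hFT : TorSh.IsTorsionFree F) (hE : SS k E) (hF : SS k F)
    (hμ : dg k E * (gr k F : ℤ) = dg k F * (gr k E : ℤ))
    (hst : (ST k E ∧ ST k F) ∨ (gr k E = gr k F ∧ (ST k E ∨ ST k F)))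
    (f : E ⟶ F) (hf : f ≠ 0) : IsIso f := by
  obtain ⟨I, p, j, hp, hj, hpj, hI, hK, hg, hd, hle⟩ := exists_image_ss hE hEc hFc f
  have hI0 : 0 < gr k I := Nat.pos_of_ne_zero fun h0 => hf (eq_zero_of_image k p j hpj hI hFT h0)
  have hIF := gr_le_of_mono k j hFc
  have hs : (0 : ℤ) < gr k F := by exact_mod_cast hI0.trans_le hIF
  have hr : (0 : ℤ) < gr k E := by exact_mod_cast (by omega : 0 < gr k E)
  have hle' := hF I j hj hI
  have heq : dg k I * (gr k E : ℤ) = dg k E * (gr k I : ℤ) := by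
    refine le_antisymm ?_ hle
    nlinarith
  have heq' : dg k I * (gr k F : ℤ) = dg k F * (gr k I : ℤ) := by
    refine le_antisymm hle' ?_
    nlinarith
  have keyE : ST k E → gr k (kernel f) = 0 := fun h => by
    by_contra h0
    have := h _ (kernel.ι f) inferInstance hK (Nat.pos_of_ne_zero h0) (by omega)
    have hg' : (gr k E : ℤ) = gr k (kernel f) + gr k I := by exact_mod_cast hg
    simp only [hd, hg', add_mul, mul_add] at this heq
    linarith
  have keyF : ST k F → gr k I = gr k F := fun h => by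
    by_contra h0
    exact absurd heq' (h I j hj hI hI0 (lt_of_le_of_ne hIF h0)).ne
  obtain ⟨hK0, hgr⟩ : gr k (kernel f) = 0 ∧ gr k E = gr k F := by
    rcases hst with ⟨hE', hF'⟩ | ⟨hgr, hE' | hF'⟩
    · have := keyE hE'
      have := keyF hF'
      omega
    · exact ⟨keyE hE', hgr⟩
    · have := keyF hF'
      omega
  have : Mono f :=
    Preadditive.mono_of_kernel_zero ((sub_zero_rank (kernel.ι f) hK hET hK0).1.eq_of_src _ _)
  refine isIso_of_mono k f hEc hFc hgr ?_
  rw [← hgr] at hμ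
  exact mul_right_cancel₀ hr.ne' hμ

/-- Every nonzero endomorphism of a stable bundle is an isomorphism. -/
lemma isIso_endo (hE : FlatMod.IsFinLocFreeOfRank r E) (h : ST k E) (f : E ⟶ E) (hf : f ≠ 0) :
    IsIso f := by
  obtain ⟨hc, hT, -, -⟩ := bundle (k := k) hE
  exact isIso_of_stable hc hT hc hT (ss_of_st hE h) (ss_of_st hE h) rfl (Or.inl ⟨h, h⟩) f hf

lemma idempotent_of_stable (hE : FlatMod.IsFinLocFreeOfRank r E) (h : ST k E) (e : E ⟶ E)
    (he : e ≫ e = e) : e = 0 ∨ e = 𝟙 E := by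
  refine or_iff_not_imp_left.mpr fun h0 => ?_
  have := isIso_endo hE h e h0
  rw [← cancel_mono e, Category.id_comp, he]

lemma indecomposable (hr : 0 < r) (hE : FlatMod.IsFinLocFreeOfRank r E) (h : ST k E) :
    Indec.Indecomposable E :=
  let _ := hC.integral
  Indec.indecomposable_of_idempotent (Indec.not_isZero_of_rank hr hE) (idempotent_of_stable hE h)

/-- Stable bundles over an algebraically closed field are simple. -/
lemma exists_scal [IsAlgClosed k] [IsProper (X ↘ Spec (CommRingCat.of k))] (hr : 0 < r)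
    (hE : FlatMod.IsFinLocFreeOfRank r E) (h : ST k E) (φ : E ⟶ E) :
    ∃ c : k, φ = EndAlg.scal E (EndAlg.cst X k c) := by
  let _ := hC.integral
  obtain ⟨c, hc⟩ := Indec.exists_scalar k hE (indecomposable hr hE h) φ
  refine ⟨c, sub_eq_zero.mp ?_⟩
  by_contra h0
  have := isIso_endo hE h _ h0
  have hu : IsUnit ((show End E from φ) - EndAlg.scalHom E (EndAlg.cst X k c)) :=
    (isUnit_iff_isIso _).mpr this
  have : Nontrivial (End E) := ⟨⟨1, 0, fun h10 => Indec.not_isZero_of_rank hr hE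
    ((IsZero.iff_id_eq_zero E).mpr h10)⟩⟩
  exact hu.not_isNilpotent hc

end Groth.Agent.Lib.CurveBundle.Slope
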