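import Groth.Agent.Lib.CurveBundle.Ctx
import Groth.Agent.Lib.CurveBundle.Twist
import Groth.Agent.Lib.Curves.Degree
import Groth.Agent.Lib.Modules.SupportOps
import Groth.Agent.Lib.TensorMod.LocFree
import Groth.Agent.Lib.CurveBundle.Slope
import Groth.Agent.H75.RedSub
import Groth.Agent.Lib.QCoh.Pushforward

/-!
# Twisting down by a rational point

On an integral curve over an algebraically closed field there is an invertible ideal of degree `-1`;
twisting by it lowers `h⁰` of a bundle of rank `r` by at most `r`. Semistable bundles of negative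
slope have no sections.
-/

set_option autoImplicit false
universe u

open CategoryTheory Limits AlgebraicGeometry TopologicalSpace Opposite

namespace Groth.Agent.Lib.CurveBundle.Point

open Groth.Agent.Lib Degree Slope TensorMod.Basic

variable (k : Type u) [Field k] {X : Scheme.{u}} [X.Over (Spec (CommRingCat.of k))]
  [IsProper (X ↘ Spec (CommRingCat.of k))]

/-- The reduced ideal of a closed point has one-dimensional sections of its quotient. -/
lemma hdim_quotMod [IsAlgClosed k] {x : X} (hx : IsClosed ({x} : Set X)) :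
    Curves.Euler.hdim k X
      (ClSub.quotMod (Scheme.IdealSheafData.vanishingIdeal ⟨{x}, hx⟩)) 0 = 1 := by
  set I := Scheme.IdealSheafData.vanishingIdeal (X := X) ⟨{x}, hx⟩ with hI
  let Z := I.subscheme
  let _ : Z.Over (Spec (CommRingCat.of k)) := ⟨I.subschemeι ≫ X ↘ Spec (CommRingCat.of k)⟩
  have : IsProper (Z ↘ Spec (CommRingCat.of k)) :=
    inferInstanceAs (IsProper (I.subschemeι ≫ X ↘ Spec (CommRingCat.of k)))
  have : AlgebraicGeometry.IsReduced Z := H75.RedSub.isReduced_vanishingIdeal _
  have hr : Set.range I.subschemeι = {x} := by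
    rw [Scheme.IdealSheafData.range_subschemeι, hI, Scheme.IdealSheafData.coe_support_vanishingIdeal]
    rfl
  have hsub : Subsingleton Z := ⟨fun a b => I.subschemeι.isClosedEmbedding.injective
    ((hr ▸ Set.mem_range_self a : I.subschemeι a ∈ ({x} : Set X)).trans
      (hr ▸ Set.mem_range_self b : I.subschemeι b ∈ ({x} : Set X)).symm)⟩
  have hne : Nonempty Z := by
    obtain ⟨z, -⟩ : x ∈ Set.range I.subschemeι := hr ▸ rfl
    exact ⟨z⟩
  have : IrreducibleSpace Z :=
    { isPreirreducible_univ := Set.subsingleton_univ.isPreirreducible, toNonempty := hne }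
  have : IsIntegral Z := isIntegral_of_irreducibleSpace_of_isReduced Z
  rw [← Curves.GlobalSections.finrank_h0_structure k Z]
  let _ := Curves.GlobalSections.secModule k (ClSub.quotMod I)
  let _ := Curves.GlobalSections.secModule k (Coh.structureModule Z)
  let e : ((ClSub.quotMod I).val.obj (op ⊤) : Type u) ≃ₗ[k]
      ((Coh.structureModule Z).val.obj (op ⊤) : Type u) :=
    { AddEquiv.refl _ with
      map_smul' := fun a s => rfl }
  exact (((Curves.GlobalSections.h0Linear k (ClSub.quotMod I)).trans e).trans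
    (Curves.GlobalSections.h0Linear k (Coh.structureModule Z)).symm).finrank_eq

variable [IsAlgClosed k] [IsIntegral X] [Smooth (X ↘ Spec (CommRingCat.of k))]

omit [Smooth (X ↘ Spec (CommRingCat.of k))] in
/-- The ideal of a closed point is invertible of degree `-1`. -/
theorem point_facts_ctx [hC : CurveCtx k X] (hdim : topologicalKrullDim X = 1) {x : X} (hx : IsClosed ({x} : Set X)) :
    genericPoint X ∉
        ((Scheme.IdealSheafData.vanishingIdeal (X := X) ⟨{x}, hx⟩).support : Set X) ∧
      PicF.IsInvertible (ClSub.idealMod (Scheme.IdealSheafData.vanishingIdeal (X := X) ⟨{x}, hx⟩)) ∧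
      Curv2.deg k X (ClSub.idealMod (Scheme.IdealSheafData.vanishingIdeal (X := X) ⟨{x}, hx⟩)) 1 = -1 := by
  have := hC.locNoeth
  have := hC.noethSpace
  let I := Scheme.IdealSheafData.vanishingIdeal (X := X) ⟨{x}, hx⟩
  have hgen : genericPoint X ∉ (I.support : Set X) := by
    rw [Scheme.IdealSheafData.coe_support_vanishingIdeal]
    intro h
    have hu : ({x} : Set X) = Set.univ := by
      rw [← hx.closure_eq, ← Set.mem_singleton_iff.mp h, genericPoint_closure]
    have : Subsingleton X := ⟨fun a b => by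
      have ha : a ∈ ({x} : Set X) := hu ▸ Set.mem_univ a
      have hb : b ∈ ({x} : Set X) := hu ▸ Set.mem_univ b
      exact ha.trans hb.symm⟩
    have : Subsingleton (IrreducibleCloseds X) := ⟨fun A B => IrreducibleCloseds.ext (by
      obtain ⟨a, ha⟩ := A.isIrreducible.nonempty
      obtain ⟨b, hb⟩ := B.isIrreducible.nonempty
      ext z
      exact ⟨fun _ => Subsingleton.elim b z ▸ hb, fun _ => Subsingleton.elim a z ▸ ha⟩)⟩
    have h0 : topologicalKrullDim X ≤ 0 := Order.krullDim_nonpos_of_subsingleton
    rw [hdim] at h0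
    exact absurd h0 (by decide)
  have hses := ClSub.Quot.idealSeq_shortExact I
  have hOb := TensorMod.LocFree.of_isInvertible (PicLoc.isInvertible_structureModule X)
  obtain ⟨hOc, hOT, eO, -⟩ := bundle (k := k) hOb
  have := hses.mono_f
  have hQs : Subsingleton ((ClSub.quotMod I).presheaf.stalk (genericPoint X)) :=
    Curves.Degree.isTorsion_quotMod hgen
  have hQ : Coh.IsCoh (ClSub.quotMod I) := by
    have : (Coh.structureModule I.subscheme).IsQuasicoherent :=
      Coherent.isQCoh (TensorMod.LocFree.of_rank (TensorMod.LocFree.of_isInvertible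
        (PicLoc.isInvertible_structureModule I.subscheme)))
    have : (ClSub.quotMod I).IsQuasicoherent := QCoh.Pushforward.isQCoh_pushforward _
    have := ClSub.Quot.epi_toSubscheme I
    exact CohBasics.Closure.isCoh_of_epi (ClSub.toSubscheme I) hOc
  obtain ⟨hK, hg, -⟩ := kernel_ses k (ClSub.toSubscheme I) hOc hQ
  have hgQ : gr k (ClSub.quotMod I) = 0 := by
    let _ : Field (X.presheaf.stalk (genericPoint X)) := inferInstanceAs (Field X.functionField)
    exact Module.finrank_zero_of_subsingleton
  have hb := rank_gr k hK (Rank.isTorsionFree_of_mono (kernel.ι (ClSub.toSubscheme I)) hOT)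
  have hg' : gr k (Coh.structureModule X) =
      gr k (kernel (ClSub.toSubscheme I)) + gr k (ClSub.quotMod I) := hg
  rw [show gr k (kernel (ClSub.toSubscheme I)) = 1 by omega] at hb
  have hinv : PicF.IsInvertible (ClSub.idealMod I) := TensorMod.LocFree.isInvertible_of_rank_one hb
  refine ⟨hgen, hinv, ?_⟩
  rw [Curves.Degree.deg_idealMod hdim.le hinv hgen, hdim_quotMod k hx]
  rfl

/-- The ideal of a closed point is invertible of degree `-1`. -/
theorem point_facts (hdim : topologicalKrullDim X = 1) {x : X} (hx : IsClosed ({x} : Set X)) :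
    genericPoint X ∉
        ((Scheme.IdealSheafData.vanishingIdeal (X := X) ⟨{x}, hx⟩).support : Set X) ∧
      PicF.IsInvertible (ClSub.idealMod (Scheme.IdealSheafData.vanishingIdeal (X := X) ⟨{x}, hx⟩)) ∧
      Curv2.deg k X (ClSub.idealMod (Scheme.IdealSheafData.vanishingIdeal (X := X) ⟨{x}, hx⟩)) 1 = -1 :=
  have := Ctx.ofIntegral k hdim
  point_facts_ctx k hdim hx

/-- An invertible ideal of degree `-1`. -/
theorem exists_point (hdim : topologicalKrullDim X = 1) :
    ∃ I : X.IdealSheafData, genericPoint X ∉ (I.support : Set X) ∧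
      PicF.IsInvertible (ClSub.idealMod I) ∧ Curv2.deg k X (ClSub.idealMod I) 1 = -1 := by
  have : CompactSpace X := QuasiCompact.compactSpace_of_compactSpace (X ↘ Spec (CommRingCat.of k))
  obtain ⟨x, -, hx⟩ := IsClosed.exists_closed_singleton (S := (Set.univ : Set X)) isClosed_univ
    Set.univ_nonempty
  exact ⟨_, point_facts k hdim hx⟩

omit [IsAlgClosed k] [Smooth (X ↘ Spec (CommRingCat.of k))] in
/-- Twisting down by a divisor is a monomorphism with cokernel of rank zero. -/
theorem mono_twist [hC : CurveCtx k X] {I : X.IdealSheafData}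
    (hI : genericPoint X ∉ (I.support : Set X)) (hJ : PicF.IsInvertible (ClSub.idealMod I))
    {G : X.Modules} {r : ℕ} (hG : FlatMod.IsFinLocFreeOfRank r G) :
    Mono (tmap (𝟙 G) (ClSub.idealModι I) ≫ (rightUnit G).hom) ∧
      gr k (cokernel (tmap (𝟙 G) (ClSub.idealModι I) ≫ (rightUnit G).hom)) = 0 := by
  have := hC.noethSpace
  obtain ⟨hGc, -, er, -⟩ := bundle (k := k) hG
  let u : CohB1.tensorMod G (ClSub.idealMod I) ⟶ G :=
    tmap (𝟙 G) (ClSub.idealModι I) ≫ (rightUnit G).hom
  have hc1 := Twist.isCoh hJ hGc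
  obtain ⟨eg, ed⟩ := Twist.gr_dg_twist k hJ hGc
  obtain ⟨J, p, j, hp, hj, hpj, hJc, hK, hg, hd⟩ := exists_image k u hc1 hGc
  obtain ⟨hQ, hgj, hdj⟩ := cokernel_ses k j hJc hGc
  have hq : gr k (cokernel j) = 0 := by
    let _ : Field (X.presheaf.stalk (genericPoint X)) := inferInstanceAs (Field X.functionField)
    have hex := (isColimitCoforkMapOfIsColimit' ((tensorFunctor X).obj G)
      (ClSub.Quot.idealSeq I).zero (ClSub.Quot.idealSeq_shortExact I).gIsCokernel)
    have e : cokernel j ≅ CohB1.tensorMod G (ClSub.quotMod I) :=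
      (cokernelIsoOfEq hpj.symm ≪≫ cokernelEpiComp p j).symm ≪≫
        cokernelCompIsIso _ _ ≪≫
          IsColimit.coconePointUniqueUpToIso (cokernelIsCokernel _) hex
    rw [gr_congr k e]
    have : Subsingleton ((CohB1.tensorMod G (ClSub.quotMod I)).presheaf.stalk (genericPoint X)) := by
      have := hGc.2
      have := Coherent.isQCoh (TensorMod.LocFree.of_rank hG)
      refine Modules.Support.not_mem_support_iff.mp ?_
      have hQc := (Curves.Degree.isCoh_quotMod hJ)
      have := hQc.1
      have := hQc.2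
      rw [Modules.SupportOps.support_tensorMod, ClSub.Quot.support_quotMod]
      exact fun h => hI h.2
    exact Module.finrank_zero_of_subsingleton
  have hT : TorSh.IsTorsionFree (CohB1.tensorMod G (ClSub.idealMod I)) :=
    Coherent.isTorsionFree (TensorMod.LocFree.isFinLocFree_tensorMod (TensorMod.LocFree.of_rank hG)
      (TensorMod.LocFree.of_rank (TensorMod.LocFree.of_isInvertible hJ)))
  obtain ⟨hKz, hKd⟩ := sub_zero_rank (k := k) (kernel.ι u) hK hT (by omega)
  have : Mono u := Preadditive.mono_of_kernel_zero (hKz.eq_of_src _ _)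
  exact ⟨this, (gr_congr k (cokernelIsoOfEq hpj.symm ≪≫ cokernelEpiComp p j)).trans hq⟩

omit [IsAlgClosed k] [Smooth (X ↘ Spec (CommRingCat.of k))] in
/-- Twisting down by a divisor drops sections by at most rank times degree. -/
theorem h0_twist [hC : CurveCtx k X] {I : X.IdealSheafData}
    (hI : genericPoint X ∉ (I.support : Set X)) (hJ : PicF.IsInvertible (ClSub.idealMod I))
    {G : X.Modules} {r : ℕ} (hG : FlatMod.IsFinLocFreeOfRank r G) :
    (Curves.Euler.hdim k X G 0 : ℤ) ≤
      Curves.Euler.hdim k X (CohB1.tensorMod G (ClSub.idealMod I)) 0 -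
        (r : ℤ) * dg k (ClSub.idealMod I) := by
  have := hC.noethSpace
  obtain ⟨hGc, -, er, -⟩ := bundle (k := k) hG
  let u : CohB1.tensorMod G (ClSub.idealMod I) ⟶ G :=
    tmap (𝟙 G) (ClSub.idealModι I) ≫ (rightUnit G).hom
  have hc1 := Twist.isCoh hJ hGc
  obtain ⟨eg, ed⟩ := Twist.gr_dg_twist k hJ hGc
  obtain ⟨J, p, j, hp, hj, hpj, hJc, hK, hg, hd⟩ := exists_image k u hc1 hGc
  obtain ⟨hQ, hgj, hdj⟩ := cokernel_ses k j hJc hGc
  obtain ⟨hu0, hq'⟩ := mono_twist k hI hJ hG
  have : Mono u := hu0
  have hq : gr k (cokernel j) = 0 :=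
    (gr_congr k (cokernelIsoOfEq hpj.symm ≪≫ cokernelEpiComp p j)).symm.trans hq'
  have hKd : dg k (kernel u) = 0 := dg_of_isZero k (isZero_kernel_of_mono u) hK
  have hses : (ShortComplex.mk u (cokernel.π u) (cokernel.condition u)).ShortExact :=
    { exact := ShortComplex.exact_cokernel u }
  have ec : cokernel u ≅ cokernel j := cokernelIsoOfEq hpj.symm ≪≫ cokernelEpiComp p j
  have := (hC.good _ hc1).fin₀
  have := (hC.good _ (CohBasics.Closure.isCoh_of_iso ec.symm hQ)).fin₀
  have hu := Curves.Euler.hdim_zero_le_add (k := k) hses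
  have hQd : (Curves.Euler.hdim k X (cokernel u) 0 : ℤ) = dg k (cokernel j) := by
    rw [Curves.Euler.hdim_eq_of_iso ec 0]
    have h0 : Rank.grank (cokernel j) = 0 := hq
    rw [dg, h0, Nat.cast_zero, zero_mul, sub_zero,
      (isTorsion k (Rank.subsingleton_of_grank_eq_zero hQ h0)).euler hC.dim_le]
  rw [er] at ed
  dsimp only at hu
  have hu' := (Nat.cast_le (α := ℤ)).mpr hu
  push_cast at hu'
  linarith

end Groth.Agent.Lib.CurveBundle.Point
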