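import Groth.Agent.Lib.CurveBundle.H0Crit

/-!
# Semistability as a comparison of sections after a uniform twist
-/

set_option autoImplicit false
set_option maxHeartbeats 1000000
universe u

open CategoryTheory Limits AlgebraicGeometry TopologicalSpace

namespace Groth.Agent.Lib.CurveBundle.H0Twist

open Groth.Agent.Lib Degree Slope H0Crit TensorMod.Basic TensorMod.Gen TensorMod.Dual TensorMod.Colimit

variable {k : Type u} [Field k] {X : Scheme.{u}} [X.Over (Spec (CommRingCat.of k))]
  [hC : CurveCtx k X]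

section

variable [IsProper (X ↘ Spec (CommRingCat.of k))]

include hC

lemma dg_pow {L : X.Modules} (hL : PicF.IsInvertible L) (l : ℕ) :
    PicF.IsInvertible (CohB1.tensorPow L l) ∧ dg k (CohB1.tensorPow L l) = l * dg k L := by
  let _ := hC.integral
  have h := TensorMod.Invertible.isInvertible_tensorPow hL l
  exact ⟨h, by
    rw [dg_eq_deg k (TensorMod.LocFree.of_isInvertible h),
      H97.CurvePositivity.deg_tensorPow k hC.dim_le hL,
      ← dg_eq_deg k (TensorMod.LocFree.of_isInvertible hL)]⟩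

/-- Line bundles of large degree have no `H¹`. -/
theorem h1_line {A M : X.Modules} (hA : PicF.IsInvertible A) (hM : PicF.IsInvertible M)
    (h1 : Subsingleton (Coh.HH X (CohB1.tensorMod (Coh.structureModule X) A) 1))
    (hd : 0 < dg k M - dg k A + Curv2.euler k X (Coh.structureModule X)) :
    Subsingleton (Coh.HH X M 1) := by
  let _ := hC.integral
  have := hC.noethSpace
  have hA' := TensorMod.Invertible.isInvertible_dual hA
  have hMA := TensorMod.Invertible.isInvertible_tensorMod hM hA'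
  obtain ⟨hMc, -, eM, -⟩ := SlopeLine.line (k := k) hM
  obtain ⟨-, d⟩ := Twist.gr_dg_twist k hA' hMc
  rw [eM, dg_dual hA] at d
  push_cast at d
  obtain ⟨-, -, -, edM⟩ := SlopeLine.line (k := k) hMA
  unfold Curv2.deg at edM
  have hpos : 0 < Curv2.euler k X (CohB1.tensorMod M (dual A)) := by
    push_cast at edM
    linarith
  obtain ⟨s, hs⟩ := Curves.Positivity.exists_section_of_nontrivial
    (H97.CurvePositivity.nontrivial_of_euler_pos k hC.dim_le hMA hpos)
  let eA : CohB1.tensorMod (CohB1.tensorMod M (dual A)) A ≅ M :=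
    assoc M (dual A) A ≪≫ tensorIso (Iso.refl _) (comm (dual A) A ≪≫
      TensorMod.Invertible.tensorDualIso hA) ≪≫ rightUnit M
  have := Twist.isEquivalence hA
  let φ : CohB1.tensorMod (Coh.structureModule X) A ⟶ M := tmap s (𝟙 A) ≫ eA.hom
  have hφ : φ ≠ 0 := fun h => hs (by
    have h0 : tmap s (𝟙 A) = 0 :=
      (cancel_mono eA.hom).mp (h.trans zero_comp.symm)
    exact (tensorBy A).map_injective (h0.trans (TensorMod.Integral.tmap_zero_left _ _ A).symm))
  have hsrc := TensorMod.Invertible.isInvertible_tensorMod (PicLoc.isInvertible_structureModule X) hA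
  have := Curves.Positivity.mono_of_ne_zero hsrc hM hφ
  have hS : (ShortComplex.mk φ (cokernel.π φ) (cokernel.condition φ)).ShortExact :=
    { exact := ShortComplex.exact_cokernel φ }
  exact H34.HOne.h1_of_shortExact hS h1
    ((Curves.Positivity.isTorsion_cokernel hsrc hM hφ).subsingleton_HH_succ hC.dim_le 0)

/-- Line quotients of a twist of a globally generated bundle. -/
theorem qb_twist {N : ℕ} {F A : X.Modules} (q : FlatMod.freeMod X N ⟶ F) [Epi q]
    (hA : PicF.IsInvertible A) : QB k (CohB1.tensorMod F A) (dg k A) := by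
  let _ := hC.integral
  intro Q p hp hQ
  obtain ⟨hQc, -, eQ, -⟩ := SlopeLine.line (k := k) hQ
  have hA' := TensorMod.Invertible.isInvertible_dual hA
  have hQ' := TensorMod.Invertible.isInvertible_tensorMod hQ hA'
  have := Twist.isEquivalence hA'
  let eA : CohB1.tensorMod (CohB1.tensorMod F A) (dual A) ≅ F :=
    assoc F A (dual A) ≪≫ tensorIso (Iso.refl _) (TensorMod.Invertible.tensorDualIso hA) ≪≫ rightUnit F
  let w : FlatMod.freeMod X N ⟶ CohB1.tensorMod Q (dual A) :=
    q ≫ eA.inv ≫ tmap p (𝟙 (dual A))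
  have hw : w ≠ 0 := by
    intro h
    have h1 : tmap p (𝟙 (dual A)) = 0 := by
      rw [← cancel_epi eA.inv, comp_zero, ← cancel_epi q, comp_zero]
      exact h
    have h2 : p = 0 :=
      (tensorBy (dual A)).map_injective (h1.trans (TensorMod.Integral.tmap_zero_left _ _ (dual A)).symm)
    have hz : IsZero Q := by
      rw [IsZero.iff_id_eq_zero, ← cancel_epi p, Category.comp_id, h2, zero_comp]
    rw [gr_of_isZero k hz] at eQ
    omega
  obtain ⟨j, hj⟩ : ∃ j, Sigma.ι (fun _ : Fin N => Coh.structureModule X) j ≫ w ≠ 0 := by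
    by_contra h
    exact hw (Sigma.hom_ext (f := fun _ : Fin N => Coh.structureModule X) _ _ fun j => by
      rw [comp_zero]; exact not_not.mp (not_exists.mp h j))
  have := (SlopeLine.of_ne_zero (k := k) (PicLoc.isInvertible_structureModule X) hQ' _ hj).2
  obtain ⟨-, d⟩ := Twist.gr_dg_twist k hA' hQc
  rw [eQ, dg_dual hA] at d
  rw [dg_structure, d] at this
  push_cast at this
  linarith

end

/-- The numerical comparison. -/
lemma numeric {D r n c γ e h : ℤ} (he : e = 1 - γ) (hγ : 0 ≤ γ) (hr : 0 < r) (hn : 0 ≤ n)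
    (hc : 0 ≤ c) (hD : (c + n + γ * (n + 1)) * r ≤ D) (hh : h ≤ n * (D / r + 1) + c) :
    h * r ≤ (D + r * e) * (n + 1) := by
  have h1 := mul_le_mul_of_nonneg_right hh hr.le
  have h2 := mul_le_mul_of_nonneg_left (Int.ediv_mul_le D hr.ne') hn
  subst he
  nlinarith [mul_nonneg hn hr.le]

variable [IsProper (X ↘ Spec (CommRingCat.of k))]

include hC

/-- Sections of subsheaves of a semistable bundle of large degree. -/
theorem h0_sub {I : X.IdealSheafData}
    (hI : letI := hC.integral; genericPoint X ∉ (I.support : Set X))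
    (hJ : PicF.IsInvertible (ClSub.idealMod I)) (hJd : dg k (ClSub.idealMod I) = -1) {γ : ℤ}
    (hγ : γ = 1 - Curv2.euler k X (Coh.structureModule X)) (hγ0 : 0 ≤ γ) {c₀ : ℕ}
    (hc₀ : ∀ M : X.Modules, PicF.IsInvertible M → (c₀ : ℤ) ≤ dg k M → Subsingleton (Coh.HH X M 1))
    {r r' : ℕ} {H G : X.Modules} (hH : FlatMod.IsFinLocFreeOfRank r H) (hss : SS k H)
    (hr' : 0 < r') (hG : FlatMod.IsFinLocFreeOfRank r' G) (j : G ⟶ H) [Mono j]
    (hD : ((c₀ : ℤ) + 2 * γ * r + r + γ * r) * r ≤ dg k H) :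
    (Curves.Euler.hdim k X G 0 : ℤ) * r ≤
      (dg k H + r * Curv2.euler k X (Coh.structureModule X)) * r' := by
  obtain ⟨hHc, hHT, eH, -⟩ := bundle (k := k) hH
  obtain ⟨hGc, hGT, eG, edG⟩ := bundle (k := k) hG
  unfold Curv2.deg at edG
  by_cases hq' : QB k G (c₀ + 2 * γ * r')
  · have h1 := (quot_bound hI hJ hJd hγ hγ0 hc₀ r' _ _ hG hq').2 le_rfl
    rw [h0_eq hGc h1]
    have h2 := hss _ j ‹_› hGc
    rw [eH, eG] at h2
    rw [show Curv2.euler k X G = dg k G + r' * Curv2.euler k X (Coh.structureModule X) by linarith]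
    linarith
  · simp only [QB, not_forall, not_le] at hq'
    obtain ⟨Q, p, hp, hQ, hQd⟩ := hq'
    have hrr : r' ≤ r := by
      have h' := gr_le_of_mono k j hHc
      rwa [eG, eH] at h'
    obtain ⟨n, rfl⟩ : ∃ n, r' = n + 1 := ⟨r' - 1, by omega⟩
    have hnr : (n : ℤ) + 1 ≤ r := by exact_mod_cast hrr
    have hr0 : (0 : ℤ) < r := by omega
    have hD0 : 0 ≤ dg k H := le_trans (by positivity) hD
    have hlb : LB k G (dg k H / r + 1).toNat := by
      intro M a _ hM
      obtain ⟨hMc, -, eM, -⟩ := SlopeLine.line (k := k) hM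
      have h2 := hss _ (a ≫ j) (mono_comp _ _) hMc
      rw [eH, eM] at h2
      push_cast at h2
      have h3 : dg k M ≤ dg k H / r := (Int.le_ediv_iff_mul_le hr0).mpr (by linarith)
      have := Int.self_le_toNat (dg k H / r + 1)
      omega
    have hcN : (0 : ℤ) ≤ c₀ + 2 * γ * (n + 1 : ℕ) := by positivity
    have h1 := h0_of_quot hI hJ hJd (c := (c₀ + 2 * γ * (n + 1 : ℕ)).toNat) hG hlb p hQ
      (by rw [Int.toNat_of_nonneg hcN]; exact hQd)
    rw [Int.toNat_of_nonneg (by have := Int.ediv_nonneg hD0 hr0.le; omega),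
      Int.toNat_of_nonneg hcN] at h1
    refine le_trans (numeric (n := n) (γ := γ) (c := c₀ + 2 * γ * (n + 1 : ℕ)) ?_ hγ0 hr0
      (by positivity) hcN ?_ h1) (le_of_eq (by push_cast; rfl))
    · rw [hγ]; ring
    · refine le_trans (mul_le_mul_of_nonneg_right ?_ hr0.le) hD
      push_cast
      nlinarith [mul_le_mul_of_nonneg_left hnr hγ0]

omit hC in
/-- Semistability is a comparison of sections after a uniform twist. -/
theorem exists_twist [IsAlgClosed k] [IsIntegral X] [Smooth (X ↘ Spec (CommRingCat.of k))]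
    (hdim : topologicalKrullDim X = 1) {L : X.Modules} (hLi : PicF.IsInvertible L)
    (hL : CohB1.IsAmple L) (N : ℕ) (P : Polynomial ℚ) :
    ∃ l : ℕ, ∀ (r : ℕ) (F : X.Modules) (q : FlatMod.freeMod X N ⟶ F),
      0 < r → FlatMod.IsFinLocFreeOfRank r F → Epi q → ShStab.IsHilbPoly k X L F P →
        (ModFun.IsSlopeSemistable k X F r ↔
          ∀ (F' : X.Modules) (r' : ℕ) (i : F' ⟶ F), Mono i → 0 < r' → FlatMod.IsFinLocFreeOfRank r' F' →
            (Module.finrank k (Coh.HH X (ShStab.twist X L F' l) 0) : ℚ) / (r' : ℚ) ≤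
              (Module.finrank k (Coh.HH X (ShStab.twist X L F l) 0) : ℚ) / (r : ℚ)) := by
  have := Ctx.ofIntegral k hdim
  have := Curves.GlobalSections.isNoetherian_of_proper k X
  obtain ⟨I, hI, hJ, hJd⟩ := Point.exists_point k hdim
  rw [← dg_eq_deg k (TensorMod.LocFree.of_isInvertible hJ)] at hJd
  set e := Curv2.euler k X (Coh.structureModule X) with he
  obtain ⟨hOc, -, -, -⟩ := SlopeLine.line (k := k) (PicLoc.isInvertible_structureModule X)
  set γ : ℤ := 1 - e with hγ
  have hγ0 : 0 ≤ γ := by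
    rw [hγ, he, (CurveCtx.good (k := k) _ hOc).euler]
    have : Curves.Euler.hdim k X (Coh.structureModule X) 0 = 1 :=
      Curves.GlobalSections.finrank_h0_structure k X
    omega
  have hδ1 : 1 ≤ dg k L := by
    rw [dg_eq_deg k (TensorMod.LocFree.of_isInvertible hLi)]
    exact H97.CurvePositivity.deg_pos_of_isAmple k hdim hL
  obtain ⟨l₀, hl₀⟩ := Filter.eventually_atTop.mp
    (H97.CurveAmple.van_of_isAmple k hdim.le hL hOc)
  set δ := dg k L with hδdef
  have hc₀ : ∀ M : X.Modules, PicF.IsInvertible M →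
      ((((l₀ : ℤ) * δ + γ).toNat : ℕ) : ℤ) ≤ dg k M → Subsingleton (Coh.HH X M 1) :=
    fun M hM hd => by
    obtain ⟨hA, hAd⟩ := dg_pow (k := k) hLi l₀
    rw [← hδdef] at hAd
    refine h1_line (k := k) hA hM (hl₀ l₀ le_rfl) ?_
    have := Int.self_le_toNat ((l₀ : ℤ) * δ + γ)
    rw [hAd, ← he]
    change 0 < dg k M - (l₀ : ℤ) * δ + e
    omega
  set c₀ := ((l₀ : ℤ) * δ + γ).toNat
  let B : ℤ := c₀ + 2 * γ * N + N + γ * N
  let Z : ℤ := B * (N + 1) + |⌈P.eval 0⌉| + γ * N + N
  have hB0 : 0 ≤ B := by simp only [B]; positivity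
  refine ⟨Z.toNat, fun r F q hr hF hq hP => ?_⟩
  set l := Z.toNat
  have hlZ : Z ≤ l := Int.self_le_toNat Z
  obtain ⟨hA, hAd⟩ := dg_pow (k := k) hLi l
  rw [← hδdef] at hAd
  obtain ⟨hFc, -, eF, edF⟩ := bundle (k := k) hF
  obtain ⟨hNc, -, eN, -⟩ := bundle (k := k) (TensorMod.LocFree.isFinLocFree_freeMod X N)
  have hrN : r ≤ N := by
    obtain ⟨-, hg, -⟩ := kernel_ses k q hNc hFc
    omega
  obtain ⟨-, dFl⟩ := Twist.gr_dg_twist k hA hFc
  have hFl : FlatMod.IsFinLocFreeOfRank r (ShStab.twist X L F l) := by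
    simpa [ShStab.twist] using TensorMod.LocFree.rank_tensorMod hF (TensorMod.LocFree.of_isInvertible hA)
  obtain ⟨hFlc, -, -, edFl⟩ := bundle (k := k) hFl
  unfold Curv2.deg at edFl edF
  have hP0 : Curv2.euler k X F = ⌈P.eval 0⌉ := by
    have h0 := hP 0
    have hi : Curv2.euler k X (ShStab.twist X L F 0) = Curv2.euler k X F :=
      Curves.Euler.euler_eq_of_iso (rightUnit F)
    rw [hi, Nat.cast_zero] at h0
    rw [← h0, Int.ceil_intCast]
  have hrZ : (r : ℤ) ≤ N := by exact_mod_cast hrN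
  have hr1 : (1 : ℤ) ≤ r := by exact_mod_cast hr
  have hlδ : (l : ℤ) ≤ l * δ := le_mul_of_one_le_right (Int.natCast_nonneg l) hδ1
  have hBl : B * (N + 1) + γ * N + N + |⌈P.eval 0⌉| ≤ l * δ := by
    simp only [Z] at hlZ; linarith
  have hvan : Subsingleton (Coh.HH X (ShStab.twist X L F l) 1) := by
    refine (quot_bound hI hJ hJd hγ hγ0 hc₀ r _ _ hFl (qb_twist (k := k) q hA)).2 ?_
    rw [hAd]
    have h7 := mul_le_mul_of_nonneg_left hrZ hγ0
    have h9 : B ≤ B * (N + 1) := le_mul_of_one_le_right hB0 (by omega)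
    have h10 : 0 ≤ γ * N := by positivity
    simp only [B] at h9 hBl ⊢
    linarith [abs_nonneg ⌈P.eval 0⌉]
  have hFh := h0_eq (k := k) hFlc hvan
  rw [hAd, eF] at dFl
  have hdFl : dg k (ShStab.twist X L F l) = dg k F + r * (l * δ) := dFl
  have hr0 : (0 : ℚ) < r := by exact_mod_cast hr
  constructor
  · intro hss F' r' i hi hr' hF'
    have hTe := Twist.isEquivalence hA
    have hG : FlatMod.IsFinLocFreeOfRank r' (ShStab.twist X L F' l) := by
      simpa [ShStab.twist] using TensorMod.LocFree.rank_tensorMod hF' (TensorMod.LocFree.of_isInvertible hA)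
    let j : ShStab.twist X L F' l ⟶ ShStab.twist X L F l := (tensorBy (CohB1.tensorPow L l)).map i
    have : Mono j := inferInstanceAs (Mono ((tensorBy (CohB1.tensorPow L l)).map i))
    have key := h0_sub (k := k) (H := ShStab.twist X L F l) hI hJ hJd hγ hγ0 hc₀ hFl
      (Sections.ss_twist hA hFc (ss_of hF hss)) hr' hG j (by
        rw [hdFl]
        have h5 : (l : ℤ) * δ ≤ r * (l * δ) :=
          le_mul_of_one_le_left (mul_nonneg (Int.natCast_nonneg l) (by omega)) hr1
        have h7 := mul_le_mul_of_nonneg_left hrZ hγ0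
        have h8 : (r : ℤ) * e = r - r * γ := by rw [hγ]; ring
        have hB : (c₀ : ℤ) + 2 * γ * r + r + γ * r ≤ B := by simp only [B]; linarith
        have h6 : B * r ≤ B * (N + 1) := mul_le_mul_of_nonneg_left (by omega) hB0
        refine le_trans ((mul_le_mul_of_nonneg_right hB (by omega)).trans h6) ?_
        linarith [neg_abs_le ⌈P.eval 0⌉, mul_nonneg hγ0 (Int.natCast_nonneg r)])
    rw [div_le_div_iff₀ (by exact_mod_cast hr') hr0]
    have hFh' : (Curves.Euler.hdim k X (ShStab.twist X L F l) 0 : ℤ) =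
        dg k (ShStab.twist X L F l) + r * e := by rw [hFh]; linarith
    rw [← hFh'] at key
    exact_mod_cast key
  · intro h F' r' i hi hr' hF'
    obtain ⟨hF'c, -, eF', edF'⟩ := bundle (k := k) hF'
    have hG : FlatMod.IsFinLocFreeOfRank r' (ShStab.twist X L F' l) := by
      simpa [ShStab.twist] using TensorMod.LocFree.rank_tensorMod hF' (TensorMod.LocFree.of_isInvertible hA)
    obtain ⟨hGc, -, -, edG⟩ := bundle (k := k) hG
    unfold Curv2.deg at edG
    obtain ⟨-, dG⟩ := Twist.gr_dg_twist k hA hF'c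
    rw [hAd, eF'] at dG
    have hdG : dg k (ShStab.twist X L F' l) = dg k F' + r' * (l * δ) := dG
    have hle := (CurveCtx.good (k := k) _ hGc).euler
    have h1 := h F' r' i hi hr' hF'
    rw [div_le_div_iff₀ (by exact_mod_cast hr') hr0] at h1
    have h2 : (Curves.Euler.hdim k X (ShStab.twist X L F' l) 0 : ℤ) * r ≤
        (Curves.Euler.hdim k X (ShStab.twist X L F l) 0 : ℤ) * r' := by exact_mod_cast h1
    have h3 : Curv2.euler k X (ShStab.twist X L F' l) ≤
        (Curves.Euler.hdim k X (ShStab.twist X L F' l) 0 : ℤ) := by omega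
    have h4 := mul_le_mul_of_nonneg_right h3 (Int.natCast_nonneg r)
    rw [hFh] at h2
    rw [edF', (bundle (k := k) hF).2.2.2]
    rw [hdG] at edG
    rw [hdFl] at edFl
    nlinarith

end Groth.Agent.Lib.CurveBundle.H0Twist
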