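import Groth.Agent.Lib.CurveBundle.H0Twist
import Groth.Agent.Lib.CurveBundle.GP
import Groth.Agent.Lib.Curves.Clifford

/-!
# Line quotients with first cohomology

A bundle with `H¹ ≠ 0` on a curve has a line quotient with `H¹ ≠ 0`: otherwise a functional on
`H¹(E)` embeds `Hom(L, E)` into the dual of `H¹(L)` for every invertible `L`, which fails for very
negative `L` once the rank is at least two.  So duality is not needed for the vanishing of `H¹` of
semistable bundles of large slope.
-/

set_option autoImplicit false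
universe u

open CategoryTheory Limits AlgebraicGeometry Opposite TopologicalSpace

noncomputable section

namespace Groth.Agent.Lib.CurveBundle.LineQuot

open Groth.Agent.Lib Degree Slope TensorMod.Basic TensorMod.Dual

variable (k : Type u) [Field k] {X : Scheme.{u}} [X.Over (Spec (CommRingCat.of k))]

/-- `(E ⊗ M) ⊗ L ≅ E`. -/
def cancel {E M L : X.Modules} (e : CohB1.tensorMod M L ≅ Coh.structureModule X) :
    CohB1.tensorMod (CohB1.tensorMod E M) L ≅ E :=
  (Twist.cancelNat e).app E

/-- The map `L ⟶ E` of a section of `E ⊗ M`, where `M ⊗ L ≅ O`. -/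
def sectHom {E M L : X.Modules} (e : CohB1.tensorMod M L ≅ Coh.structureModule X)
    (t : Γ(CohB1.tensorMod E M, ⊤)) : L ⟶ E :=
  (leftUnit L).inv ≫ tmap (Curves.Clifford.σ (CohB1.tensorMod E M) t) (𝟙 L) ≫
    (cancel e).hom

omit [X.Over (Spec (CommRingCat.of k))] in
lemma sectHom_add {E M L : X.Modules} (e : CohB1.tensorMod M L ≅ Coh.structureModule X)
    (s t : Γ(CohB1.tensorMod E M, ⊤)) : sectHom e (s + t) = sectHom e s + sectHom e t := by
  haveI := GP.additive_tensorBy L
  simp only [sectHom, Curves.Clifford.σ_add]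
  rw [show tmap (Curves.Clifford.σ (CohB1.tensorMod E M) s + Curves.Clifford.σ (CohB1.tensorMod E M) t)
    (𝟙 L) = tmap (Curves.Clifford.σ (CohB1.tensorMod E M) s) (𝟙 L) +
      tmap (Curves.Clifford.σ (CohB1.tensorMod E M) t) (𝟙 L) from (tensorBy L).map_add]
  rw [Preadditive.add_comp, Preadditive.comp_add]

lemma sectHom_smul {E M L : X.Modules} (e : CohB1.tensorMod M L ≅ Coh.structureModule X) (c : k)
    (t : Γ(CohB1.tensorMod E M, ⊤)) :
    sectHom e ((EndAlg.cst X k c) • t) = sectHom e t ≫ EndAlg.scal E (EndAlg.cst X k c) := by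
  simp only [sectHom, Curves.Clifford.σ_smul]
  rw [← Category.comp_id (𝟙 L), tmap_comp, GP.tmap_scal, Category.comp_id]
  simp only [Category.assoc, EndAlg.scal_comm]

omit [X.Over (Spec (CommRingCat.of k))] in
lemma sectHom_eq_zero {E M L : X.Modules} (hL : PicF.IsInvertible L)
    (e : CohB1.tensorMod M L ≅ Coh.structureModule X) {t : Γ(CohB1.tensorMod E M, ⊤)}
    (h : sectHom e t = 0) : t = 0 := by
  have := Twist.isEquivalence hL
  refine Curves.Clifford.σ_eq_zero ((tensorBy L).map_injective ?_)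
  have h1 : tmap (Curves.Clifford.σ (CohB1.tensorMod E M) t) (𝟙 L) = 0 := by
    rwa [sectHom, ← cancel_epi (leftUnit L).hom, Iso.hom_inv_id_assoc, comp_zero,
      ← cancel_mono (cancel e).inv, Category.assoc, Iso.hom_inv_id,
      Category.comp_id, zero_comp] at h
  exact h1.trans (TensorMod.Integral.tmap_zero_left _ _ L).symm

variable [hC : CurveCtx k X]

include hC

/-- If no proper quotient bundle has `H¹`, every nonzero map from a line bundle is onto on `H¹`. -/
lemma surjective_of_ne_zero [IsProper (X ↘ Spec (CommRingCat.of k))] {n : ℕ} {E L : X.Modules}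
    (hn : 2 ≤ n) (hE : FlatMod.IsFinLocFreeOfRank n E) (hL : PicF.IsInvertible L)
    (hQ : ∀ (Q : X.Modules) (m : ℕ) (q : E ⟶ Q), Epi q → m < n → FlatMod.IsFinLocFreeOfRank m Q →
      Subsingleton (Coh.HH X Q 1))
    (φ : L ⟶ E) (hφ : φ ≠ 0) : Function.Surjective (Curves.LES.mapK k φ 1) := by
  let _ := hC.integral
  have := hC.locNoeth
  have := hC.noethSpace
  obtain ⟨hEc, hET, eE, -⟩ := bundle (k := k) hE
  obtain ⟨hLc, hLT, eL, -⟩ := SlopeLine.line (k := k) hL
  obtain ⟨I, p, j, hp, hj, hpj, hI, hK, hg, -⟩ := exists_image k φ hLc hEc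
  have hI0 : gr k I ≠ 0 := fun h0 => hφ (eq_zero_of_image k p j hpj hI hET h0)
  haveI : Mono φ := Preadditive.mono_of_kernel_zero
    ((sub_zero_rank (k := k) (kernel.ι φ) hK hLT (by omega)).1.eq_of_src _ _)
  obtain ⟨G, i, a, hi, ha, hai, hG, hGr, hT, hc⟩ := Saturation.exists_saturation φ hLc hEc
  have hGr' : gr k G = 1 := hGr.trans eL
  obtain ⟨-, hgc, -⟩ := cokernel_ses k i hG hEc
  have h1 : Subsingleton (Coh.HH X (cokernel i) 1) :=
    hQ _ (gr k (cokernel i)) (cokernel.π i) inferInstance (by omega) (rank_gr k hc hT)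
  have hs1 : Function.Surjective (Curves.LES.mapK k i 1) := fun y =>
    (Curves.LES.exactK₂ k (Curves.Positivity.cokerSES_shortExact i) 1 y).mp (Subsingleton.elim _ _)
  obtain ⟨hca, hga, -⟩ := cokernel_ses k a hLc hG
  have hs2 : Function.Surjective (Curves.LES.mapK k a 1) :=
    Curves.Clifford.mapK_surjective_one k hC.dim_le a
      (isTorsion k (Rank.subsingleton_of_grank_eq_zero hca (by
        have : gr k (cokernel a) = 0 := by omega
        exact this)))
  rw [← hai, Curves.LES.mapK_comp]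
  exact hs1.comp hs2

/-- A bundle with `H¹ ≠ 0` has a line quotient with `H¹ ≠ 0`. -/
theorem exists_line_quot [IsProper (X ↘ Spec (CommRingCat.of k))] {A : X.Modules}
    (hA : PicF.IsInvertible A) (hA0 : 0 < dg k A) :
    ∀ (n : ℕ) (E : X.Modules), FlatMod.IsFinLocFreeOfRank n E → Nontrivial (Coh.HH X E 1) →
      ∃ (M : X.Modules) (p : E ⟶ M), Epi p ∧ PicF.IsInvertible M ∧ Nontrivial (Coh.HH X M 1) := by
  let _ := hC.integral
  intro n
  induction n using Nat.strong_induction_on with
  | _ n ih =>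
  intro E hE h1
  obtain ⟨hEc, hET, eE, -⟩ := bundle (k := k) hE
  by_cases hQ : ∀ (Q : X.Modules) (m : ℕ) (q : E ⟶ Q), Epi q → m < n →
      FlatMod.IsFinLocFreeOfRank m Q → Subsingleton (Coh.HH X Q 1)
  swap
  · push Not at hQ
    obtain ⟨Q, m, q, hq, hm, hQb, hQ1⟩ := hQ
    obtain ⟨M, p, hp, hM, hM1⟩ := ih m hm Q hQb hQ1
    exact ⟨M, q ≫ p, epi_comp _ _, hM, hM1⟩
  rcases le_or_gt 2 n with hn | hn
  swap
  · rcases Nat.eq_zero_or_pos n with rfl | h0
    · exact absurd (H0Crit.h1_isZero (isZero_of_gr k hEc hET eE))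
        (not_subsingleton_iff_nontrivial.mpr h1)
    · obtain rfl : n = 1 := by omega
      exact ⟨E, 𝟙 E, inferInstance, TensorMod.LocFree.isInvertible_of_rank_one hE, h1⟩
  exfalso
  -- a large twist
  let χ := Curv2.euler k X (Coh.structureModule X)
  let m : ℕ := (|dg k E| + ((n : ℤ) + 1) * |χ| + 1).toNat
  obtain ⟨hM, hMd⟩ := H0Twist.dg_pow (k := k) hA m
  set M := CohB1.tensorPow A m
  have hL := TensorMod.Invertible.isInvertible_dual hM
  set L := dual M
  let e : CohB1.tensorMod M L ≅ Coh.structureModule X := TensorMod.Invertible.tensorDualIso hM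
  obtain ⟨hLc, -, eL, -⟩ := SlopeLine.line (k := k) hL
  have hLd : dg k L = -(m * dg k A) := by rw [H0Crit.dg_dual hM, hMd]
  have hFc := Twist.isCoh hM hEc
  obtain ⟨eF, dF⟩ := Twist.gr_dg_twist k hM hEc
  set F := CohB1.tensorMod E M
  -- the functional
  obtain ⟨y, hy⟩ := exists_ne (0 : Coh.HH X E 1)
  haveI := Module.Free.of_divisionRing k (Coh.HH X E 1)
  haveI : Module.Projective k (Coh.HH X E 1) := Module.Projective.of_free
  obtain ⟨ψ, hψ⟩ : ∃ ψ : Module.Dual k (Coh.HH X E 1), ψ y ≠ 0 := by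
    by_contra h
    push Not at h
    exact hy ((Module.forall_dual_apply_eq_zero_iff k y).1 h)
  letI := Curves.GlobalSections.secModule k F
  let Ψ : (F.val.obj (op ⊤) : Type u) →ₗ[k] Module.Dual k (Coh.HH X L 1) :=
    { toFun := fun t => ψ.comp (Curves.LES.mapK k (sectHom e t) 1)
      map_add' := fun s t => (congrArg (fun g => ψ.comp (Curves.LES.mapK k g 1))
        (sectHom_add e s t)).trans (by rw [Curves.Clifford.mapK_add, LinearMap.comp_add])
      map_smul' := fun c t => (congrArg (fun g => ψ.comp (Curves.LES.mapK k g 1))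
        (sectHom_smul k e c t)).trans (by
          rw [Curves.LES.mapK_comp, Curves.Clifford.mapK_scal]
          exact LinearMap.ext fun x => ψ.map_smul c _) }
  have hinj : Function.Injective Ψ := by
    rw [injective_iff_map_eq_zero]
    intro t ht
    by_contra h
    obtain ⟨z, hz⟩ := surjective_of_ne_zero k hn hE hL hQ _ (fun h0 => h (sectHom_eq_zero hL e h0)) y
    exact hψ (hz ▸ (LinearMap.congr_fun ht z : ψ (Curves.LES.mapK k (sectHom e t) 1 z) = 0))
  haveI := (hC.good _ hFc).fin₀
  haveI := (hC.good _ hLc).fin₁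
  have key : Curves.Euler.hdim k X F 0 ≤ Curves.Euler.hdim k X L 1 :=
    calc Curves.Euler.hdim k X F 0 = Module.finrank k (F.val.obj (op ⊤) : Type u) :=
          (Curves.GlobalSections.h0Linear k F).finrank_eq
      _ ≤ Module.finrank k (Module.Dual k (Coh.HH X L 1)) :=
          LinearMap.finrank_le_finrank_of_injective hinj
      _ = _ := Subspace.dual_finrank_eq
  -- numerics
  have hL0 : Curves.Euler.hdim k X L 0 = 0 := by
    have hm : (1 : ℤ) ≤ m := by
      have : 0 ≤ |dg k E| + ((n : ℤ) + 1) * |χ| := by positivity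
      omega
    have := H0Crit.no_sections (TensorMod.LocFree.of_isInvertible hL)
      (H0Crit.lb_invertible (N := 0) hL (by rw [hLd]; nlinarith))
    exact Module.finrank_zero_of_subsingleton
  have eF' := (hC.good _ hFc).euler
  have eL' := (hC.good _ hLc).euler
  have dF' : dg k F = Curv2.euler k X F - (gr k F : ℤ) * χ := rfl
  have dL' : dg k L = Curv2.euler k X L - (gr k L : ℤ) * χ := rfl
  rw [eF, eE] at dF'
  rw [eE, hMd] at dF
  rw [eL] at dL'
  have hn' : (2 : ℤ) ≤ n := by exact_mod_cast hn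
  have hm' : (m : ℤ) = |dg k E| + ((n : ℤ) + 1) * |χ| + 1 :=
    Int.toNat_of_nonneg (by positivity)
  have h1' : -|dg k E| ≤ dg k E := neg_abs_le _
  have h2' : -|χ| ≤ χ := neg_abs_le _
  have h3' : (m : ℤ) ≤ ((n : ℤ) - 1) * (m * dg k A) := by
    have : (m : ℤ) * 1 ≤ m * dg k A := mul_le_mul_of_nonneg_left hA0 (Int.natCast_nonneg m)
    nlinarith
  have h4' : ((n : ℤ) + 1) * -|χ| ≤ ((n : ℤ) + 1) * χ := mul_le_mul_of_nonneg_left h2' (by omega)
  have key' : (Curves.Euler.hdim k X F 0 : ℤ) ≤ Curves.Euler.hdim k X L 1 := by exact_mod_cast key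
  push_cast at dF' dL'
  nlinarith [Int.natCast_nonneg (Curves.Euler.hdim k X F 1)]

variable {k}

/-- **`H¹ = 0` when every line quotient has degree above `2g - 2`.** -/
theorem subsingleton_h1 [IsProper (X ↘ Spec (CommRingCat.of k))] {A : X.Modules}
    (hA : PicF.IsInvertible A) (hA0 : 0 < dg k A)
    (h0 : Module.finrank k (Coh.HH X (Coh.structureModule X) 0) = 1) {n : ℕ} {E : X.Modules}
    (hE : FlatMod.IsFinLocFreeOfRank n E)
    (hq : ∀ (M : X.Modules) (p : E ⟶ M), Epi p → PicF.IsInvertible M →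
      2 * (Curv2.genus k X : ℤ) - 2 < dg k M) : Subsingleton (Coh.HH X E 1) := by
  let _ := hC.integral
  by_contra h
  obtain ⟨M, p, hp, hM, hM1⟩ := exists_line_quot k hA hA0 n E hE
    (not_subsingleton_iff_nontrivial.mp h)
  have := Curves.Clifford.deg_le_of_nontrivial_one k hC.dim_le h0 hM hM1
  have := hq M p hp hM
  rw [dg_eq_deg k (TensorMod.LocFree.of_isInvertible hM)] at this
  omega

end Groth.Agent.Lib.CurveBundle.LineQuot
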