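import Groth.Agent.Lib.CurveBundle.Extension
import Groth.Agent.Lib.CurveBundle.LineQuot

/-!
# Rank two bundles: sections of line subbundles, simplicity
-/

set_option autoImplicit false
universe u

open CategoryTheory Limits AlgebraicGeometry Opposite TopologicalSpace

namespace Groth.Agent.Lib.CurveBundle.RankTwo

open Groth.Agent.Lib Degree Slope TensorMod.Basic TensorMod.Dual

variable {k : Type u} [Field k] {X : Scheme.{u}} [X.Over (Spec (CommRingCat.of k))]
  [hC : CurveCtx k X]
  (h0 : Module.finrank k (Coh.HH X (Coh.structureModule X) 0) = 1) {E : X.Modules}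
  (hE : FlatMod.IsFinLocFreeOfRank 2 E)

include hC h0 hE

/-- `h⁰`-semistability is slope semistability in large degree. -/
theorem h0Semistable_iff [IsProper (X ↘ Spec (CommRingCat.of k))] (h1 : Subsingleton (Coh.HH X E 1))
    (hd : 4 * (Curv2.genus k X : ℤ) - 2 ≤ dg k E) :
    (∀ (M : X.Modules) (i : M ⟶ E), Mono i → PicF.IsInvertible M →
        2 * Curves.Euler.hdim k X M 0 ≤ Curves.Euler.hdim k X E 0) ↔
      ModFun.IsSlopeSemistable k X E 2 := by
  haveI := hC.integral
  obtain ⟨hEc, hET, eE, edE⟩ := bundle (k := k) hE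
  have hO := Curves.Degree.euler_structureModule (k := k) hC.dim_le h0
  have eh := H0Crit.h0_eq (k := k) hEc h1
  have dE : dg k E = Curv2.euler k X E - (gr k E : ℤ) * Curv2.euler k X (Coh.structureModule X) := rfl
  rw [eE, hO] at dE
  push_cast at dE
  constructor
  · intro h F r i _ hr hF
    obtain ⟨hFc, -, eF, edF⟩ := bundle (k := k) hF
    rw [edE, edF]
    have hle : r ≤ 2 := by
      have hle' := gr_le_of_mono k i hEc
      omega
    interval_cases r
    · have hFi := TensorMod.LocFree.isInvertible_of_rank_one hF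
      have hr := Curves.Degree.riemann_roch (k := k) hC.dim_le h0 hFi
      have := h F i ‹_› hFi
      push_cast
      omega
    · push_cast
      exact mul_le_mul_of_nonneg_right (dg_le_of_mono k i hFc hEc (by omega)) (by norm_num)
  · intro h M i _ hM
    have := h M 1 i ‹_› one_pos (TensorMod.LocFree.of_isInvertible hM)
    rw [edE] at this
    push_cast at this
    have hr := Curves.Degree.riemann_roch (k := k) hC.dim_le h0 hM
    by_cases hM1 : Curves.Euler.hdim k X M 1 = 0
    · omega
    · have := Curves.Clifford.hdim_zero_le_genus k hC.dim_le hM (𝟙 M)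
        (Module.nontrivial_of_finrank_pos (R := k) (Nat.pos_of_ne_zero hM1))
      omega

/-- A simple rank two bundle bounds its line subbundles. -/
theorem two_deg_le_of_simple (hsimple : ∀ φ : E ⟶ E, ∃ c : k,
      (SheafOfModules.toSheaf X.ringCatSheaf).map φ =
        Coh.smulAb E (Coh.toGlobal (X ↘ Spec (CommRingCat.of k)) c))
    [IsProper (X ↘ Spec (CommRingCat.of k))]
    {L : X.Modules} (hL : PicF.IsInvertible L) (i : L ⟶ E) [Mono i]
    (hM : PicF.IsInvertible (cokernel i)) :
    2 * dg k L ≤ dg k E + (Curv2.genus k X : ℤ) - 2 := by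
  haveI := hC.integral
  haveI := hC.noethSpace
  set M := cokernel i
  obtain ⟨hLc, -, eL, edL⟩ := SlopeLine.line (k := k) hL
  obtain ⟨hMc, -, eM, edM⟩ := SlopeLine.line (k := k) hM
  obtain ⟨hEc, -, -, edE⟩ := bundle (k := k) hE
  have hd := SlopeLine.dg_cokernel (k := k) hE hL i
  rw [edE] at hd
  have hM' := TensorMod.Invertible.isInvertible_dual hM
  have hT := TensorMod.Invertible.isInvertible_tensorMod hM' hL
  let T := CohB1.tensorMod (dual M) L
  obtain ⟨hM'c, -, eM', -⟩ := SlopeLine.line (k := k) hM'
  obtain ⟨-, dT⟩ := Twist.gr_dg_twist k hL hM'c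
  rw [eM', H0Crit.dg_dual hM] at dT
  push_cast at dT
  obtain ⟨-, -, -, edT⟩ := SlopeLine.line (k := k) hT
  have hr := Curves.Degree.riemann_roch (k := k) hC.dim_le h0 hT
  -- no maps from the quotient to the sub
  have hhom : ∀ g : M ⟶ L, g = 0 := fun g => by
    by_contra hg
    let φ : E ⟶ E := cokernel.π i ≫ g ≫ i
    have hφ : φ ≠ 0 := fun h => hg (by
      rw [← cancel_mono i, ← cancel_epi (cokernel.π i)]
      simpa [φ] using h)
    obtain ⟨c, hc⟩ := hsimple φ
    exact Extension.not_scalar k φ hφ
      (by simp only [φ, Category.assoc, cokernel.condition_assoc, zero_comp, comp_zero]) c hc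
  have hT0 : Subsingleton (Coh.HH X T 0) := by
    refine not_nontrivial_iff_subsingleton.mp fun hn => ?_
    obtain ⟨w, hw⟩ := Curves.Positivity.exists_section_of_nontrivial hn
    have := Twist.isEquivalence hM
    let eT : CohB1.tensorMod T M ≅ L :=
      tensorIso (comm (dual M) L) (Iso.refl M) ≪≫ assoc L (dual M) M ≪≫
        tensorIso (Iso.refl L) (comm (dual M) M ≪≫ TensorMod.Invertible.tensorDualIso hM) ≪≫ rightUnit L
    have h := hhom ((leftUnit M).inv ≫ tmap w (𝟙 M) ≫ eT.hom)
    rw [← cancel_epi (leftUnit M).hom, Iso.hom_inv_id_assoc, comp_zero, ← cancel_mono eT.inv,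
      Category.assoc, Iso.hom_inv_id, Category.comp_id, zero_comp] at h
    exact hw ((tensorBy M).map_injective (h.trans (TensorMod.Integral.tmap_zero_left _ _ M).symm))
  have e0 : Curves.Euler.hdim k X T 0 = 0 := Module.finrank_zero_of_subsingleton
  by_contra hlt
  have e1 : Curves.Euler.hdim k X (CohB1.tensorMod (dual M) L) 1 = 0 := by
    change Curves.Euler.hdim k X (CohB1.tensorMod (dual M) L) 0 = 0 at e0
    change dg k E = dg k L + dg k M at hd
    omega
  have := (Curves.Degree.isGood (k := k) hC.dim_le hT).fin₁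
  have hs : IsSplitEpi (cokernel.π i) :=
    Extension.isSplitEpi (S := ShortComplex.mk i (cokernel.π i) (cokernel.condition i))
      { exact := ShortComplex.exact_cokernel i }
      (comm (dual M) M ≪≫ TensorMod.Invertible.tensorDualIso hM) (Module.finrank_zero_iff.mp e1) k
  obtain ⟨⟨s⟩⟩ := hs
  let e : E ⟶ E := cokernel.π i ≫ s.section_
  obtain ⟨c, hc⟩ := hsimple e
  have h1 : e = EndAlg.scalHom E (EndAlg.cst X k c) :=
    (SheafOfModules.toSheaf X.ringCatSheaf).map_injective
      (hc.trans (EndAlg.toSheaf_scal E (EndAlg.cst X k c)).symm)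
  by_cases hc0 : c = 0
  · subst hc0
    rw [map_zero, map_zero] at h1
    have : cokernel.π i = 0 := by
      rw [← Category.comp_id (cokernel.π i), ← s.id, ← Category.assoc, show _ ≫ s.section_ = 0 from h1,
        zero_comp]
    have hz : IsZero M := by
      rw [IsZero.iff_id_eq_zero, ← cancel_epi (cokernel.π i), Category.comp_id, comp_zero, this]
    have := gr_of_isZero k hz
    omega
  · have hu : IsUnit (EndAlg.scalHom E (EndAlg.cst X k c)) := ((IsUnit.mk0 c hc0).map _).map _
    rw [← h1] at hu
    have := (isUnit_iff_isIso _).mp hu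
    have hi : i = 0 := by
      rw [← cancel_mono e, zero_comp]
      exact cokernel.condition_assoc i _ |>.trans zero_comp
    have hz : IsZero L := by
      rw [IsZero.iff_id_eq_zero, ← cancel_mono i, Category.id_comp, zero_comp, hi]
    have := gr_of_isZero k hz
    omega

end Groth.Agent.Lib.CurveBundle.RankTwo
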