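import Groth.Agent.Lib.CurveBundle.Vanishing
import Groth.Agent.Lib.CurveBundle.RankTwo
import Groth.Agent.Lib.CurveFF.Hyp
import Groth.Agent.Lib.Curves.Finiteness

/-!
# Rank two bundles as extensions of line bundles
-/

set_option autoImplicit false
universe u

open CategoryTheory Limits AlgebraicGeometry Opposite TopologicalSpace

namespace Groth.Agent.Lib.CurveBundle.RankTwoExt

open Groth.Agent.Lib Degree Slope TensorMod.Basic TensorMod.Dual

variable {k : Type u} [Field k] {X : Scheme.{u}} [X.Over (Spec (CommRingCat.of k))]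
  [IsProper (X ↘ Spec (CommRingCat.of k))]

/-- The degree context of a regular proper curve. -/
theorem curveCtx_of_regular [IsIntegral X] (hdim : topologicalKrullDim X = 1)
    (hr : ∀ x : X, IsRegularLocalRing (X.presheaf.stalk x)) : CurveCtx k X where
  integral := inferInstance
  locNoeth := LocallyOfFiniteType.isLocallyNoetherian (X ↘ Spec (CommRingCat.of k))
  noethSpace := Curves.GlobalSections.noetherianSpace_of_proper k X
  dim_le := hdim.le
  pid x := by
    by_cases hx : x = genericPoint X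
    · subst hx
      let _ : Field (X.presheaf.stalk (genericPoint X)) := inferInstanceAs (Field X.functionField)
      infer_instance
    · have := (CurveFF.curveHyp_of_regular k hdim hr).dvr x
        ((SmoothCurve.Curve.eq_genericPoint_or_isClosed hdim x).resolve_left hx)
      infer_instance
  good := fun _ hF => Curves.Finiteness.isGood_of_isCoh hdim.le hF

variable [hC : CurveCtx k X] {E : X.Modules}

include hC

omit [IsProper (X ↘ Spec (CommRingCat.of k))] in
/-- Every integer is a degree. -/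
theorem exists_deg [IsProper (X ↘ Spec (CommRingCat.of k))] {A : X.Modules}
    (hA : PicF.IsInvertible A) (hA1 : dg k A = 1) (n : ℤ) :
    ∃ N : X.Modules, PicF.IsInvertible N ∧ dg k N = n := by
  rcases Int.eq_nat_or_neg n with ⟨m, rfl | rfl⟩
  · obtain ⟨h, hd⟩ := H0Twist.dg_pow (k := k) hA m
    exact ⟨_, h, by rw [hd, hA1, mul_one]⟩
  · obtain ⟨h, hd⟩ := H0Twist.dg_pow (k := k) hA m
    exact ⟨_, TensorMod.Invertible.isInvertible_dual h, by rw [H0Crit.dg_dual h, hd, hA1, mul_one]⟩

omit [IsProper (X ↘ Spec (CommRingCat.of k))] in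
/-- A line bundle of degree zero with a section is trivial. -/
theorem iso_structure {N : X.Modules} (hN : PicF.IsInvertible N) (hd : dg k N = 0)
    (h : Nontrivial (Coh.HH X N 0)) : Nonempty (N ≅ Coh.structureModule X) := by
  obtain ⟨w, hw⟩ := Curves.Positivity.exists_section_of_nontrivial h
  have hO := PicLoc.isInvertible_structureModule X
  obtain ⟨_, -⟩ := SlopeLine.of_ne_zero (k := k) hO hN w hw
  have := SlopeLine.isIso_of_mono (k := k) hO hN w (by rw [H0Crit.dg_structure, hd])
  exact ⟨(asIso w).symm⟩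

omit [IsProper (X ↘ Spec (CommRingCat.of k))] in
/-- Line subsheaves lie in line subbundles of no smaller degree. -/
theorem saturate {L : X.Modules} (hE : FlatMod.IsFinLocFreeOfRank 2 E) (hL : PicF.IsInvertible L)
    (i : L ⟶ E) [Mono i] :
    ∃ (L' : X.Modules) (j : L' ⟶ E) (a : L ⟶ L'), Mono j ∧ Mono a ∧ a ≫ j = i ∧
      PicF.IsInvertible L' ∧ PicF.IsInvertible (cokernel j) ∧ dg k L ≤ dg k L' ∧
      dg k E = dg k L' + dg k (cokernel j) := by
  let _ := hC.integral
  have := hC.locNoeth
  obtain ⟨hEc, hET, eE, edE⟩ := bundle (k := k) hE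
  obtain ⟨hLc, -, eL, -⟩ := SlopeLine.line (k := k) hL
  obtain ⟨L', j, a, hj, ha, haj, hL'c, hr, hT, hc⟩ := Saturation.exists_saturation i hLc hEc
  have e' : gr k L' = 1 := hr.trans eL
  have hb := (sub_bundle (k := k) j hL'c hET).1
  rw [e'] at hb
  obtain ⟨-, hg, hd⟩ := cokernel_ses k j hL'c hEc
  have hcb := rank_gr k hc hT
  rw [show gr k (cokernel j) = 1 by omega] at hcb
  exact ⟨L', j, a, hj, ha, haj, TensorMod.LocFree.isInvertible_of_rank_one hb,
    TensorMod.LocFree.isInvertible_of_rank_one hcb, dg_le_of_mono k a hLc hL'c (by omega), hd⟩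

omit [IsProper (X ↘ Spec (CommRingCat.of k))] in
/-- Indecomposable bundles are not sums of two line bundles. -/
theorem not_split_of_indec
    (hind : ∀ (E₁ E₂ : X.Modules), Nonempty (E ≅ E₁ ⊞ E₂) → IsZero E₁ ∨ IsZero E₂)
    (L₁ L₂ : X.Modules) (h₁ : PicF.IsInvertible L₁) (h₂ : PicF.IsInvertible L₂) :
    IsEmpty (E ≅ L₁ ⊞ L₂) :=
  let _ := hC.integral
  ⟨fun e => (hind L₁ L₂ ⟨e⟩).elim
    (Indec.not_isZero_of_rank Nat.one_pos (TensorMod.LocFree.of_isInvertible h₁))
    (Indec.not_isZero_of_rank Nat.one_pos (TensorMod.LocFree.of_isInvertible h₂))⟩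

variable (h0 : Module.finrank k (Coh.HH X (Coh.structureModule X) 0) = 1)

include h0

/-- A line subbundle of too large degree splits off. -/
theorem split_of_deg {L : X.Modules} (hL : PicF.IsInvertible L) (i : L ⟶ E) [Mono i]
    (hM : PicF.IsInvertible (cokernel i))
    (hd : 2 * (Curv2.genus k X : ℤ) - 2 < dg k L - dg k (cokernel i)) :
    Nonempty (E ≅ L ⊞ cokernel i) := by
  let _ := hC.integral
  set M := cokernel i
  have hM' := TensorMod.Invertible.isInvertible_dual hM
  have hT := TensorMod.Invertible.isInvertible_tensorMod hM' hL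
  obtain ⟨hM'c, -, eM', -⟩ := SlopeLine.line (k := k) hM'
  obtain ⟨-, dT⟩ := Twist.gr_dg_twist k hL hM'c
  rw [eM', H0Crit.dg_dual hM] at dT
  push_cast at dT
  have h1 := Curves.Clifford.subsingleton_one_of_deg k hC.dim_le h0 hT (by
    rw [← dg_eq_deg k (TensorMod.LocFree.of_isInvertible hT), dT]
    linarith)
  let S := ShortComplex.mk i (cokernel.π i) (cokernel.condition i)
  have hS : S.ShortExact := { exact := ShortComplex.exact_cokernel i }
  obtain ⟨⟨s⟩⟩ := Extension.isSplitEpi hS
    (comm (dual M) M ≪≫ TensorMod.Invertible.tensorDualIso hM) h1 k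
  exact ⟨(ShortComplex.Splitting.ofExactOfSection S hS.exact s.section_ s.id ‹Mono i›).isoBinaryBiproduct⟩

/-- Line subsheaves of a bundle which is not a sum of line bundles. -/
theorem deg_le_of_not_split (hE : FlatMod.IsFinLocFreeOfRank 2 E)
    (hind : ∀ L₁ L₂ : X.Modules, PicF.IsInvertible L₁ → PicF.IsInvertible L₂ → IsEmpty (E ≅ L₁ ⊞ L₂))
    {L : X.Modules} (hL : PicF.IsInvertible L) (i : L ⟶ E) [Mono i] :
    2 * dg k L ≤ dg k E + 2 * (Curv2.genus k X : ℤ) - 2 := by
  obtain ⟨L', j, a, _, _, -, hL', hM, hle, hd⟩ := saturate (k := k) hE hL i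
  by_contra hlt
  obtain ⟨e⟩ := split_of_deg h0 hL' j hM (by omega)
  exact (hind _ _ hL' hM).false e

omit h0 in
/-- A line subsheaf from sections after a twist. -/
theorem exists_sub (hE : FlatMod.IsFinLocFreeOfRank 2 E) {N : X.Modules} (hN : PicF.IsInvertible N)
    (h : Nontrivial (Coh.HH X (CohB1.tensorMod E N) 0)) :
    ∃ (L : X.Modules) (i : L ⟶ E), PicF.IsInvertible L ∧ Mono i ∧ dg k L = -dg k N := by
  let _ := hC.integral
  obtain ⟨w, hw⟩ := Curves.Positivity.exists_section_of_nontrivial h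
  have hN' := TensorMod.Invertible.isInvertible_dual hN
  have := Twist.isEquivalence hN'
  have hb : FlatMod.IsFinLocFreeOfRank 2 (CohB1.tensorMod E N) := by
    simpa using TensorMod.LocFree.rank_tensorMod hE (TensorMod.LocFree.of_isInvertible hN)
  obtain ⟨hFc, hFT, -, -⟩ := bundle (k := k) hb
  obtain ⟨hOc, hOT, eO, -⟩ := SlopeLine.line (k := k) (PicLoc.isInvertible_structureModule X)
  obtain ⟨J, p, j, hp, hj, hpj, hJ, hK, hg, -⟩ := exists_image k w hOc hFc
  have hJ0 : gr k J ≠ 0 := fun h0 => hw (eq_zero_of_image k p j hpj hJ hFT h0)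
  have : Mono w := Preadditive.mono_of_kernel_zero
    ((sub_zero_rank (k := k) (kernel.ι w) hK hOT (by omega)).1.eq_of_src _ _)
  have : Mono (tmap w (𝟙 (dual N))) := inferInstanceAs (Mono ((tensorBy (dual N)).map w))
  exact ⟨dual N, (leftUnit _).inv ≫ tmap w (𝟙 _) ≫
      (LineQuot.cancel (TensorMod.Invertible.tensorDualIso hN)).hom,
    hN', inferInstance, H0Crit.dg_dual hN⟩

/-- A line subbundle of degree at least `d/2 - g`. -/
theorem exists_large_sub (hE : FlatMod.IsFinLocFreeOfRank 2 E) {A : X.Modules}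
    (hA : PicF.IsInvertible A) (hA1 : dg k A = 1) :
    ∃ (L : X.Modules) (i : L ⟶ E), PicF.IsInvertible L ∧ Mono i ∧
      dg k E - 2 * (Curv2.genus k X : ℤ) ≤ 2 * dg k L := by
  let _ := hC.integral
  obtain ⟨N, hN, hNd⟩ := exists_deg (k := k) hA hA1 ((2 * (Curv2.genus k X : ℤ) - dg k E) / 2)
  obtain ⟨hEc, -, eE, -⟩ := bundle (k := k) hE
  obtain ⟨eF, dF⟩ := Twist.gr_dg_twist k hN hEc
  have hFc := Twist.isCoh hN hEc
  have hO := Curves.Degree.euler_structureModule (k := k) hC.dim_le h0
  have dF' : dg k (CohB1.tensorMod E N) = Curv2.euler k X (CohB1.tensorMod E N) -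
      (gr k (CohB1.tensorMod E N) : ℤ) * Curv2.euler k X (Coh.structureModule X) := rfl
  rw [eF, eE, hO] at dF'
  rw [eE, hNd] at dF
  have he := (hC.good _ hFc).euler
  have hn : Nontrivial (Coh.HH X (CohB1.tensorMod E N) 0) := by
    refine Module.nontrivial_of_finrank_pos (R := k) ?_
    change 0 < Curves.Euler.hdim k X (CohB1.tensorMod E N) 0
    push_cast at dF dF'
    omega
  obtain ⟨L, i, hL, hi, hLd⟩ := exists_sub (k := k) hE hN hn
  exact ⟨L, i, hL, hi, by rw [hLd, hNd]; omega⟩

/-- Normalised bundles: line subsheaves have degree at most zero. -/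
theorem deg_le_zero_of_normalized
    (hneg : ∀ M : X.Modules, PicF.IsInvertible M → Curv2.deg k X M 1 < 0 →
      Subsingleton (Coh.HH X (CohB1.tensorMod E M) 0))
    {L : X.Modules} (hL : PicF.IsInvertible L) (i : L ⟶ E) [Mono i] : dg k L ≤ 0 := by
  by_contra hlt
  have hL' := TensorMod.Invertible.isInvertible_dual hL
  have hs := hneg _ hL' (by
    rw [← dg_eq_deg k (TensorMod.LocFree.of_isInvertible hL'), H0Crit.dg_dual hL]; omega)
  have := Twist.isEquivalence hL'
  have : Mono (tmap i (𝟙 (dual L))) := inferInstanceAs (Mono ((tensorBy (dual L)).map i))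
  let v := (TensorMod.Invertible.tensorDualIso hL).inv ≫ tmap i (𝟙 (dual L))
  have hv := Curves.LES.mapK_injective_of_mono k v
  have : Subsingleton (Coh.HH X (Coh.structureModule X) 0) := hv.subsingleton
  exact absurd h0 (by rw [Module.finrank_zero_of_subsingleton]; exact zero_ne_one)

/-- The cokernel of a section of a normalised bundle. -/
theorem cokernel_section (hE : FlatMod.IsFinLocFreeOfRank 2 E)
    (hneg : ∀ M : X.Modules, PicF.IsInvertible M → Curv2.deg k X M 1 < 0 →
      Subsingleton (Coh.HH X (CohB1.tensorMod E M) 0))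
    (s : Coh.structureModule X ⟶ E) (hs : s ≠ 0) :
    Mono s ∧ PicF.IsInvertible (cokernel s) ∧ dg k (cokernel s) = dg k E := by
  let _ := hC.integral
  obtain ⟨hEc, hET, -, -⟩ := bundle (k := k) hE
  have hOi := PicLoc.isInvertible_structureModule X
  obtain ⟨hOc, hOT, eO, -⟩ := SlopeLine.line (k := k) hOi
  obtain ⟨J, p, j, hp, hj, hpj, hJ, hK, hg, -⟩ := exists_image k s hOc hEc
  have hJ0 : gr k J ≠ 0 := fun h => hs (eq_zero_of_image k p j hpj hJ hET h)
  have hm : Mono s := Preadditive.mono_of_kernel_zero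
    ((sub_zero_rank (k := k) (kernel.ι s) hK hOT (by omega)).1.eq_of_src _ _)
  obtain ⟨L, i, a, _, _, hai, hL, hM, hle, hd⟩ := saturate (k := k) hE hOi s
  have h2 := deg_le_zero_of_normalized h0 hneg hL i
  have hdO : dg k (Coh.structureModule X) = 0 := H0Crit.dg_structure
  have := SlopeLine.isIso_of_mono (k := k) hOi hL a (by omega)
  let e : cokernel s ≅ cokernel i := cokernelIsoOfEq hai.symm ≪≫ cokernelEpiComp a i
  exact ⟨hm, TensorMod.LocFree.isInvertible_of_rank_one
    (TensorMod.LocFree.rank_of_iso e.symm (TensorMod.LocFree.of_isInvertible hM)), by rw [dg_congr k e]; omega⟩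

/-- Degrees of normalised indecomposable bundles. -/
theorem normalized_bounds (hE : FlatMod.IsFinLocFreeOfRank 2 E) {A : X.Modules}
    (hA : PicF.IsInvertible A) (hA1 : dg k A = 1) (hn : Nontrivial (Coh.HH X E 0))
    (hneg : ∀ M : X.Modules, PicF.IsInvertible M → Curv2.deg k X M 1 < 0 →
      Subsingleton (Coh.HH X (CohB1.tensorMod E M) 0))
    (hind : ∀ L₁ L₂ : X.Modules, PicF.IsInvertible L₁ → PicF.IsInvertible L₂ → IsEmpty (E ≅ L₁ ⊞ L₂)) :
    2 - 2 * (Curv2.genus k X : ℤ) ≤ dg k E ∧ dg k E ≤ 2 * (Curv2.genus k X : ℤ) := by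
  obtain ⟨w, hw⟩ := Curves.Positivity.exists_section_of_nontrivial hn
  obtain ⟨hm, -, -⟩ := cokernel_section h0 hE hneg w hw
  have h1 := deg_le_of_not_split h0 hE hind (PicLoc.isInvertible_structureModule X) w
  rw [H0Crit.dg_structure] at h1
  obtain ⟨L, i, hL, _, hd⟩ := exists_large_sub h0 hE hA hA1
  have h2 := deg_le_zero_of_normalized h0 hneg hL i
  exact ⟨by omega, by omega⟩

section GenusOne

variable [IsAlgClosed k] [IsIntegral X] (hdim : topologicalKrullDim X = 1)
  (hg : Curv2.genus k X = 1) (hE : FlatMod.IsFinLocFreeOfRank 2 E)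

include hdim hg hE

/-- Genus one: a bundle of degree two has a line subsheaf of positive degree. -/
theorem deg_two_false (hd : dg k E = 2)
    (hlb : ∀ (L : X.Modules) (i : L ⟶ E), Mono i → PicF.IsInvertible L → dg k L ≤ 0) : False := by
  obtain ⟨hEc, hET, eE, -⟩ := bundle (k := k) hE
  obtain ⟨A, hA, hA1⟩ := Vanishing.exists_pos_ctx (k := k) hdim
  -- quotients have degree at least two
  have hq : ∀ (Q : X.Modules) (q : E ⟶ Q), Epi q → PicF.IsInvertible Q → 2 ≤ dg k Q := by
    intro Q q _ hQ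
    obtain ⟨hQc, -, eQ, -⟩ := SlopeLine.line (k := k) hQ
    obtain ⟨hK, hgK, hdK⟩ := kernel_ses k q hEc hQc
    have hKb := (sub_bundle (k := k) (kernel.ι q) hK hET).1
    rw [show gr k (kernel q) = 1 by omega] at hKb
    have := hlb _ (kernel.ι q) inferInstance (TensorMod.LocFree.isInvertible_of_rank_one hKb)
    omega
  have h1 : Subsingleton (Coh.HH X E 1) :=
    LineQuot.subsingleton_h1 hA (by omega) h0 hE fun M p hp hM => by
      have := hq M p hp hM; omega
  have gg : Curv2.IsGloballyGenerated E := Vanishing.globallyGenerated_ctx (k := k) hdim hE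
    fun J hJ hJd => by
      rw [← dg_eq_deg k (TensorMod.LocFree.of_isInvertible hJ)] at hJd
      have hEJ : FlatMod.IsFinLocFreeOfRank 2 (CohB1.tensorMod E J) := by
        simpa using TensorMod.LocFree.rank_tensorMod hE (TensorMod.LocFree.of_isInvertible hJ)
      refine LineQuot.subsingleton_h1 hA (by omega) h0 hEJ fun M p _ hM => ?_
      obtain ⟨M', q, hq', hM', hMd⟩ := Vanishing.exists_untwist (k := k) hJ p hM
      have := hq M' q hq' hM'
      omega
  have hh0 : Curves.Euler.hdim k X E 0 = 2 := by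
    have := H0Crit.h0_eq (k := k) hEc h1
    have dE : dg k E = Curv2.euler k X E -
        (gr k E : ℤ) * Curv2.euler k X (Coh.structureModule X) := rfl
    rw [Curves.Degree.euler_structureModule (k := k) hC.dim_le h0, hg, eE] at dE
    push_cast at dE
    omega
  let _ := Curves.GlobalSections.secModule k E
  have := (hC.good _ hEc).fin₀
  have hfin : Module.Finite k (E.val.obj (op ⊤) : Type u) :=
    Module.Finite.equiv (Curves.GlobalSections.h0Linear k E)
  let b : Module.Basis (Fin 2) k (E.val.obj (op ⊤) : Type u) := Module.finBasisOfFinrankEq k _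
    ((Curves.GlobalSections.h0Linear k E).finrank_eq.symm.trans hh0)
  let s : Fin 2 → Γ(E, ⊤) := fun i => b i
  have hep : Epi (Modules.Free.freeHom s) := by
    refine (Modules.Stalk.epi_iff_stalk_surjective _).2 fun x v => ?_
    suffices hle : H34.GlobGen.Gl E x ≤
        LinearMap.range (Modules.StalkModule.stalkMapₗ (Modules.Free.freeHom s) x) by
      exact hle (H34.GlobGen.gl_eq_top_of_gg gg x ▸ Submodule.mem_top)
    rw [H34.GlobGen.Gl, Submodule.span_le]
    rintro _ ⟨m, rfl⟩
    have hm : (m : Γ(E, ⊤)) = ∑ i, EndAlg.cst X k (b.repr m i) • s i := (b.sum_repr m).symm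
    change (E.presheaf.germ ⊤ x trivial).hom (m : Γ(E, ⊤)) ∈
      LinearMap.range (Modules.StalkModule.stalkMapₗ (Modules.Free.freeHom s) x)
    rw [hm, map_sum]
    refine Submodule.sum_mem _ fun i _ => ?_
    exact (Modules.StalkModule.germ_smul (M := E) (U := ⊤) (x := x) trivial (EndAlg.cst X k (b.repr m i)) (s i)).symm ▸
      Submodule.smul_mem _ _ ⟨_, Modules.Free.freeHom_stalk_germ s x i⟩
  have hFb := TensorMod.LocFree.isFinLocFree_freeMod X 2
  have hFc := Coherent.isCoh (TensorMod.LocFree.of_rank hFb)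
  have hFT := Coherent.isTorsionFree (TensorMod.LocFree.of_rank hFb)
  let π : FlatMod.freeMod X 2 ⟶ Coh.structureModule X :=
    Sigma.desc fun i => if i = 0 then 𝟙 _ else 0
  have hπ : Sigma.ι (fun _ : Fin 2 => Coh.structureModule X) 0 ≫ π = 𝟙 _ := by
    rw [Sigma.ι_desc, if_pos rfl]
  have : Epi π := epi_of_epi_fac hπ
  obtain ⟨hK, hgK, -⟩ := kernel_ses k (Modules.Free.freeHom s) hFc hEc
  have hF2 : gr k (FlatMod.freeMod X 2) = 2 :=
    gr_eq k hFb
  have : Mono (Modules.Free.freeHom s) := Preadditive.mono_of_kernel_zero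
    ((sub_zero_rank (k := k) (kernel.ι _) hK hFT (by omega)).1.eq_of_src _ _)
  have := isIso_of_mono_of_epi (Modules.Free.freeHom s)
  have h2 := hq _ (inv (Modules.Free.freeHom s) ≫ π) (epi_comp _ _)
    (PicLoc.isInvertible_structureModule X)
  rw [H0Crit.dg_structure] at h2
  omega

/-- Genus one: an even degree bundle has a line subsheaf of half the degree or more. -/
theorem exists_half (heven : Even (dg k E)) :
    ∃ (L : X.Modules) (i : L ⟶ E), Mono i ∧ PicF.IsInvertible L ∧ dg k E ≤ 2 * dg k L := by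
  by_contra hc
  push Not at hc
  obtain ⟨m, hm⟩ := heven
  obtain ⟨A, hA, hA1⟩ := Vanishing.exists_pos_ctx (k := k) hdim
  obtain ⟨N, hN, hNd⟩ := exists_deg (k := k) hA hA1 (1 - m)
  have hb : FlatMod.IsFinLocFreeOfRank 2 (CohB1.tensorMod E N) := by
    simpa using TensorMod.LocFree.rank_tensorMod hE (TensorMod.LocFree.of_isInvertible hN)
  obtain ⟨hEc, -, eE, -⟩ := bundle (k := k) hE
  obtain ⟨-, dF⟩ := Twist.gr_dg_twist k hN hEc
  rw [eE, hNd] at dF
  have hlb : H0Crit.LB k E m := fun M i hi hM => by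
    have := hc M i hi hM; omega
  refine deg_two_false h0 hdim hg hb (by push_cast at dF; omega) fun L i hi hL => ?_
  have := H0Crit.lb_tensor (k := k) hN hlb L i hi hL
  omega

/-- Genus one: indecomposable bundles of even degree are self-extensions. -/
theorem self_extension (heven : Even (dg k E))
    (hind : ∀ L₁ L₂ : X.Modules, PicF.IsInvertible L₁ → PicF.IsInvertible L₂ → IsEmpty (E ≅ L₁ ⊞ L₂)) :
    ∃ (L : X.Modules) (i : L ⟶ E), Mono i ∧ PicF.IsInvertible L ∧ 2 * dg k L = dg k E ∧
      Nonempty (cokernel i ≅ L) := by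
  obtain ⟨L₀, i₀, _, hL₀, hd₀⟩ := exists_half h0 hdim hg hE heven
  obtain ⟨L, i, a, _, _, -, hL, hM, hle, hd⟩ := saturate (k := k) hE hL₀ i₀
  have h2 := deg_le_of_not_split h0 hE hind hL i
  rw [hg] at h2
  push_cast at h2
  refine ⟨L, i, inferInstance, hL, by omega, ?_⟩
  set M := cokernel i
  have hM' := TensorMod.Invertible.isInvertible_dual hM
  have hT := TensorMod.Invertible.isInvertible_tensorMod hM' hL
  obtain ⟨hM'c, -, eM', -⟩ := SlopeLine.line (k := k) hM'
  obtain ⟨-, dT⟩ := Twist.gr_dg_twist k hL hM'c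
  rw [eM', H0Crit.dg_dual hM] at dT
  push_cast at dT
  have hr := Curves.Degree.riemann_roch (k := k) hC.dim_le h0 hT
  rw [← dg_eq_deg k (TensorMod.LocFree.of_isInvertible hT), hg] at hr
  push_cast at hr
  have hdT : dg k (CohB1.tensorMod (dual M) L) = 0 := by
    have : dg k E = dg k L + dg k M := hd
    omega
  by_cases hz : Subsingleton (Coh.HH X (CohB1.tensorMod (dual M) L) 0)
  · exfalso
    have e1 : Curves.Euler.hdim k X (CohB1.tensorMod (dual M) L) 1 = 0 := by
      have : Curves.Euler.hdim k X (CohB1.tensorMod (dual M) L) 0 = 0 :=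
        Module.finrank_zero_of_subsingleton
      omega
    have := (Curves.Degree.isGood (k := k) hC.dim_le hT).fin₁
    let S := ShortComplex.mk i (cokernel.π i) (cokernel.condition i)
    have hS : S.ShortExact := { exact := ShortComplex.exact_cokernel i }
    obtain ⟨⟨s⟩⟩ := Extension.isSplitEpi hS
      (comm (dual M) M ≪≫ TensorMod.Invertible.tensorDualIso hM) (Module.finrank_zero_iff.mp e1) k
    exact (hind _ _ hL hM).false
      (ShortComplex.Splitting.ofExactOfSection S hS.exact s.section_ s.id ‹Mono i›).isoBinaryBiproduct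
  · obtain ⟨e⟩ := iso_structure (k := k) hT hdT (not_subsingleton_iff_nontrivial.mp hz)
    exact ⟨(leftUnit M).symm ≪≫ tensorIso e.symm (Iso.refl M) ≪≫
      tensorIso (comm (dual M) L) (Iso.refl M) ≪≫ assoc L (dual M) M ≪≫
        tensorIso (Iso.refl L) (comm (dual M) M ≪≫ TensorMod.Invertible.tensorDualIso hM) ≪≫ rightUnit L⟩

end GenusOne

end Groth.Agent.Lib.CurveBundle.RankTwoExt
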