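import Groth.Agent.Lib.CurveBundle.GenusOneSplit
import Groth.Agent.Lib.Cyc.CH.DualMap

/-!
# Degrees of sheaves of homomorphisms between bundles
-/

set_option autoImplicit false
universe u

open CategoryTheory Limits AlgebraicGeometry Opposite TopologicalSpace

namespace Groth.Agent.Lib.CurveBundle.HomDeg

open Groth.Agent.Lib Degree Slope TensorMod.Basic GenusOneSplit

/-- Postcomposition is functorial. -/
lemma post_comp {X : Scheme.{u}} [IsLocallyNoetherian X] {M N P Q : X.Modules} (hQ : Coh.IsCoh Q)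
    (f : M ⟶ N) (g : N ⟶ P) : post f Q ≫ post g Q = post (f ≫ g) Q := by
  refine Modules.StalkModule.hom_ext_stalkMapₗ fun x => LinearMap.ext fun v =>
    (RefHull.HomSh.evalStalk_bijective (F := Q) (G := P) hQ x).1 ?_
  refine (congrArg _ (RefHull.Colim.stalkMap_comp _ _ x v)).trans ?_
  rw [evalStalk_post, evalStalk_post]
  refine LinearMap.ext fun q => ?_
  refine (RefHull.Colim.stalkMap_comp f g x _).symm.trans ?_
  exact (LinearMap.congr_fun (evalStalk_post (f ≫ g) Q x v) q).symm

lemma post_id {X : Scheme.{u}} [IsLocallyNoetherian X] {M Q : X.Modules} (hQ : Coh.IsCoh Q) :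
    post (𝟙 M) Q = 𝟙 _ := by
  refine Modules.StalkModule.hom_ext_stalkMapₗ fun x => LinearMap.ext fun v =>
    (RefHull.HomSh.evalStalk_bijective (F := Q) (G := M) hQ x).1 ?_
  refine (evalStalk_post (𝟙 M) Q x v).trans ?_
  rw [Modules.StalkModule.stalkMapₗ_id, LinearMap.id_apply]
  exact LinearMap.ext fun q => LinearMap.congr_fun (Modules.StalkModule.stalkMapₗ_id x) _

lemma isIso_post {X : Scheme.{u}} [IsLocallyNoetherian X] {M N Q : X.Modules} (hQ : Coh.IsCoh Q)
    (e : M ≅ N) : IsIso (post e.hom Q) :=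
  ⟨post e.inv Q, by rw [post_comp hQ, e.hom_inv_id, post_id hQ],
    by rw [post_comp hQ, e.inv_hom_id, post_id hQ]⟩

variable {k : Type u} [Field k] {X : Scheme.{u}} [X.Over (Spec (CommRingCat.of k))]
  [IsProper (X ↘ Spec (CommRingCat.of k))] [hC : CurveCtx k X]

include hC

/-- The dual of a bundle. -/
theorem dual_facts : ∀ (n : ℕ) (Q : X.Modules), FlatMod.IsFinLocFreeOfRank n Q →
    FlatMod.IsFinLocFreeOfRank n (_root_.RefHull.dual Q) ∧
      dg k (_root_.RefHull.dual Q) = -dg k Q := by
  let _ := hC.integral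
  have := hC.locNoeth
  have hOf := TensorMod.LocFree.of_rank (TensorMod.LocFree.of_isInvertible (PicLoc.isInvertible_structureModule X))
  intro n
  induction n with
  | zero =>
    intro Q hQ
    obtain ⟨hc, hT, e, -⟩ := bundle (k := k) hQ
    have hd := H78.Faithful.HomLocFree.isFinLocFree_homSh (TensorMod.LocFree.of_rank hQ) hOf
    have hdc : Coh.IsCoh (_root_.RefHull.dual Q) := Coherent.isCoh hd
    have hz : IsZero Q := isZero_of_gr k hc hT e
    have hdz : IsZero (_root_.RefHull.dual Q) := (IsZero.iff_id_eq_zero _).mpr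
      (Modules.StalkModule.hom_ext_stalkMapₗ fun x => LinearMap.ext fun v =>
        (RefHull.HomSh.evalStalk_bijective (F := Q) (G := Coh.structureModule X) hc x).1
          (LinearMap.ext fun q => by
            obtain ⟨b⟩ := Coherent.exists_basis_stalk hQ x
            rw [show q = 0 from b.repr.injective (Subsingleton.elim _ _), map_zero, map_zero]))
    have hdr := rank_gr k hdc (Coherent.isTorsionFree hd)
    rw [gr_of_isZero k hdz] at hdr
    exact ⟨hdr, by rw [dg_of_isZero k hdz hdc, dg_of_isZero k hz hc, neg_zero]⟩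
  | succ n ih =>
    intro Q hQ
    obtain ⟨L, i, hi, hL, -, hQ'⟩ := H0Crit.exists_max_line (k := k) hQ
    obtain ⟨hc, -, e, -⟩ := bundle (k := k) hQ
    obtain ⟨hLc, -, eL, -⟩ := SlopeLine.line (k := k) hL
    obtain ⟨hc', -, e', -⟩ := bundle (k := k) hQ'
    have hS : (ShortComplex.mk i (cokernel.π i) (cokernel.condition i)).ShortExact :=
      { exact := ShortComplex.exact_cokernel i }
    have hD := Cyc.CH.shortExact_dual hLc hc hc' i (cokernel.π i) (cokernel.condition i) hS
      fun x => by
        obtain ⟨b⟩ := Coherent.exists_basis_stalk hQ' x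
        exact Module.Free.of_basis b
    obtain ⟨hb1, hd1⟩ := ih _ hQ'
    obtain ⟨hb1c, -, eb1, -⟩ := bundle (k := k) hb1
    have hLd : FlatMod.IsFinLocFreeOfRank 1 (_root_.RefHull.dual L) :=
      TensorMod.LocFree.rank_of_iso (RefHull.DualComp.dualIso L).symm
        (TensorMod.LocFree.of_isInvertible (TensorMod.Invertible.isInvertible_dual hL))
    obtain ⟨hLdc, -, eLd, -⟩ := bundle (k := k) hLd
    have hd := H78.Faithful.HomLocFree.isFinLocFree_homSh (TensorMod.LocFree.of_rank hQ) hOf
    have hdc : Coh.IsCoh (_root_.RefHull.dual Q) := Coherent.isCoh hd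
    have a1 : dg k (_root_.RefHull.dual Q) =
        dg k (_root_.RefHull.dual (cokernel i)) + dg k (_root_.RefHull.dual L) :=
      by
        have h := dg_add k hD
        dsimp only at h
        exact h hb1c hdc hLdc
    have a2 : gr k (_root_.RefHull.dual Q) =
        gr k (_root_.RefHull.dual (cokernel i)) + gr k (_root_.RefHull.dual L) := by
        have h := gr_add k hD
        dsimp only at h
        exact h hdc
    have a3 : dg k Q = dg k L + dg k (cokernel i) := by
        have h := dg_add k hS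
        dsimp only at h
        exact h hLc hc hc'
    have hdr := rank_gr k hdc (Coherent.isTorsionFree hd)
    rw [a2, eb1, eLd] at hdr
    refine ⟨hdr, ?_⟩
    rw [a1, hd1, a3, dg_congr k (RefHull.DualComp.dualIso L), H0Crit.dg_dual hL]
    ring

/-- The degree of the sheaf of homomorphisms. -/
theorem hom_facts {q : ℕ} {Q : X.Modules} (hQ : FlatMod.IsFinLocFreeOfRank q Q) :
    ∀ (n : ℕ) (F : X.Modules), FlatMod.IsFinLocFreeOfRank n F →
      FlatMod.IsFinLocFreeOfRank (q * n) (_root_.RefHull.homSh Q F) ∧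
        dg k (_root_.RefHull.homSh Q F) = (q : ℤ) * dg k F - (n : ℤ) * dg k Q := by
  let _ := hC.integral
  have := hC.locNoeth
  obtain ⟨hQc, -, -, -⟩ := bundle (k := k) hQ
  intro n
  induction n with
  | zero =>
    intro F hF
    obtain ⟨hc, hT, e, -⟩ := bundle (k := k) hF
    have hd := H78.Faithful.HomLocFree.isFinLocFree_homSh (TensorMod.LocFree.of_rank hQ)
      (TensorMod.LocFree.of_rank hF)
    have hdc : Coh.IsCoh (_root_.RefHull.homSh Q F) := Coherent.isCoh hd
    have hz : IsZero F := isZero_of_gr k hc hT e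
    have hdz : IsZero (_root_.RefHull.homSh Q F) := (IsZero.iff_id_eq_zero _).mpr
      (Modules.StalkModule.hom_ext_stalkMapₗ fun x => LinearMap.ext fun v =>
        (RefHull.HomSh.evalStalk_bijective (F := Q) (G := F) hQc x).1
          (LinearMap.ext fun q => by
            obtain ⟨b⟩ := Coherent.exists_basis_stalk hF x
            exact b.repr.injective (Subsingleton.elim _ _)))
    have hdr := rank_gr k hdc (Coherent.isTorsionFree hd)
    rw [gr_of_isZero k hdz] at hdr
    exact ⟨by simpa using hdr, by rw [dg_of_isZero k hdz hdc, dg_of_isZero k hz hc]; simp⟩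
  | succ n ih =>
    intro F hF
    obtain ⟨L, i, hi, hL, -, hF'⟩ := H0Crit.exists_max_line (k := k) hF
    obtain ⟨hc, -, e, -⟩ := bundle (k := k) hF
    obtain ⟨hLc, -, eL, -⟩ := SlopeLine.line (k := k) hL
    obtain ⟨hc', -, e', -⟩ := bundle (k := k) hF'
    have hS : (ShortComplex.mk i (cokernel.π i) (cokernel.condition i)).ShortExact :=
      { exact := ShortComplex.exact_cokernel i }
    have hP := shortExact_post hS hQ (post_comp_eq_zero hQc i (cokernel.π i) (cokernel.condition i))
    obtain ⟨hb1, hd1⟩ := ih _ hF'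
    obtain ⟨hb1c, -, eb1, -⟩ := bundle (k := k) hb1
    have := HomSheaf.Basic.isIso_tens (G := Coh.structureModule X) hQc hL
    have := isIso_post hQc (leftUnit L)
    let eI : CohB1.tensorMod (_root_.RefHull.dual Q) L ≅ _root_.RefHull.homSh Q L :=
      asIso (HomSheaf.Basic.tens Q (Coh.structureModule X) L) ≪≫ asIso (post (leftUnit L).hom Q)
    obtain ⟨hDb, hDd⟩ := dual_facts (k := k) q Q hQ
    obtain ⟨hDc, -, eD, -⟩ := bundle (k := k) hDb
    obtain ⟨g0, d0⟩ := Twist.gr_dg_twist k hL hDc
    have hLc' : Coh.IsCoh (_root_.RefHull.homSh Q L) :=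
      CohBasics.Closure.isCoh_of_iso eI (Twist.isCoh hL hDc)
    have hd := H78.Faithful.HomLocFree.isFinLocFree_homSh (TensorMod.LocFree.of_rank hQ)
      (TensorMod.LocFree.of_rank hF)
    have hdc : Coh.IsCoh (_root_.RefHull.homSh Q F) := Coherent.isCoh hd
    have a1 : dg k (_root_.RefHull.homSh Q F) =
        dg k (_root_.RefHull.homSh Q L) + dg k (_root_.RefHull.homSh Q (cokernel i)) :=
      by
        have h := dg_add k hP
        dsimp only at h
        exact h hLc' hdc hb1c
    have a2 : gr k (_root_.RefHull.homSh Q F) =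
        gr k (_root_.RefHull.homSh Q L) + gr k (_root_.RefHull.homSh Q (cokernel i)) :=
      by
        have h := gr_add k hP
        dsimp only at h
        exact h hdc
    have a3 : dg k F = dg k L + dg k (cokernel i) := by
        have h := dg_add k hS
        dsimp only at h
        exact h hLc hc hc'
    have hdr := rank_gr k hdc (Coherent.isTorsionFree hd)
    rw [a2, eb1, ← gr_congr k eI, g0, eD, show q + q * n = q * (n + 1) by ring] at hdr
    refine ⟨hdr, ?_⟩
    rw [a1, hd1, a3, ← dg_congr k eI, d0, hDd, eD]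
    push_cast
    ring

/-- Riemann–Roch: a nonzero morphism exists when `χ(𝓗om(Q, F)) > 0`. -/
theorem exists_hom_ne_zero {q n : ℕ} {Q F : X.Modules} (hQ : FlatMod.IsFinLocFreeOfRank q Q)
    (hF : FlatMod.IsFinLocFreeOfRank n F)
    (h : 0 < (q : ℤ) * dg k F - (n : ℤ) * dg k Q +
      (q : ℤ) * n * Curv2.euler k X (Coh.structureModule X)) : ∃ f : Q ⟶ F, f ≠ 0 := by
  obtain ⟨hb, hd⟩ := hom_facts (k := k) hQ n F hF
  obtain ⟨hc, -, e, -⟩ := bundle (k := k) hb
  have hee := (hC.good _ hc).euler
  have := (hC.good _ hc).fin₀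
  rw [← hd] at h
  have hdef : dg k (_root_.RefHull.homSh Q F) = Curv2.euler k X (_root_.RefHull.homSh Q F) -
      ((q * n : ℕ) : ℤ) * Curv2.euler k X (Coh.structureModule X) := by
    rw [← e]; rfl
  rw [hdef] at h
  push_cast at h
  have hn : Nontrivial (Coh.HH X (_root_.RefHull.homSh Q F) 0) := by
    refine Module.nontrivial_of_finrank_pos (R := k) ?_
    change 0 < Curves.Euler.hdim k X (_root_.RefHull.homSh Q F) 0
    omega
  obtain ⟨z, hz⟩ := exists_ne (0 : Coh.HH X (_root_.RefHull.homSh Q F) 0)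
  refine ⟨HomSheaf.Basic.topEquiv.symm (Curves.GlobalSections.h0Equiv _ z), fun h0 => hz ?_⟩
  refine (Curves.GlobalSections.h0Equiv (_root_.RefHull.homSh Q F)).injective ?_
  rw [map_zero]
  exact (HomSheaf.Basic.topEquiv.apply_symm_apply _).symm.trans
    ((congrArg HomSheaf.Basic.topEquiv h0).trans HomSheaf.Basic.topEquiv_zero)

end Groth.Agent.Lib.CurveBundle.HomDeg
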