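import Groth.Agent.Lib.CurveBundle.Indec
import Groth.Agent.Lib.TensorMod.LocFree
import Mathlib.AlgebraicGeometry.Noetherian
import Mathlib.Data.Multiset.AddSub
import Mathlib.Data.Finsupp.Multiset

/-!
# The Krull–Schmidt theorem for vector bundles on a smooth proper curve
-/

set_option autoImplicit false
universe u

open CategoryTheory Limits AlgebraicGeometry

namespace Groth.Agent.Lib.CurveBundle.KrullSchmidt

open Groth.Agent.Lib

variable {X : Scheme.{u}}

/-- Coherent torsion-free modules (the vector bundles of a smooth curve). -/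
def Vb (M : X.Modules) : Prop := Coh.IsCoh M ∧ TorSh.IsTorsionFree M

/-- What Krull–Schmidt needs: local endomorphism rings. -/
class HasLocalEnd (X : Scheme.{u}) : Prop where
  isIntegral : IsIntegral X
  locNoeth : IsLocallyNoetherian X
  locFree : ∀ {S : X.Modules}, Vb S → FlatMod.IsFinLocFree S
  local_end : ∀ {S : X.Modules}, Vb S → Indec.Indecomposable S → ∀ f g : S ⟶ S,
    IsIso (f + g) → IsIso f ∨ IsIso g

theorem hasLocalEnd (k : Type u) [Field k] [IsAlgClosed k] [X.Over (Spec (CommRingCat.of k))]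
    [IsIntegral X] [IsProper (X ↘ Spec (CommRingCat.of k))] [Smooth (X ↘ Spec (CommRingCat.of k))]
    (hdim : topologicalKrullDim X = 1) : HasLocalEnd X where
  isIntegral := inferInstance
  locNoeth := LocallyOfFiniteType.isLocallyNoetherian (X ↘ Spec (CommRingCat.of k))
  locFree hS := TensorMod.LocFree.of_rank (Rank.isFinLocFreeOfRank_grank k hdim hS.1 hS.2)
  local_end hS hi f g _ :=
    Indec.isIso_of_add k (Rank.isFinLocFreeOfRank_grank k hdim hS.1 hS.2) hi f g

variable [HasLocalEnd X]

instance (priority := 100) isIntegral_of_hasLocalEnd : IsIntegral X := HasLocalEnd.isIntegral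
instance (priority := 100) locNoeth_of_hasLocalEnd : IsLocallyNoetherian X := HasLocalEnd.locNoeth

/-- `A` is a retract of `M`. -/
def IsRetract (A M : X.Modules) : Prop := ∃ (i : A ⟶ M) (r : M ⟶ A), i ≫ r = 𝟙 A

lemma IsRetract.trans {A B C : X.Modules} (h : IsRetract A B) (h' : IsRetract B C) :
    IsRetract A C := by
  obtain ⟨i, r, hir⟩ := h
  obtain ⟨j, s, hjs⟩ := h'
  exact ⟨i ≫ j, s ≫ r, by rw [Category.assoc, ← Category.assoc j s r, hjs, Category.id_comp, hir]⟩

lemma isRetract_of_iso {A B : X.Modules} (e : A ≅ B) : IsRetract A B := ⟨e.hom, e.inv, e.hom_inv_id⟩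

lemma isRetract_inl (A B : X.Modules) : IsRetract A (A ⊞ B) := ⟨biprod.inl, biprod.fst, biprod.inl_fst⟩

lemma isRetract_inr (A B : X.Modules) : IsRetract B (A ⊞ B) := ⟨biprod.inr, biprod.snd, biprod.inr_snd⟩

omit [HasLocalEnd X] in
lemma vb_zero {M : X.Modules} (h : IsZero M) : Vb M := by
  constructor
  · have hq : M.IsQuasicoherent := by
      have := Coherent.isQCoh_unit X
      have := QCoh.Closure.isQCoh_cokernel (𝟙 (Coh.structureModule X))
      exact CohBasics.Closure.isQCoh_of_iso (M := cokernel (𝟙 (Coh.structureModule X)))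
        (IsZero.iso (isZero_cokernel_of_epi _) h) (N := M)
    refine CohBasics.Closure.isCoh_of_finite_sections fun U hU => ?_
    have : Subsingleton Γ(M, U) := ⟨fun a b => by
      have e : ∀ c : Γ(M, U), c = 0 := fun c => by
        have := congrArg (fun φ : M ⟶ M => φ.app U c) (h.eq_of_src (𝟙 M) 0)
        exact this
      rw [e a, e b]⟩
    exact Module.Finite.of_finite
  · intro x
    have := (Modules.Stalk.isZero_iff_stalk_subsingleton).mp h x
    exact Subsingleton.to_moduleIsTorsionFree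

lemma Vb.retract {A M : X.Modules} (h : IsRetract A M) (hM : Vb M) : Vb A := by
  obtain ⟨i, r, hir⟩ := h
  have : Mono i := mono_of_mono_fac hir
  refine ⟨?_, Rank.isTorsionFree_of_mono i hM.2⟩
  have hK : Coh.IsCoh (kernel (𝟙 M - r ≫ i)) := CohBasics.Closure.isCoh_kernel _ hM.1 hM.1.1
  refine CohBasics.Closure.isCoh_of_iso ?_ hK
  have hi : i ≫ (𝟙 M - r ≫ i) = 0 := by
    rw [Preadditive.comp_sub, Category.comp_id, ← Category.assoc, hir, Category.id_comp, sub_self]
  exact
    { hom := kernel.ι _ ≫ r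
      inv := kernel.lift _ i hi
      hom_inv_id := by
        rw [← cancel_mono (kernel.ι (𝟙 M - r ≫ i)), Category.assoc, kernel.lift_ι, Category.id_comp]
        have := kernel.condition (𝟙 M - r ≫ i)
        rw [Preadditive.comp_sub, Category.comp_id, sub_eq_zero] at this
        rw [Category.assoc]
        exact this.symm
      inv_hom_id := by rw [← Category.assoc, kernel.lift_ι, hir] }

lemma Vb.of_iso {A B : X.Modules} (e : A ≅ B) (h : Vb A) : Vb B :=
  h.retract (isRetract_of_iso e.symm)

omit [HasLocalEnd X] in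
lemma vb_of_isFinLocFree {M : X.Modules} (h : FlatMod.IsFinLocFree M) : Vb M :=
  ⟨Coherent.isCoh h, Coherent.isTorsionFree h⟩

omit [HasLocalEnd X] in
lemma Vb.biprod {A B : X.Modules} (hA : Vb A) (hB : Vb B) : Vb (A ⊞ B) := by
  refine ⟨CohBasics.Closure.isCoh_biprod hA.1 hB.1, fun x => ⟨fun a ha => ?_⟩⟩
  rw [isSMulRegular_iff_right_eq_zero_of_smul]
  intro z hz
  have := hA.2 x
  have := hB.2 x
  have h1 : Modules.StalkModule.stalkMapₗ (biprod.fst : A ⊞ B ⟶ A) x z = 0 :=
    (ha.smul_eq_zero_iff_right (M := A.presheaf.stalk x)).mp (by rw [← map_smul, hz, map_zero])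
  have h2 : Modules.StalkModule.stalkMapₗ (biprod.snd : A ⊞ B ⟶ B) x z = 0 :=
    (ha.smul_eq_zero_iff_right (M := B.presheaf.stalk x)).mp (by rw [← map_smul, hz, map_zero])
  have h := congrArg (fun φ => Modules.StalkModule.stalkMapₗ φ x z) (biprod.total (X := A) (Y := B))
  simp only [Modules.StalkModule.stalkMapₗ_id, Modules.StalkModule.stalkMapₗ_add,
    Modules.StalkModule.stalkMapₗ_comp, LinearMap.add_apply, LinearMap.comp_apply, h1, h2,
    map_zero, add_zero, LinearMap.id_apply] at h
  exact h.symm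

/-- Generic rank is additive on biproducts. -/
lemma grank_biprod {A B : X.Modules} (hA : Vb A) (hB : Vb B) :
    Rank.grank (A ⊞ B) = Rank.grank A + Rank.grank B := by
  have h := Rank.grank_add (S := ShortComplex.mk (biprod.inl : A ⟶ A ⊞ B) biprod.snd biprod.inl_snd)
    (ShortComplex.Splitting.shortExact
      { r := biprod.fst
        s := biprod.inr
        f_r := biprod.inl_fst
        s_g := biprod.inr_snd
        id := biprod.total }) (hA.biprod hB).1
  exact h

/-- A retract of a biproduct which is indecomposable is a retract of one of the factors. -/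
lemma retract_biprod {S A B : X.Modules} (hS : Vb S) (hi : Indec.Indecomposable S)
    (h : IsRetract S (A ⊞ B)) : IsRetract S A ∨ IsRetract S B := by
  obtain ⟨i, r, hir⟩ := h
  have hsum : (i ≫ biprod.fst) ≫ (biprod.inl ≫ r) + (i ≫ biprod.snd) ≫ (biprod.inr ≫ r) = 𝟙 S := by
    rw [Category.assoc, Category.assoc, ← Preadditive.comp_add, ← Category.assoc biprod.fst,
      ← Category.assoc biprod.snd, ← Preadditive.add_comp, biprod.total, Category.id_comp, hir]
  rcases HasLocalEnd.local_end hS hi _ _ (by rw [hsum]; infer_instance) with h' | h'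
  · exact Or.inl ⟨i ≫ biprod.fst, (biprod.inl ≫ r) ≫ inv ((i ≫ biprod.fst) ≫ biprod.inl ≫ r),
      by rw [← Category.assoc]; exact IsIso.hom_inv_id _⟩
  · exact Or.inr ⟨i ≫ biprod.snd, (biprod.inr ≫ r) ≫ inv ((i ≫ biprod.snd) ≫ biprod.inr ≫ r),
      by rw [← Category.assoc]; exact IsIso.hom_inv_id _⟩

omit [HasLocalEnd X] in
/-- A retract of an indecomposable module which is nonzero is isomorphic to it. -/
lemma iso_of_retract {S T : X.Modules} (hS : ¬ IsZero S) (hT : Indec.Indecomposable T)
    (h : IsRetract S T) : Nonempty (S ≅ T) := by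
  obtain ⟨i, r, hir⟩ := h
  have he : (r ≫ i) ≫ (r ≫ i) = r ≫ i := by
    rw [Category.assoc, ← Category.assoc i r i, hir, Category.id_comp]
  rcases Indec.idempotent_trivial hT _ he with h0 | h1
  · refine absurd ((IsZero.iff_id_eq_zero S).mpr ?_) hS
    have : i ≫ (r ≫ i) ≫ r = 𝟙 S := by
      rw [Category.assoc, ← Category.assoc i r (i ≫ r), hir, Category.id_comp]
    rw [← this, h0, zero_comp, comp_zero]
  · exact ⟨⟨i, r, hir, h1⟩⟩

/-- Biproduct of a list of modules. -/
noncomputable def bsum : List X.Modules → X.Modules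
  | [] => cokernel (𝟙 (Coh.structureModule X))
  | a :: l => a ⊞ bsum l

omit [HasLocalEnd X] in
lemma isZero_bsum_nil : IsZero (bsum ([] : List X.Modules)) := isZero_cokernel_of_epi _

/-- An indecomposable bundle. -/
def IsIV (S : X.Modules) : Prop := Vb S ∧ Indec.Indecomposable S

omit [HasLocalEnd X] in
lemma vb_bsum : ∀ {l : List X.Modules}, (∀ S ∈ l, Vb S) → Vb (bsum l)
  | [], _ => vb_zero isZero_bsum_nil
  | a :: l, h => (h a (List.mem_cons_self ..)).biprod (vb_bsum fun S hS => h S (List.mem_cons_of_mem _ hS))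

omit [HasLocalEnd X] in
lemma bsum_append : ∀ (l l' : List X.Modules), Nonempty (bsum l ⊞ bsum l' ≅ bsum (l ++ l'))
  | [], l' => ⟨(isoZeroBiprod isZero_bsum_nil).symm⟩
  | a :: l, l' => ⟨biprod.associator _ _ _ ≪≫ biprod.mapIso (Iso.refl a) (bsum_append l l').some⟩

/-- Existence of decompositions into indecomposables. -/
theorem exists_decomposition {M : X.Modules} (hM : Vb M) :
    ∃ l : List X.Modules, (∀ S ∈ l, IsIV S) ∧ Nonempty (M ≅ bsum l) := by
  generalize hn : Rank.grank M = n
  induction n using Nat.strong_induction_on generalizing M with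
  | _ n ih =>
    by_cases h0 : IsZero M
    · exact ⟨[], by simp, ⟨h0.iso isZero_bsum_nil⟩⟩
    by_cases hi : Indec.Indecomposable M
    · exact ⟨[M], fun S hS => by rw [List.mem_singleton] at hS; exact hS ▸ ⟨hM, hi⟩,
        ⟨isoBiprodZero isZero_bsum_nil⟩⟩
    simp only [Indec.Indecomposable, h0, not_false_eq_true, true_and, not_forall, not_or] at hi
    obtain ⟨A, B, ⟨e⟩, hA, hB⟩ := hi
    have vA : Vb A := hM.retract ((isRetract_inl A B).trans (isRetract_of_iso e.symm))
    have vB : Vb B := hM.retract ((isRetract_inr A B).trans (isRetract_of_iso e.symm))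
    have hr := grank_biprod vA vB
    rw [← Rank.grank_congr e, hn] at hr
    have pA : 0 < Rank.grank A := Nat.pos_of_ne_zero fun h => hA (Rank.isZero_of_grank_eq_zero vA.1 vA.2 h)
    have pB : 0 < Rank.grank B := Nat.pos_of_ne_zero fun h => hB (Rank.isZero_of_grank_eq_zero vB.1 vB.2 h)
    obtain ⟨lA, hlA, ⟨eA⟩⟩ := ih _ (by omega) vA rfl
    obtain ⟨lB, hlB, ⟨eB⟩⟩ := ih _ (by omega) vB rfl
    refine ⟨lA ++ lB, fun S hS => (List.mem_append.mp hS).elim (hlA S) (hlB S), ?_⟩
    exact ⟨e ≪≫ biprod.mapIso eA eB ≪≫ (bsum_append lA lB).some⟩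

/-- Isomorphism classes. -/
abbrev C (X : Scheme.{u}) : Type (u + 1) := Quotient (isIsomorphicSetoid X.Modules)

/-- The class of a module. -/
def cls (M : X.Modules) : C X := Quotient.mk _ M

omit [HasLocalEnd X] in
lemma cls_eq {M N : X.Modules} (e : M ≅ N) : cls M = cls N := Quotient.sound ⟨e⟩

omit [HasLocalEnd X] in
lemma bsum_perm {l l' : List X.Modules} (h : l.Perm l') : Nonempty (bsum l ≅ bsum l') := by
  induction h with
  | nil => exact ⟨Iso.refl _⟩
  | cons a _ ih => exact ⟨biprod.mapIso (Iso.refl a) ih.some⟩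
  | swap a b l =>
    exact ⟨(biprod.associator b a (bsum l)).symm ≪≫ biprod.mapIso (biprod.braiding b a) (Iso.refl _) ≪≫
      biprod.associator a b (bsum l)⟩
  | trans _ _ ih ih' => exact ⟨ih.some ≪≫ ih'.some⟩

/-- An indecomposable retract of `bsum l` is isomorphic to a member of `l`. -/
lemma mem_of_retract {S : X.Modules} (hS : IsIV S) :
    ∀ {l : List X.Modules}, (∀ T ∈ l, IsIV T) → IsRetract S (bsum l) → ∃ T ∈ l, Nonempty (S ≅ T)
  | [], _, ⟨i, r, hir⟩ => by
    refine absurd ((IsZero.iff_id_eq_zero S).mpr ?_) hS.2.1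
    rw [← hir, isZero_bsum_nil.eq_of_tgt i 0, zero_comp]
  | a :: l, hl, h => by
    rcases retract_biprod hS.1 hS.2 h with h' | h'
    · exact ⟨a, List.mem_cons_self .., iso_of_retract hS.2.1 (hl a (List.mem_cons_self ..)).2 h'⟩
    · obtain ⟨T, hT, e⟩ := mem_of_retract hS (fun T hT => hl T (List.mem_cons_of_mem _ hT)) h'
      exact ⟨T, List.mem_cons_of_mem _ hT, e⟩

/-- Uniqueness of decompositions. -/
theorem decomposition_unique : ∀ {l l' : List X.Modules}, (∀ S ∈ l, IsIV S) → (∀ S ∈ l', IsIV S) →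
    (bsum l ≅ bsum l') → (l.map cls : Multiset (C X)) = (l'.map cls : Multiset (C X))
  | [], [], _, _, _ => rfl
  | [], b :: l', _, h', e => by
    obtain ⟨T, hT, -⟩ := mem_of_retract (h' b (List.mem_cons_self ..)) (l := ([] : List X.Modules))
      (by simp) ((isRetract_inl b (bsum l')).trans (isRetract_of_iso e.symm))
    simp at hT
  | a :: l, l', h, h', e => by
    have ha := h a (List.mem_cons_self ..)
    have hl : ∀ S ∈ l, IsIV S := fun S hS => h S (List.mem_cons_of_mem _ hS)
    -- peel the members of `l'` until the entry `a ⟶ T` is invertible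
    have key : ∀ (m : List X.Modules), (∀ S ∈ m, IsIV S) → ∀ (i : a ⟶ bsum m) (r : bsum m ⟶ a),
        IsIso (i ≫ r) → ∃ (T : X.Modules) (n : List X.Modules) (_ : List.Perm m (T :: n))
          (φ : bsum m ≅ bsum (T :: n)), IsIso (i ≫ φ.hom ≫ biprod.fst) := by
      intro m
      induction m with
      | nil =>
        intro _ i r hir
        refine absurd ((IsZero.iff_id_eq_zero a).mpr ?_) ha.2.1
        have h0 : i ≫ r = 0 := by rw [isZero_bsum_nil.eq_of_tgt i 0, zero_comp]
        exact isIsoZeroSelfEquiv a (h0 ▸ hir)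
      | cons b m ih =>
        intro hm i₀ r₀ hir
        let i : a ⟶ b ⊞ bsum m := i₀
        let r : b ⊞ bsum m ⟶ a := r₀
        replace hir : IsIso (i ≫ r) := hir
        have hsum : (i ≫ biprod.fst) ≫ (biprod.inl ≫ r) + (i ≫ biprod.snd) ≫ (biprod.inr ≫ r) =
            i ≫ r := by
          rw [Category.assoc, Category.assoc, ← Preadditive.comp_add, ← Category.assoc biprod.fst,
            ← Category.assoc biprod.snd, ← Preadditive.add_comp]
          exact congrArg (fun φ => i ≫ φ) ((congrArg (· ≫ r) biprod.total).trans (Category.id_comp r))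
        rcases HasLocalEnd.local_end ha.1 ha.2 _ _ (by rw [hsum]; exact hir) with hb | hb
        · refine ⟨b, m, List.Perm.refl _, Iso.refl _, ?_⟩
          simp only [Iso.refl_hom, Category.id_comp]
          let p : a ⟶ b := i ≫ biprod.fst
          let q : b ⟶ a := (biprod.inl ≫ r) ≫ inv ((i ≫ biprod.fst) ≫ biprod.inl ≫ r)
          have hpq : p ≫ q = 𝟙 a := by
            rw [← Category.assoc]
            exact IsIso.hom_inv_id _
          have hqp : q ≫ p = 𝟙 b := by
            rcases Indec.idempotent_trivial (hm b (List.mem_cons_self ..)).2 (q ≫ p)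
              (by rw [Category.assoc, ← Category.assoc p q p, hpq, Category.id_comp]) with h0 | h1
            · refine absurd ((IsZero.iff_id_eq_zero a).mpr ?_) ha.2.1
              have : p ≫ (q ≫ p) ≫ q = 𝟙 a := by
                calc p ≫ (q ≫ p) ≫ q = (p ≫ q) ≫ (p ≫ q) := by simp only [Category.assoc]
                  _ = 𝟙 a := by rw [hpq, Category.comp_id]
              rw [← this, h0, zero_comp, comp_zero]
            · exact h1
          exact ⟨q, hpq, hqp⟩
        · obtain ⟨T, n, hp, φ, hT⟩ := ih (fun S hS => hm S (List.mem_cons_of_mem _ hS))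
            (i ≫ biprod.snd) (biprod.inr ≫ r) hb
          refine ⟨T, b :: n, (hp.cons b).trans (List.Perm.swap T b n),
            biprod.mapIso (Iso.refl b) φ ≪≫ (biprod.associator b T (bsum n)).symm ≪≫
              biprod.mapIso (biprod.braiding b T) (Iso.refl _) ≪≫ biprod.associator T b (bsum n), ?_⟩
          let φ' : bsum m ≅ T ⊞ bsum n := φ
          have hT2 : IsIso ((i ≫ biprod.snd) ≫ φ'.hom ≫ biprod.fst) := hT
          show IsIso (i ≫ (biprod.mapIso (Iso.refl b) φ' ≪≫ (biprod.associator b T (bsum n)).symm ≪≫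
              biprod.mapIso (biprod.braiding b T) (Iso.refl _) ≪≫
                biprod.associator T b (bsum n)).hom ≫ biprod.fst)
          convert hT2 using 1
          simp
    let e₀ : a ⊞ bsum l ≅ bsum l' := e
    have hiso : IsIso ((biprod.inl ≫ e₀.hom) ≫ (e₀.inv ≫ biprod.fst)) := by
      have h1 : (biprod.inl ≫ e₀.hom) ≫ (e₀.inv ≫ biprod.fst) = 𝟙 a := by simp
      rw [h1]
      infer_instance
    obtain ⟨T, n, hp, φ, hT⟩ := key l' h' (biprod.inl ≫ e₀.hom) (e₀.inv ≫ biprod.fst) hiso
    let φ₀ : bsum l' ≅ T ⊞ bsum n := φ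
    let e' : a ⊞ bsum l ≅ T ⊞ bsum n := e₀ ≪≫ φ₀
    have he' : biprod.inl ≫ e'.hom ≫ biprod.fst = (biprod.inl ≫ e₀.hom) ≫ φ₀.hom ≫ biprod.fst := by
      simp [e', Category.assoc]
    have hT' : IsIso (biprod.inl ≫ e'.hom ≫ biprod.fst) := by rw [he']; exact hT
    have hn : ∀ S ∈ n, IsIV S := fun S hS => h' S (hp.mem_iff.mpr (List.mem_cons_of_mem _ hS))
    have hrec := decomposition_unique hl hn (Biprod.isoElim e')
    rw [(Multiset.coe_eq_coe.mpr (hp.map cls) :
      (l'.map cls : Multiset (C X)) = ((T :: n).map cls : Multiset (C X)))]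
    simp only [List.map_cons, ← Multiset.cons_coe, hrec,
      cls_eq (asIso (biprod.inl ≫ e'.hom ≫ biprod.fst))]

open scoped Classical in
/-- The multiset of indecomposable constituents. -/
noncomputable def dec (M : X.Modules) : Multiset (C X) :=
  if h : Vb M then ((exists_decomposition h).choose.map cls : Multiset (C X)) else 0

lemma dec_eq {M : X.Modules} {l : List X.Modules} (hl : ∀ S ∈ l, IsIV S) (e : M ≅ bsum l) :
    dec M = (l.map cls : Multiset (C X)) := by
  have hM : Vb M := (vb_bsum fun S hS => (hl S hS).1).of_iso e.symm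
  rw [dec, dif_pos hM]
  obtain ⟨h1, ⟨e1⟩⟩ := (exists_decomposition hM).choose_spec
  exact decomposition_unique h1 hl (e1.symm ≪≫ e)

lemma dec_congr {M N : X.Modules} (hM : Vb M) (e : M ≅ N) : dec M = dec N := by
  obtain ⟨l, hl, ⟨eM⟩⟩ := exists_decomposition hM
  rw [dec_eq hl eM, dec_eq hl (e.symm ≪≫ eM)]

lemma dec_biprod {M N : X.Modules} (hM : Vb M) (hN : Vb N) : dec (M ⊞ N) = dec M + dec N := by
  obtain ⟨l, hl, ⟨eM⟩⟩ := exists_decomposition hM
  obtain ⟨m, hm, ⟨eN⟩⟩ := exists_decomposition hN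
  rw [dec_eq (l := l ++ m) (fun S hS => (List.mem_append.mp hS).elim (hl S) (hm S))
    (biprod.mapIso eM eN ≪≫ (bsum_append l m).some), dec_eq hl eM, dec_eq hm eN, List.map_append,
    Multiset.coe_add]

lemma dec_zero {M : X.Modules} (h : IsZero M) : dec M = 0 := by
  rw [dec_eq (l := []) (by simp) (h.iso isZero_bsum_nil)]
  rfl

omit [HasLocalEnd X] in
lemma exists_perm_map_eq : ∀ {l m : List X.Modules},
    (l.map cls : Multiset (C X)) = (m.map cls : Multiset (C X)) → Nonempty (bsum l ≅ bsum m)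
  | [], m, h => by
    have : m = [] := List.map_eq_nil_iff.mp ((Multiset.coe_eq_zero _).mp h.symm)
    subst this
    exact ⟨Iso.refl _⟩
  | a :: l, m, h => by
    have ha : cls a ∈ (m.map cls : Multiset (C X)) := h ▸ by simp
    obtain ⟨b, hb, hab⟩ := List.mem_map.mp (Multiset.mem_coe.mp ha)
    obtain ⟨m₁, m₂, rfl⟩ := List.append_of_mem hb
    have hp : (m₁ ++ b :: m₂).Perm (b :: (m₁ ++ m₂)) := List.perm_middle
    rw [Multiset.coe_eq_coe.mpr (hp.map cls), List.map_cons, List.map_cons, hab,
      ← Multiset.cons_coe, ← Multiset.cons_coe] at h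
    obtain ⟨e⟩ := exists_perm_map_eq ((Multiset.cons_inj_right _).mp h)
    exact ⟨biprod.mapIso (Quotient.exact hab).some.symm e ≪≫ (bsum_perm hp).some.symm⟩

/-- Bundles with the same constituents are isomorphic. -/
theorem iso_of_dec_eq {M N : X.Modules} (hM : Vb M) (hN : Vb N) (h : dec M = dec N) :
    Nonempty (M ≅ N) := by
  obtain ⟨l, hl, ⟨eM⟩⟩ := exists_decomposition hM
  obtain ⟨m, hm, ⟨eN⟩⟩ := exists_decomposition hN
  rw [dec_eq hl eM, dec_eq hm eN] at h
  exact ⟨eM ≪≫ (exists_perm_map_eq h).some ≪≫ eN.symm⟩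

/-- The constituents are indecomposable bundles which are retracts. -/
lemma mem_dec {M : X.Modules} (hM : Vb M) {c : C X} (hc : c ∈ dec M) :
    ∃ S, cls S = c ∧ IsIV S ∧ IsRetract S M := by
  obtain ⟨l, hl, ⟨e⟩⟩ := exists_decomposition hM
  rw [dec_eq hl e] at hc
  obtain ⟨S, hS, rfl⟩ := List.mem_map.mp (Multiset.mem_coe.mp hc)
  refine ⟨S, rfl, hl S hS, IsRetract.trans ?_ (isRetract_of_iso e.symm)⟩
  clear e hl hM
  induction l with
  | nil => simp at hS
  | cons a l ih =>
    rcases List.mem_cons.mp hS with rfl | hS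
    · exact isRetract_inl _ _
    · exact (ih hS (Multiset.mem_coe.mpr (List.mem_map_of_mem hS))).trans (isRetract_inr _ _)

/-- Indecomposable retracts are constituents. -/
lemma cls_mem_dec {M S : X.Modules} (hM : Vb M) (hS : IsIV S) (h : IsRetract S M) : cls S ∈ dec M := by
  obtain ⟨l, hl, ⟨e⟩⟩ := exists_decomposition hM
  rw [dec_eq hl e]
  obtain ⟨T, hT, ⟨eT⟩⟩ := mem_of_retract hS hl (h.trans (isRetract_of_iso e))
  rw [cls_eq eT]
  exact Multiset.mem_coe.mpr (List.mem_map_of_mem hT)

end Groth.Agent.Lib.CurveBundle.KrullSchmidt
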