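import Groth.Agent.Lib.CurveBundle.SmoothField
import Groth.Agent.Lib.Curves.Finiteness

/-!
# The degree context of smooth proper curves
-/

set_option autoImplicit false
universe u

open CategoryTheory Limits AlgebraicGeometry TopologicalSpace

namespace Groth.Agent.Lib.CurveBundle.Ctx

open Groth.Agent.Lib

variable (k : Type u) [Field k] {X : Scheme.{u}} [X.Over (Spec (CommRingCat.of k))]
  [IsProper (X ↘ Spec (CommRingCat.of k))]

theorem good (hdim : topologicalKrullDim X ≤ 1) (F : X.Modules) (hF : Coh.IsCoh F) :
    Curves.Euler.IsGood k X F :=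
  Curves.Finiteness.isGood_of_isCoh hdim hF

variable [Smooth (X ↘ Spec (CommRingCat.of k))]

theorem ofIntegral [IsAlgClosed k] [IsIntegral X] (hdim : topologicalKrullDim X = 1) :
    Degree.CurveCtx k X :=
  Degree.curveCtx k hdim (good k hdim.le)

theorem ofConnected [GeometricallyConnected (X ↘ Spec (CommRingCat.of k))]
    (hdim : topologicalKrullDim X = 1) : Degree.CurveCtx k X :=
  SmoothField.curveCtx k hdim (good k hdim.le)

end Groth.Agent.Lib.CurveBundle.Ctx
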