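import Groth.Agent.Lib.CurveBundle.SlopeLine
import Groth.Agent.Lib.CurveBundle.GP
import Groth.Agent.Lib.CurveBundle.Ctx
import Groth.Agent.Lib.CurveFF.Consts
import Mathlib.LinearAlgebra.Matrix.GeneralLinearGroup.Card
import Mathlib.CategoryTheory.Endomorphism

/-!
# Counting automorphisms of sums
-/

set_option autoImplicit false
universe u v w

open CategoryTheory CategoryTheory.Limits AlgebraicGeometry

namespace Groth.Agent.Lib.CurveBundle.AutCount

section Cat

variable {C : Type v} [Category.{u} C] [Preadditive C]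

/-- Automorphisms are the invertible endomorphisms. -/
noncomputable def autEquiv (A : C) : Aut A ≃ {f : A ⟶ A // IsIso f} where
  toFun e := ⟨e.hom, ⟨e.inv, e.hom_inv_id, e.inv_hom_id⟩⟩
  invFun f := @asIso _ _ _ _ f.1 f.2
  left_inv _ := Iso.ext rfl
  right_inv _ := Subtype.ext rfl

omit [Preadditive C] in
theorem card_aut_congr {A B : C} (e : A ≅ B) : Nat.card (Aut A) = Nat.card (Aut B) :=
  Nat.card_congr e.conjAut.toEquiv

variable [HasBinaryBiproducts C]

/-- Endomorphisms of a sum, by components. -/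
noncomputable def parts (A B : C) :
    (A ⊞ B ⟶ A ⊞ B) ≃ ((A ⟶ A) × (B ⟶ B)) × (A ⟶ B) × (B ⟶ A) where
  toFun f := ((biprod.inl ≫ f ≫ biprod.fst, biprod.inr ≫ f ≫ biprod.snd),
    biprod.inl ≫ f ≫ biprod.snd, biprod.inr ≫ f ≫ biprod.fst)
  invFun p := Biprod.ofComponents p.1.1 p.2.1 p.2.2 p.1.2
  left_inv f := Biprod.ofComponents_eq f
  right_inv p := by simp

/-- A matrix with invertible diagonal and vanishing round trips `A → B → A` is invertible. -/
theorem isIso_ofComponents {A B : C} (h : ∀ (p : A ⟶ B) (q : B ⟶ A), p ≫ q = 0) (a : A ⟶ A) (p : A ⟶ B)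
    (q : B ⟶ A) (b : B ⟶ B) [IsIso a] [IsIso b] : IsIso (Biprod.ofComponents a p q b) := by
  let e := inv a
  let c := inv b
  have ae : a ≫ e = 𝟙 A := IsIso.hom_inv_id a
  have ea : e ≫ a = 𝟙 A := IsIso.inv_hom_id a
  have bc : b ≫ c = 𝟙 B := IsIso.hom_inv_id b
  have cb : c ≫ b = 𝟙 B := IsIso.inv_hom_id b
  have z1 : ∀ {Z : C} (z : A ⟶ Z), p ≫ q ≫ z = 0 := fun z => by rw [reassoc_of% (h p q), zero_comp]
  have z2 : ∀ {Z : C} (z : A ⟶ Z), p ≫ c ≫ q ≫ z = 0 := fun z => by
    simpa using congrArg (· ≫ z) (h (p ≫ c) q)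
  refine ⟨Biprod.ofComponents e (-(e ≫ p ≫ c ≫ (𝟙 B + q ≫ e ≫ p ≫ c)))
    (-(c ≫ (𝟙 B + q ≫ e ≫ p ≫ c) ≫ q ≫ e)) (c ≫ (𝟙 B + q ≫ e ≫ p ≫ c)), ?_, ?_⟩
  all_goals
    rw [Biprod.ofComponents_comp]
    refine biprod.hom_ext' _ _ (biprod.hom_ext _ _ ?_ ?_) (biprod.hom_ext _ _ ?_ ?_)
    all_goals simp [z1, z2, reassoc_of% ae, reassoc_of% ea, reassoc_of% bc, reassoc_of% cb, ae, ea, bc, cb]

/-- When every round trip `A → B → A` vanishes, invertibility is read on the diagonal. -/
theorem isIso_iff {A B : C} (h : ∀ (p : A ⟶ B) (q : B ⟶ A), p ≫ q = 0) (f : A ⊞ B ⟶ A ⊞ B) :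
    IsIso f ↔ IsIso (biprod.inl ≫ f ≫ biprod.fst) ∧ IsIso (biprod.inr ≫ f ≫ biprod.snd) := by
  constructor
  · intro hf
    have key : ∀ f g : A ⊞ B ⟶ A ⊞ B, f ≫ g = 𝟙 _ →
        (biprod.inl ≫ f ≫ biprod.fst) ≫ (biprod.inl ≫ g ≫ biprod.fst) = 𝟙 A ∧
          ∃ n : B ⟶ B, n ≫ n = 0 ∧
            (biprod.inr ≫ f ≫ biprod.snd) ≫ (biprod.inr ≫ g ≫ biprod.snd) = 𝟙 B - n := by
      intro f g hfg
      have e1 : biprod.inl ≫ (f ≫ (biprod.fst ≫ biprod.inl + biprod.snd ≫ biprod.inr) ≫ g) ≫ biprod.fst =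
          𝟙 A := by rw [biprod.total, Category.id_comp, hfg, Category.id_comp, biprod.inl_fst]
      have e2 : biprod.inr ≫ (f ≫ (biprod.fst ≫ biprod.inl + biprod.snd ≫ biprod.inr) ≫ g) ≫ biprod.snd =
          𝟙 B := by rw [biprod.total, Category.id_comp, hfg, Category.id_comp, biprod.inr_snd]
      simp only [Preadditive.add_comp, Preadditive.comp_add, Category.assoc] at e1 e2
      constructor
      · have h' := h (biprod.inl ≫ f ≫ biprod.snd) (biprod.inr ≫ g ≫ biprod.fst)
        simp only [Category.assoc] at h' ⊢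
        rw [h', add_zero] at e1
        exact e1
      · refine ⟨(biprod.inr ≫ f ≫ biprod.fst) ≫ (biprod.inl ≫ g ≫ biprod.snd), ?_, ?_⟩
        · have h' := h (biprod.inl ≫ g ≫ biprod.snd) (biprod.inr ≫ f ≫ biprod.fst)
          simp only [Category.assoc] at h' ⊢
          rw [reassoc_of% h', zero_comp, comp_zero, comp_zero, comp_zero]
        · simp only [Category.assoc]
          rw [eq_sub_iff_add_eq, add_comm]
          exact e2
    obtain ⟨ha, n, hn, hb⟩ := key f (inv f) (IsIso.hom_inv_id f)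
    obtain ⟨ha', n', hn', hb'⟩ := key (inv f) f (IsIso.inv_hom_id f)
    refine ⟨⟨_, ha, ha'⟩, ?_⟩
    have i1 : IsIso ((biprod.inr ≫ f ≫ biprod.snd) ≫ (biprod.inr ≫ inv f ≫ biprod.snd)) :=
      hb ▸ ⟨𝟙 B + n, by simp [hn], by simp [hn]⟩
    have i2 : IsIso ((biprod.inr ≫ inv f ≫ biprod.snd) ≫ (biprod.inr ≫ f ≫ biprod.snd)) :=
      hb' ▸ ⟨𝟙 B + n', by simp [hn'], by simp [hn']⟩
    have : IsSplitMono (biprod.inr ≫ f ≫ biprod.snd) :=
      IsSplitMono.mk' ⟨(biprod.inr ≫ inv f ≫ biprod.snd) ≫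
        inv ((biprod.inr ≫ f ≫ biprod.snd) ≫ (biprod.inr ≫ inv f ≫ biprod.snd)), by
        rw [← Category.assoc]; exact IsIso.hom_inv_id _⟩
    have : IsSplitEpi (biprod.inr ≫ f ≫ biprod.snd) :=
      IsSplitEpi.mk' ⟨inv ((biprod.inr ≫ inv f ≫ biprod.snd) ≫ (biprod.inr ≫ f ≫ biprod.snd)) ≫
        (biprod.inr ≫ inv f ≫ biprod.snd), by rw [Category.assoc]; exact IsIso.inv_hom_id _⟩
    exact isIso_of_mono_of_isSplitEpi _
  · rintro ⟨ha, hb⟩
    rw [← Biprod.ofComponents_eq f]
    exact isIso_ofComponents h _ _ _ _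

/-- The automorphisms of such a sum. -/
theorem card_aut_biprod {A B : C} (h : ∀ (p : A ⟶ B) (q : B ⟶ A), p ≫ q = 0) :
    Nat.card (Aut (A ⊞ B)) =
      Nat.card (Aut A) * Nat.card (Aut B) * (Nat.card (A ⟶ B) * Nat.card (B ⟶ A)) := by
  rw [Nat.card_congr (autEquiv A), Nat.card_congr (autEquiv B), Nat.card_congr (autEquiv (A ⊞ B))]
  rw [← Nat.card_prod, ← Nat.card_prod, ← Nat.card_prod]
  refine Nat.card_congr (((parts A B).subtypeEquiv (q := fun p => IsIso p.1.1 ∧ IsIso p.1.2)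
    fun f => isIso_iff h f).trans ?_)
  exact
    { toFun := fun x => ((⟨x.1.1.1, x.2.1⟩, ⟨x.1.1.2, x.2.2⟩), x.1.2)
      invFun := fun y => ⟨((y.1.1.1, y.1.2.1), y.2), y.1.1.2, y.1.2.2⟩
      left_inv := fun _ => rfl
      right_inv := fun _ => rfl }

end Cat

section Mat

variable {C : Type v} [Category.{u} C] [Preadditive C] {K : Type w} [Field K] {A P : C} {n : ℕ}

/-- Sums of copies of an object with commutative endomorphisms have matrices as endomorphisms. -/
theorem card_aut_copies [Fintype K] (κ : K ≃+* End A) (ι : Fin n → (A ⟶ P)) (π : Fin n → (P ⟶ A))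
    (hd : ∀ i j, ι i ≫ π j = if i = j then 𝟙 A else 0) (ht : ∑ i, π i ≫ ι i = 𝟙 P) :
    Nat.card (Aut P) = ∏ i : Fin n, (Nat.card K ^ n - Nat.card K ^ (i : ℕ)) := by
  have hsum : ∀ f : P ⟶ P, ∑ l, π l ≫ ι l ≫ f = f := fun f => by
    conv_rhs => rw [← Category.id_comp f, ← ht, Preadditive.sum_comp]
    simp
  let M : End P ≃+* Matrix (Fin n) (Fin n) K :=
    { toFun := fun f i j => κ.symm (ι j ≫ (show P ⟶ P from f) ≫ π i)
      invFun := fun m => ∑ i, ∑ j, π j ≫ (show A ⟶ A from κ (m i j)) ≫ ι i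
      left_inv := fun f => by
        simp only [RingEquiv.apply_symm_apply]
        change ∑ i, ∑ j, π j ≫ (ι j ≫ (show P ⟶ P from f) ≫ π i) ≫ ι i = f
        have : ∀ i, ∑ j, π j ≫ (ι j ≫ (show P ⟶ P from f) ≫ π i) ≫ ι i =
            (show P ⟶ P from f) ≫ π i ≫ ι i := fun i => by
          simpa using hsum ((show P ⟶ P from f) ≫ π i ≫ ι i)
        simp only [this, ← Preadditive.comp_sum, ht]
        exact Category.comp_id _
      right_inv := fun m => by
        funext i j
        refine κ.symm_apply_eq.2 ?_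
        change ι j ≫ (∑ i', ∑ j', π j' ≫ (show A ⟶ A from κ (m i' j')) ≫ ι i') ≫ π i = κ (m i j)
        simp only [Preadditive.comp_sum, Preadditive.sum_comp, Category.assoc, hd]
        rw [Finset.sum_eq_single i, Finset.sum_eq_single j]
        · simp [reassoc_of% (hd j j)]
        · intro b _ hb
          rw [← Category.assoc, hd, if_neg (Ne.symm hb), zero_comp]
        · simp
        · intro b _ hb
          simp [if_neg hb]
        · simp
      map_mul' := fun f g => by
        funext i j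
        change κ.symm (ι j ≫ ((show P ⟶ P from g) ≫ (show P ⟶ P from f)) ≫ π i) = _
        change _ = ∑ l, κ.symm (ι l ≫ (show P ⟶ P from f) ≫ π i) * κ.symm (ι j ≫ (show P ⟶ P from g) ≫ π l)
        refine κ.symm_apply_eq.2 ?_
        rw [map_sum]
        simp only [map_mul, RingEquiv.apply_symm_apply]
        change ι j ≫ ((show P ⟶ P from g) ≫ (show P ⟶ P from f)) ≫ π i =
          ∑ l, (ι j ≫ (show P ⟶ P from g) ≫ π l) ≫ (ι l ≫ (show P ⟶ P from f) ≫ π i)
        generalize (show P ⟶ P from f) = f'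
        generalize (show P ⟶ P from g) = g'
        calc ι j ≫ (g' ≫ f') ≫ π i = ι j ≫ g' ≫ (∑ l, π l ≫ ι l) ≫ f' ≫ π i := by
              rw [ht, Category.id_comp, Category.assoc]
          _ = _ := by simp only [Preadditive.comp_sum, Preadditive.sum_comp, Category.assoc]
      map_add' := fun f g => by
        funext i j
        change κ.symm (ι j ≫ ((show P ⟶ P from f) + (show P ⟶ P from g)) ≫ π i) = κ.symm _ + κ.symm _
        rw [Preadditive.add_comp, Preadditive.comp_add]
        exact map_add κ.symm _ _ }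
  have e : Aut P ≃ (Matrix (Fin n) (Fin n) K)ˣ :=
    (Aut.unitsEndEquivAut P).symm.toEquiv.trans (Units.mapEquiv M.toMulEquiv).toEquiv
  rw [Nat.card_congr e, Matrix.card_GL_field]
  simp [Nat.card_eq_fintype_card]

theorem card_aut_one [Fintype K] (κ : K ≃+* End A) : Nat.card (Aut A) = Nat.card K - 1 := by
  rw [card_aut_copies κ (n := 1) (fun _ => 𝟙 A) (fun _ => 𝟙 A) (fun i j => by simp [Subsingleton.elim i j])
    (by simp)]
  simp

variable [HasBinaryBiproducts C]

theorem card_aut_two [Fintype K] (κ : K ≃+* End A) :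
    Nat.card (Aut (A ⊞ A)) = (Nat.card K ^ 2 - 1) * (Nat.card K ^ 2 - Nat.card K) := by
  rw [card_aut_copies κ (n := 2) ![biprod.inl, biprod.inr] ![biprod.fst, biprod.snd]
    (fun i j => by fin_cases i <;> fin_cases j <;> simp) (by simp [Fin.sum_univ_two])]
  simp [Fin.prod_univ_two]

theorem card_aut_three [Fintype K] (κ : K ≃+* End A) :
    Nat.card (Aut ((A ⊞ A) ⊞ A)) =
      (Nat.card K ^ 3 - 1) * (Nat.card K ^ 3 - Nat.card K) * (Nat.card K ^ 3 - Nat.card K ^ 2) := by
  rw [card_aut_copies κ (n := 3) ![biprod.inl ≫ biprod.inl, biprod.inr ≫ biprod.inl, biprod.inr]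
    ![biprod.fst ≫ biprod.fst, biprod.fst ≫ biprod.snd, biprod.snd]
    (fun i j => by fin_cases i <;> fin_cases j <;> simp) (by
      simp only [Fin.sum_univ_three]
      simp only [Matrix.cons_val_zero, Matrix.cons_val_one, Matrix.cons_val]
      have h1 : biprod.fst ≫ (biprod.fst ≫ biprod.inl + biprod.snd ≫ biprod.inr) ≫ biprod.inl +
          biprod.snd ≫ biprod.inr = 𝟙 ((A ⊞ A) ⊞ A) := by
        rw [biprod.total, Category.id_comp, biprod.total]
      simp only [Preadditive.comp_add, Preadditive.add_comp, Category.assoc] at h1 ⊢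
      exact h1)]
  simp [Fin.prod_univ_three]

end Mat

section Curve

open Groth.Agent.Lib TensorMod.Basic TensorMod.Invertible Degree

variable {k : Type u} [Field k] {X : Scheme.{u}} [X.Over (Spec (CommRingCat.of k))]

/-- The endomorphisms of an invertible module are the constants. -/
theorem bijective_scal [Nonempty X] (hs : Function.Surjective (EndAlg.cst X k)) {L : X.Modules}
    (hL : PicF.IsInvertible L) (hne : ¬ IsZero L) :
    Function.Bijective ((EndAlg.scalHom L).comp (EndAlg.cst X k)) := by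
  haveI : Nontrivial (End L) := ⟨0, 1, fun h => hne ((IsZero.iff_id_eq_zero L).2 h.symm)⟩
  refine ⟨RingHom.injective _, fun f => ?_⟩
  haveI := Twist.isEquivalence hL
  let e := leftUnit L
  obtain ⟨g, hg⟩ := (tensorBy L).map_surjective (X := Coh.structureModule X) (Y := Coh.structureModule X)
    (e.hom ≫ (show L ⟶ L from f) ≫ e.inv)
  obtain ⟨c, hc⟩ := hs (g.app ⊤ (1 : Γ(X, ⊤)))
  refine ⟨c, ?_⟩
  have hgc : g = EndAlg.scal (Coh.structureModule X) (EndAlg.cst X k c) := by
    refine Modules.Free.unitHom_ext ?_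
    show g.app ⊤ (1 : Γ(X, ⊤)) = (EndAlg.scal (Coh.structureModule X) (EndAlg.cst X k c)).app ⊤ (1 : Γ(X, ⊤))
    refine Eq.trans ?_ (EndAlg.scal_app _ _ _ _).symm
    rw [hc]
    change _ = X.presheaf.map (𝟙 (Opposite.op ⊤)) _ * (1 : Γ(X, ⊤))
    rw [CategoryTheory.Functor.map_id, mul_one]
    rfl
  subst hgc
  change EndAlg.scal L (EndAlg.cst X k c) = f
  have : tmap (EndAlg.scal (Coh.structureModule X) (EndAlg.cst X k c)) (𝟙 L) =
      e.hom ≫ (show L ⟶ L from f) ≫ e.inv := hg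
  rw [GP.tmap_scal] at this
  rw [← cancel_epi e.hom, ← EndAlg.scal_comm, this]
  simp

/-- Global functions of a smooth proper geometrically connected scheme are constants. -/
theorem cst_surjective [IsProper (X ↘ Spec (CommRingCat.of k))] [Smooth (X ↘ Spec (CommRingCat.of k))]
    [GeometricallyConnected (X ↘ Spec (CommRingCat.of k))] : Function.Surjective (EndAlg.cst X k) := by
  let c := X ↘ Spec (CommRingCat.of k)
  have : GeometricallyReduced c := ⟨fun K _ y P p q h => by
    have : Smooth q := MorphismProperty.of_isPullback h ‹Smooth c›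
    exact GrpSch.isReduced_of_smooth_field q⟩
  have hsurj : Function.Surjective c.appTop.hom :=
    (H2.Rigid.H0.of_geometrically c).isPullback (pt := 𝟙 _) (p₁ := 𝟙 X) (p₂ := c)
      (IsPullback.of_horiz_isIso ⟨by simp⟩)
  exact hsurj.comp (Scheme.ΓSpecIso (CommRingCat.of k)).commRingCatIsoToRingEquiv.symm.surjective

/-- Maps between different invertible modules of one degree vanish. -/
theorem hom_eq_zero [hC : CurveCtx k X] {L M : X.Modules} (hL : PicF.IsInvertible L)
    (hM : PicF.IsInvertible M) (hd : Curv2.deg k X L 1 = Curv2.deg k X M 1) (hne : ¬ Nonempty (L ≅ M))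
    (f : L ⟶ M) : f = 0 := by
  by_contra hf
  obtain ⟨hm, -⟩ := SlopeLine.of_ne_zero (k := k) hL hM f hf
  rw [(SlopeLine.line (k := k) hL).2.2.2, (SlopeLine.line (k := k) hM).2.2.2] at hd
  have := SlopeLine.isIso_of_mono hL hM f hd
  exact hne ⟨asIso f⟩

theorem not_isZero [hC : CurveCtx k X] {L : X.Modules} (hL : PicF.IsInvertible L) : ¬ IsZero L :=
  fun h => by
    have h1 := (SlopeLine.line (k := k) hL).2.2.1
    rw [gr_of_isZero k h] at h1
    exact zero_ne_one h1

end Curve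

end Groth.Agent.Lib.CurveBundle.AutCount
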