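import Groth.Agent.Lib.CurveBundle.EndField
import Groth.Agent.Lib.CohDelta.KBC.Descend
import Groth.Agent.Lib.PicSpread53.Main
import Groth.Agent.H56.DimBaseChange
import Mathlib.LinearAlgebra.Lagrange
import Mathlib.FieldTheory.Finite.GaloisField

/-!
# Bundles of prime rank split over finite extensions of the base field
-/

set_option autoImplicit false
set_option linter.style.haveILetI false
universe u

open CategoryTheory CategoryTheory.Limits AlgebraicGeometry Opposite TopologicalSpace Polynomial

noncomputable section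

namespace Groth.Agent.Lib.CurveBundle.BCSplit

open Groth.Agent.Lib
open Groth.Agent.Lib.Modules.StalkModule (stalkMapₗ)

attribute [local instance] CohDelta.KBC.additive_pullback

/-- Inverse image of endomorphisms. -/
def pullEnd {X X' : Scheme.{u}} (g' : X' ⟶ X) (E : X.Modules) :
    End E →+* End ((Scheme.Modules.pullback g').obj E) where
  toFun a := (Scheme.Modules.pullback g').map a
  map_one' := (Scheme.Modules.pullback g').map_id E
  map_mul' a b := (Scheme.Modules.pullback g').map_comp b a
  map_zero' := (Scheme.Modules.pullback g').map_zero E E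
  map_add' _ _ := (Scheme.Modules.pullback g').map_add

variable {k K : Type u} [Field k] [Field K] [Algebra k K] {X X' : Scheme.{u}}
  [X.Over (Spec (CommRingCat.of k))] [X'.Over (Spec (CommRingCat.of K))] {g' : X' ⟶ X}
  (hsq : IsPullback g' (X' ↘ Spec (CommRingCat.of K)) (X ↘ Spec (CommRingCat.of k))
    (Spec.map (CommRingCat.ofHom (algebraMap k K))))

local notation "pb" => Scheme.Modules.pullback g'

include hsq

theorem pullEnd_const (E : X.Modules) (c : k) :
    pullEnd g' E (EndAlg.scalHom E (EndAlg.cst X k c)) =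
      EndAlg.scalHom _ (EndAlg.cst X' K (algebraMap k K c)) := HomBC.map_scal hsq E c

/-- Endomorphisms of the inverse image, expanded in a basis. -/
theorem exists_expand [CompactSpace X] {E : X.Modules} (hE : Coh.IsCoh E) (φ : End ((pb).obj E)) :
    ∃ (s : Finset (Module.Free.ChooseBasisIndex k K)) (a : Module.Free.ChooseBasisIndex k K → End E),
      φ = ∑ i ∈ s, EndAlg.scalHom _ (EndAlg.cst X' K (Module.Free.chooseBasis k K i)) * pullEnd g' E (a i) :=
  haveI := hE.1
  HomBC.exists_sum hsq (Module.Free.chooseBasis k K) hE φ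

/-- With commuting endomorphisms over the base, the endomorphisms of the inverse image commute. -/
theorem commute_end [CompactSpace X] {E : X.Modules} (hE : Coh.IsCoh E) (hc : ∀ a b : End E, Commute a b)
    (φ ψ : End ((pb).obj E)) : Commute φ ψ := by
  obtain ⟨s, a, rfl⟩ := exists_expand hsq hE φ
  obtain ⟨t, c, rfl⟩ := exists_expand hsq hE ψ
  have hcen : ∀ (x : K) (χ : End ((pb).obj E)), Commute (EndAlg.scalHom _ (EndAlg.cst X' K x)) χ :=
    fun x χ => (EndAlg.scal_comm χ _).symm
  refine Commute.sum_left _ _ _ fun i _ => Commute.sum_right _ _ _ fun j _ => ?_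
  refine Commute.mul_left (hcen _ _) (Commute.mul_right (hcen _ _).symm ?_)
  exact (hc (a i) (c j)).map (pullEnd g' E)

/-- If every endomorphism is a constant plus a nilpotent, idempotents stay trivial after extension. -/
theorem idem_trivial [CompactSpace X] {E : X.Modules} (hE : Coh.IsCoh E) [Finite (End E)]
    [Nontrivial (End E)] (hid : ∀ e : End E, IsIdempotentElem e → e = 0 ∨ e = 1)
    (hall : ∀ a : End E, ∃ c : k, IsNilpotent (a - EndAlg.scalHom E (EndAlg.cst X k c)))
    (φ : End ((pb).obj E)) (hφ : IsIdempotentElem φ) : φ = 0 ∨ φ = 1 := by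
  classical
  letI := EndAlg.algEnd K ((pb).obj E)
  obtain ⟨s, a, hsum⟩ := exists_expand hsq hE φ
  choose c hc using hall
  let b := Module.Free.chooseBasis k K
  let N : End ((pb).obj E) := ∑ i ∈ s, algebraMap K _ (b i) *
    pullEnd g' E (a i - EndAlg.scalHom E (EndAlg.cst X k (c (a i))))
  have hN : ∀ n j, Nat.card (End E) ≤ n + j → ∀ w ∈ FiniteLocal.nprod (End E) n,
      N ^ j * pullEnd g' E w = 0 := by
    intro n j
    induction j generalizing n with
    | zero =>
      intro hn w hw
      obtain ⟨d, hd⟩ : ∃ d, n = Nat.card (End E) + d := ⟨n - Nat.card (End E), by omega⟩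
      subst hd
      have : w = 0 := by
        clear hn
        induction d generalizing w with
        | zero => exact FiniteLocal.nprod_eq_zero hid w hw
        | succ d ih =>
          obtain ⟨x, w', -, hw', rfl⟩ := hw
          rw [ih w' hw', mul_zero]
      rw [this, map_zero, mul_zero]
    | succ j ih =>
      intro hn w hw
      rw [pow_succ, mul_assoc, Finset.sum_mul, Finset.mul_sum]
      refine Finset.sum_eq_zero fun i _ => ?_
      rw [mul_assoc, ← map_mul, ← mul_assoc, ← Algebra.commutes, mul_assoc,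
        ih (n + 1) (by omega) _ ⟨_, w, hc (a i), hw, rfl⟩, mul_zero]
  have hnil : IsNilpotent N := ⟨Nat.card (End E), by
    have := hN 0 (Nat.card (End E)) (by omega) 1 rfl
    rwa [map_one, mul_one] at this⟩
  let C : K := ∑ i ∈ s, b i * algebraMap k K (c (a i))
  have hφe : φ = algebraMap K _ C + N := by
    rw [hsum, map_sum, ← Finset.sum_add_distrib]
    refine Finset.sum_congr rfl fun i _ => ?_
    rw [map_sub, mul_sub, pullEnd_const hsq, map_mul]
    exact (add_sub_cancel _ _).symm
  by_cases hC : C = 0
  · left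
    rw [hC, map_zero, zero_add] at hφe
    obtain ⟨n, hn⟩ := hnil
    have : φ ^ (n + 1) = φ := hφ.pow_succ_eq n
    rw [← this, hφe, pow_succ, hn, zero_mul]
  · right
    have hu : IsUnit φ := by
      rw [hφe]
      exact hnil.isUnit_add_left_of_commute ((IsUnit.mk0 C hC).map _) (Algebra.commute_algebraMap_right _ _)
    exact hu.mul_right_cancel (hφ.eq.trans (one_mul φ).symm)

/-- A retraction after extension gives a nonzero round trip over the base. -/
theorem exists_comp_ne_zero [CompactSpace X] {G M : X.Modules} (hG : Coh.IsCoh G) (hM : Coh.IsCoh M)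
    (u : (pb).obj G ⟶ (pb).obj M) (v : (pb).obj M ⟶ (pb).obj G) (huv : u ≫ v = 𝟙 _)
    (h0 : ¬ IsZero ((pb).obj G)) : ∃ (a : G ⟶ M) (c : M ⟶ G), a ≫ c ≠ 0 := by
  by_contra hno
  push Not at hno
  haveI := hG.1
  haveI := hM.1
  obtain ⟨s, a, rfl⟩ := HomBC.exists_sum hsq (Module.Free.chooseBasis k K) hG u
  obtain ⟨t, c, rfl⟩ := HomBC.exists_sum hsq (Module.Free.chooseBasis k K) hM v
  refine h0 ((IsZero.iff_id_eq_zero _).2 (huv.symm.trans ?_))
  rw [Preadditive.sum_comp]
  refine Finset.sum_eq_zero fun i _ => ?_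
  rw [Preadditive.comp_sum]
  refine Finset.sum_eq_zero fun j _ => ?_
  rw [Category.assoc, ← Category.assoc (EndAlg.scal _ _) _ _, EndAlg.scal_comm, Category.assoc,
    ← Category.assoc, ← (pb).map_comp, hno, Functor.map_zero, Limits.zero_comp]

omit hsq

/-- Nonzero endomorphisms are isomorphisms when they form a field. -/
theorem isIso_of_ne_zero {Y : Scheme.{u}} {G : Y.Modules} {D : Type u} [Field D] (e : D ≃+* End G) (a : G ⟶ G)
    (ha : a ≠ 0) : IsIso a := by
  obtain ⟨d, hd⟩ := e.surjective (show End G from a)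
  refine (isUnit_iff_isIso (show End G from a)).1 (hd ▸ (IsUnit.mk0 d ?_).map e)
  rintro rfl
  exact ha (hd.symm.trans (map_zero e))

/-- A nonzero round trip identifies with an indecomposable bundle. -/
theorem iso_of_comp {Y : Scheme.{u}} {G M : Y.Modules} (hM : Indec.Indecomposable M) (hG : ¬ IsZero G)
    (a : G ⟶ M) (c : M ⟶ G) [IsIso (a ≫ c)] : Nonempty (G ≅ M) := by
  let r : M ⟶ G := c ≫ inv (a ≫ c)
  have har : a ≫ r = 𝟙 G := by rw [← Category.assoc, IsIso.hom_inv_id]
  rcases Indec.idempotent_trivial hM (r ≫ a) (by rw [Category.assoc, ← Category.assoc a r, har, Category.id_comp])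
    with h | h
  · refine absurd ((IsZero.iff_id_eq_zero G).2 ?_) hG
    calc 𝟙 G = (a ≫ r) ≫ a ≫ r := by rw [har, Category.id_comp]
      _ = a ≫ (r ≫ a) ≫ r := by simp only [Category.assoc]
      _ = 0 := by rw [h, Limits.zero_comp, Limits.comp_zero]
  · exact ⟨⟨a, r, har, h⟩⟩

section Curve

variable [hC : Degree.CurveCtx k X] [IsProper (X ↘ Spec (CommRingCat.of k))] [Finite k]

include hsq hC

/-- A bundle which splits after some extension has a non-scalar endomorphism modulo nilpotents. -/
theorem exists_nonscalar {n : ℕ} {E : X.Modules} (hE : FlatMod.IsFinLocFreeOfRank n E)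
    (hind : Indec.Indecomposable E) {E₁ E₂ : X'.Modules} (h₁ : ¬ IsZero E₁) (h₂ : ¬ IsZero E₂)
    (e : (pb).obj E ≅ E₁ ⊞ E₂) :
    ∃ a : End E, ∀ c : k, ¬ IsNilpotent (a - EndAlg.scalHom E (EndAlg.cst X k c)) := by
  by_contra hno
  push Not at hno
  haveI := QuasiCompact.compactSpace_of_compactSpace (X ↘ Spec (CommRingCat.of k))
  haveI : Finite (End E) := EndField.finite_hom k hE hE
  haveI : Nontrivial (End E) := ⟨⟨1, 0, fun h10 => hind.1 ((IsZero.iff_id_eq_zero E).mpr h10)⟩⟩
  have hi : Indec.Indecomposable ((pb).obj E) := by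
    refine Indec.indecomposable_of_idempotent (fun h0 => h₁ ?_) fun φ hφ =>
      idem_trivial hsq (Coherent.isCoh (TensorMod.LocFree.of_rank hE))
        (fun d hd => Indec.idempotent_trivial hind d hd.eq) hno φ hφ
    have hz := IsZero.of_iso h0 e.symm
    exact (IsZero.iff_id_eq_zero _).2 ((biprod.inl_fst (X := E₁) (Y := E₂)).symm.trans
      (by rw [hz.eq_of_tgt biprod.inl 0, Limits.zero_comp]))
  rcases hi.2 E₁ E₂ ⟨e⟩ with h | h
  · exact h₁ h
  · exact h₂ h

variable [hC' : Degree.CurveCtx K X'] [CompactSpace X]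

include hC'

set_option maxHeartbeats 2000000 in
/-- A bundle with a field of endomorphisms splits into distinct lines over the matching extension. -/
theorem split (hs : Function.Surjective (EndAlg.cst X k)) {r : ℕ} (hr : r.Prime)
    (hK : Module.finrank k K = r) {E : X.Modules} (hE : FlatMod.IsFinLocFreeOfRank r E)
    (hind : Indec.Indecomposable E) {f : k[X]} (hfm : f.Monic) (hfi : Irreducible f) (hfd : f.natDegree = r)
    (e : letI := EndAlg.algEnd k E; AdjoinRoot f ≃ₐ[k] End E) :
    ∃ M : Fin r → X'.Modules, (∀ i, PicF.IsInvertible (M i)) ∧ Nonempty ((pb).obj E ≅ ∐ M) ∧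
      (∀ i j, i ≠ j → ¬ Nonempty (M i ≅ M j)) ∧
      ∀ (i : Fin r) (L : X.Modules), PicF.IsInvertible L → ¬ Nonempty (M i ≅ (pb).obj L) := by
  classical
  letI := EndAlg.algEnd k E
  letI := EndAlg.algEnd K ((pb).obj E)
  letI := hC.integral
  letI := hC'.integral
  haveI := hC'.locNoeth
  haveI : Fact (Irreducible f) := ⟨hfi⟩
  have hEc := Coherent.isCoh (TensorMod.LocFree.of_rank hE)
  haveI := hEc.1
  have hV := TensorMod.LocFree.rank_pullback g' hE
  have hVc := Coherent.isCoh (TensorMod.LocFree.of_rank hV)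
  have hVT := Coherent.isTorsionFree (TensorMod.LocFree.of_rank hV)
  haveI : Module.Finite k K := Module.finite_of_finrank_pos (hK ▸ hr.pos)
  haveI : Finite K := Module.finite_of_finite k
  -- the roots
  have hdimA : Module.finrank k (AdjoinRoot f) = r := by
    rw [(AdjoinRoot.powerBasis hfi.ne_zero).finrank, AdjoinRoot.powerBasis_dim, hfd]
  have hcard : Nat.card (AdjoinRoot f →ₐ[k] K) = r := by
    rw [FiniteField.natCard_algHom_of_finrank_dvd (by rw [hdimA, hK]), hdimA]
  haveI : Finite (AdjoinRoot f →ₐ[k] K) := Nat.finite_of_card_ne_zero (hcard ▸ hr.ne_zero)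
  let σ := (Finite.equivFinOfCardEq hcard).symm
  let ev : Fin r → K := fun l => σ l (AdjoinRoot.root f)
  have hev : Function.Injective ev := fun l j h => σ.injective (AdjoinRoot.algHom_ext h)
  have hroot : ∀ l, Polynomial.aeval (ev l) f = 0 := fun l => by
    rw [Polynomial.aeval_algHom_apply, AdjoinRoot.aeval_eq, AdjoinRoot.mk_self, map_zero]
  -- the inverse image of the generator
  let τ : End E := e (AdjoinRoot.root f)
  have hτ : ∀ q : k[X], Polynomial.aeval τ q = e (AdjoinRoot.mk f q) := fun q => by
    rw [← AdjoinRoot.aeval_eq]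
    exact Polynomial.aeval_algHom_apply e.toAlgHom _ q
  let T : End ((pb).obj E) := pullEnd g' E τ
  have hcomp : (pullEnd g' E).comp (algebraMap k (End E)) =
      (algebraMap K (End ((pb).obj E))).comp (algebraMap k K) := RingHom.ext (pullEnd_const hsq E)
  have hT : ∀ q : k[X], Polynomial.aeval T (q.map (algebraMap k K)) = pullEnd g' E (Polynomial.aeval τ q) :=
    fun q => by
    rw [Polynomial.aeval_def, Polynomial.eval₂_map, Polynomial.aeval_def, Polynomial.hom_eval₂, hcomp]
  have hvan : ∀ P : K[X], (∀ l, P.eval (ev l) = 0) → Polynomial.aeval T P = 0 := by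
    intro P hP
    have h0 : Polynomial.aeval T (f.map (algebraMap k K)) = 0 := by
      rw [hT, hτ, AdjoinRoot.mk_self, map_zero, map_zero]
    have hm : (f.map (algebraMap k K)).Monic := hfm.map _
    have hmod : P %ₘ f.map (algebraMap k K) = 0 := by
      refine Polynomial.eq_zero_of_degree_lt_of_eval_index_eq_zero (Finset.univ : Finset (Fin r))
        hev.injOn ?_ fun l _ => ?_
      · rw [Finset.card_univ, Fintype.card_fin]
        refine (Polynomial.degree_modByMonic_lt _ hm).trans_eq ?_
        rw [Polynomial.degree_eq_natDegree hm.ne_zero, hfm.natDegree_map, hfd]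
      · have := congrArg (Polynomial.eval (ev l)) (Polynomial.modByMonic_add_div P (f.map (algebraMap k K)))
        rwa [Polynomial.eval_add, Polynomial.eval_mul, Polynomial.eval_map_algebraMap, hroot, zero_mul,
          add_zero, hP] at this
    rw [← Polynomial.modByMonic_add_div P (f.map (algebraMap k K)), hmod, zero_add, map_mul, h0, zero_mul]
  let b := Module.Free.chooseBasis k K
  have hind' : ∀ P : K[X], P ≠ 0 → P.natDegree < r → Polynomial.aeval T P ≠ 0 := by
    intro P hP hdeg h
    let q : Module.Free.ChooseBasisIndex k K → k[X] := fun i =>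
      ∑ j ∈ Finset.range r, Polynomial.C (b.repr (P.coeff j) i) * Polynomial.X ^ j
    have hq : ∀ i j, (q i).coeff j = if j < r then b.repr (P.coeff j) i else 0 := fun i j => by
      simp [q, Polynomial.finsetSum_coeff, Polynomial.coeff_C_mul, Polynomial.coeff_X_pow]
    have hPq : P = ∑ i, Polynomial.C (b i) * (q i).map (algebraMap k K) := by
      refine Polynomial.ext fun j => ?_
      simp only [Polynomial.finsetSum_coeff, Polynomial.coeff_C_mul, Polynomial.coeff_map, hq]
      by_cases hj : j < r
      · simp only [if_pos hj]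
        conv_lhs => rw [← b.sum_repr (P.coeff j)]
        exact Finset.sum_congr rfl fun i _ => by rw [Algebra.smul_def, mul_comm]
      · simp [if_neg hj, Polynomial.coeff_eq_zero_of_natDegree_lt (lt_of_lt_of_le hdeg (not_lt.1 hj))]
    have hz := HomBC.sum_eq_zero hsq b Finset.univ (fun i => (Polynomial.aeval τ (q i) : End E)) (by
      rw [hPq, map_sum] at h
      refine Eq.trans ?_ h
      refine Finset.sum_congr rfl fun i _ => ?_
      rw [map_mul, Polynomial.aeval_C, hT]
      rfl)
    refine hP ?_
    rw [hPq]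
    refine Finset.sum_eq_zero fun i _ => ?_
    have h1 : AdjoinRoot.mk f (q i) = 0 := e.injective (by rw [← hτ, map_zero]; exact hz i (Finset.mem_univ _))
    rw [AdjoinRoot.mk_eq_zero] at h1
    have h2 : q i = 0 := by
      refine Polynomial.eq_zero_of_dvd_of_degree_lt h1 ?_
      rw [Polynomial.degree_eq_natDegree hfm.ne_zero, hfd, Polynomial.degree_lt_iff_coeff_zero]
      exact fun j hj => by rw [hq, if_neg (not_lt.2 hj)]
    rw [h2, Polynomial.map_zero, mul_zero]
  -- the idempotents
  let B : Fin r → K[X] := fun l => Lagrange.basis Finset.univ ev l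
  let ε : Fin r → End ((pb).obj E) := fun l => Polynomial.aeval T (B l)
  haveI : Nonempty (Fin r) := ⟨⟨0, hr.pos⟩⟩
  have hsum : ∑ l, ε l = 1 := by
    rw [← map_sum, Lagrange.sum_basis hev.injOn Finset.univ_nonempty, map_one]
  have horth : ∀ l j, l ≠ j → ε l * ε j = 0 := fun l j hlj => by
    rw [← map_mul]
    refine hvan _ fun m => ?_
    rw [Polynomial.eval_mul]
    by_cases hm : l = m
    · rw [Lagrange.eval_basis_of_ne (i := j) (j := m) (fun h => hlj (hm.trans h.symm)) (Finset.mem_univ _),
        mul_zero]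
    · rw [Lagrange.eval_basis_of_ne hm (Finset.mem_univ _), zero_mul]
  have hidem : ∀ l, ε l * ε l = ε l := fun l => by
    conv_rhs => rw [← mul_one (ε l), ← hsum, Finset.mul_sum]
    exact (Finset.sum_eq_single l (fun j _ hj => horth l j hj.symm) (fun h => absurd (Finset.mem_univ l) h)).symm
  have hne : ∀ l, ε l ≠ 0 := fun l => hind' _ (Lagrange.basis_ne_zero hev.injOn (Finset.mem_univ l)) (by
    rw [Lagrange.natDegree_basis hev.injOn (Finset.mem_univ l), Finset.card_univ, Fintype.card_fin]
    have := hr.pos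
    omega)
  choose M ιm pm hιp hpι using fun l => IsIdempotentComplete.idempotents_split ((pb).obj E) (ε l) (hidem l)
  have hcross : ∀ l j, l ≠ j → ιm l ≫ pm j = 0 := fun l j hlj => by
    calc ιm l ≫ pm j = (ιm l ≫ pm l) ≫ (ιm l ≫ pm j) ≫ (ιm j ≫ pm j) := by
          rw [hιp, hιp, Category.id_comp, Category.comp_id]
      _ = ιm l ≫ (show (pb).obj E ⟶ (pb).obj E from ε j * ε l) ≫ pm j := by
          rw [show (show (pb).obj E ⟶ (pb).obj E from ε j * ε l) = ε l ≫ ε j from rfl, ← hpι, ← hpι]
          simp only [Category.assoc]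
      _ = 0 := by rw [horth j l hlj.symm]; simp
  have htot : ∑ l, pm l ≫ ιm l = 𝟙 _ := by simp only [hpι]; exact hsum
  let iso : (pb).obj E ≅ ∐ M :=
    { hom := ∑ l, pm l ≫ Sigma.ι M l
      inv := Sigma.desc ιm
      hom_inv_id := by simpa [Preadditive.sum_comp] using htot
      inv_hom_id := Sigma.hom_ext _ _ fun l => by
        rw [← Category.assoc, Sigma.ι_desc, Preadditive.comp_sum, Category.comp_id,
          Finset.sum_eq_single l (fun j _ hj => by rw [← Category.assoc, hcross l j hj.symm, Limits.zero_comp])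
            (fun h => absurd (Finset.mem_univ l) h), ← Category.assoc, hιp, Category.id_comp] }
  have hMi : ∀ l, IsSplitMono (ιm l) := fun l => IsSplitMono.mk' ⟨pm l, hιp l⟩
  have hMc : ∀ l, Coh.IsCoh (M l) := fun l => CohDelta.KBC.isCoh_retract (ιm l) (pm l) (hιp l) hVc
  have hMT : ∀ l, TorSh.IsTorsionFree (M l) := fun l => Rank.isTorsionFree_of_mono (ιm l) hVT
  have hM0 : ∀ l, ¬ IsZero (M l) := fun l h => hne l (by rw [← hpι, h.eq_of_src (ιm l) 0, Limits.comp_zero])
  have hrank : ∀ l, Rank.grank (M l) = 1 := by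
    letI : Field (X'.presheaf.stalk (genericPoint X')) := inferInstanceAs (Field X'.functionField)
    haveI : ∀ l, Module.Finite (X'.presheaf.stalk (genericPoint X')) ((M l).presheaf.stalk (genericPoint X')) :=
      fun l => Rank.finite_generic (hMc l)
    let L : ((pb).obj E).presheaf.stalk (genericPoint X') ≃ₗ[X'.presheaf.stalk (genericPoint X')]
        ((l : Fin r) → (M l).presheaf.stalk (genericPoint X')) :=
      { toFun := fun v l => stalkMapₗ (pm l) _ v
        map_add' := fun v w => funext fun l => map_add _ _ _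
        map_smul' := fun c v => funext fun l => map_smul _ _ _
        invFun := fun w => ∑ l, stalkMapₗ (ιm l) _ (w l)
        left_inv := fun v => by
          have hs : ∀ (T : Finset (Fin r)), stalkMapₗ (∑ l ∈ T, pm l ≫ ιm l) (genericPoint X') v =
              ∑ l ∈ T, stalkMapₗ (ιm l) _ (stalkMapₗ (pm l) _ v) := fun T => by
            induction T using Finset.induction_on with
            | empty => rw [Finset.sum_empty, Finset.sum_empty, Modules.StalkModule.stalkMapₗ_zero]; rfl
            | insert i T hi ih =>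
              rw [Finset.sum_insert hi, Finset.sum_insert hi, Modules.StalkModule.stalkMapₗ_add,
                Modules.StalkModule.stalkMapₗ_comp, LinearMap.add_apply, LinearMap.comp_apply, ih]
          show ∑ l, _ = v
          rw [← hs, htot, Modules.StalkModule.stalkMapₗ_id, LinearMap.id_apply]
        right_inv := fun w => funext fun l => by
          show stalkMapₗ (pm l) _ (∑ j, stalkMapₗ (ιm j) _ (w j)) = w l
          rw [map_sum]
          refine (Finset.sum_eq_single l (fun j _ hj => ?_) (fun h => absurd (Finset.mem_univ l) h)).trans ?_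
          · rw [← LinearMap.comp_apply, ← Modules.StalkModule.stalkMapₗ_comp, hcross j l hj,
              Modules.StalkModule.stalkMapₗ_zero, LinearMap.zero_apply]
          · rw [← LinearMap.comp_apply, ← Modules.StalkModule.stalkMapₗ_comp, hιp,
              Modules.StalkModule.stalkMapₗ_id, LinearMap.id_apply] }
    have htotal : ∑ l, Rank.grank (M l) = r := by
      have := L.finrank_eq
      rw [Module.finrank_pi_fintype] at this
      exact this.symm.trans (Rank.grank_eq_of_rank hV)
    have hpos : ∀ l, 1 ≤ Rank.grank (M l) := fun l => Nat.one_le_iff_ne_zero.2 fun h =>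
      hM0 l (Rank.isZero_of_grank_eq_zero (hMc l) (hMT l) h)
    intro l
    have := Finset.single_le_sum (f := fun l => Rank.grank (M l) - 1) (fun _ _ => Nat.zero_le _)
      (Finset.mem_univ l)
    rw [Finset.sum_tsub_distrib _ (fun j _ => hpos j), htotal] at this
    simp at this
    have := hpos l
    omega
  refine ⟨M, fun l => ?_, ⟨iso⟩, fun i j hij ⟨φ⟩ => ?_, fun i L hL ⟨φ⟩ => ?_⟩
  · refine PicSpread53.isInvertible_of_rank_one ?_
    have := Degree.rank_gr K (hMc l) (hMT l)
    rwa [show Degree.gr K (M l) = 1 from hrank l] at this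
  · have hc : ∀ a c : End E, Commute a c := fun a c => by
      obtain ⟨x, rfl⟩ := e.surjective a
      obtain ⟨y, rfl⟩ := e.surjective c
      exact (Commute.all x y).map e
    let Ψ : End ((pb).obj E) := pm i ≫ φ.hom ≫ ιm j
    have h1 : ε j * Ψ * ε i = Ψ := by
      show ε i ≫ (pm i ≫ φ.hom ≫ ιm j) ≫ ε j = pm i ≫ φ.hom ≫ ιm j
      rw [← hpι, ← hpι]
      simp [reassoc_of% (hιp i), reassoc_of% (hιp j), hιp]
    have h2 : Ψ = 0 := by
      rw [← h1, mul_assoc, (commute_end hsq hEc hc Ψ (ε i)).eq, ← mul_assoc, horth j i hij.symm, zero_mul]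
    refine hM0 i ((IsZero.iff_id_eq_zero _).2 ?_)
    calc 𝟙 (M i) = (ιm i ≫ pm i) ≫ φ.hom ≫ (ιm j ≫ pm j) ≫ φ.inv := by simp [hιp]
      _ = ιm i ≫ Ψ ≫ pm j ≫ φ.inv := by simp [Ψ]
      _ = 0 := by rw [h2]; simp
  · have hLr := TensorMod.LocFree.of_isInvertible hL
    have hLc := Coherent.isCoh (TensorMod.LocFree.of_rank hLr)
    obtain ⟨a, c, hac⟩ := exists_comp_ne_zero hsq hLc hEc (φ.inv ≫ ιm i) (pm i ≫ φ.hom)
      (by simp [reassoc_of% (hιp i)]) (fun h => hM0 i (h.of_iso φ))
    have hκ := AutCount.bijective_scal hs hL (AutCount.not_isZero (k := k) hL)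
    haveI := isIso_of_ne_zero (RingEquiv.ofBijective _ hκ) (a ≫ c) hac
    obtain ⟨θ⟩ := iso_of_comp hind (AutCount.not_isZero (k := k) hL) a c
    have := Rank.grank_congr θ
    rw [Rank.grank_eq_of_rank hLr, Rank.grank_eq_of_rank hE] at this
    exact hr.one_lt.ne this

end Curve

/-- The base change of a smooth proper geometrically connected curve is one. -/
theorem ctx_of_isPullback [IsProper (X ↘ Spec (CommRingCat.of k))] [Smooth (X ↘ Spec (CommRingCat.of k))]
    [GeometricallyConnected (X ↘ Spec (CommRingCat.of k))] (hdim : topologicalKrullDim X = 1)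
    (h : IsPullback g' (X' ↘ Spec (CommRingCat.of K)) (X ↘ Spec (CommRingCat.of k))
      (Spec.map (CommRingCat.ofHom (algebraMap k K)))) :
    Degree.CurveCtx K X' := by
  haveI : IsProper (X' ↘ Spec (CommRingCat.of K)) :=
    MorphismProperty.of_isPullback (P := @IsProper) h inferInstance
  haveI : Smooth (X' ↘ Spec (CommRingCat.of K)) :=
    MorphismProperty.of_isPullback (P := @Smooth) h inferInstance
  haveI : GeometricallyConnected (X' ↘ Spec (CommRingCat.of K)) :=
    MorphismProperty.of_isPullback (P := @GeometricallyConnected) h inferInstance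
  exact Ctx.ofConnected K ((H56.DimBaseChange.topologicalKrullDim_baseChange _ _ _ _ h).trans hdim)

end Groth.Agent.Lib.CurveBundle.BCSplit
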