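import Groth.Agent.Lib.CurveBundle.Slope
import Mathlib.CategoryTheory.Limits.Shapes.Biproducts

/-!
# Semistability in short exact sequences
-/

set_option autoImplicit false
universe u

open CategoryTheory Limits AlgebraicGeometry TopologicalSpace

namespace Groth.Agent.Lib.CurveBundle.SlopeSES

open Groth.Agent.Lib Degree Slope

variable {k : Type u} [Field k] {X : Scheme.{u}} [X.Over (Spec (CommRingCat.of k))]
  [hC : CurveCtx k X] {E F : X.Modules}

include hC

/-- A subsheaf of an extension is an extension of subsheaves. -/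
lemma split_sub {T : ShortComplex X.Modules} (hT : T.ShortExact) (h₃ : Coh.IsCoh T.X₃)
    {G : X.Modules} (i : G ⟶ T.X₂) [Mono i] (hG : Coh.IsCoh G) :
    ∃ (K I : X.Modules) (a : K ⟶ T.X₁) (b : I ⟶ T.X₃), Mono a ∧ Mono b ∧ Coh.IsCoh K ∧
      Coh.IsCoh I ∧ gr k G = gr k K + gr k I ∧ dg k G = dg k K + dg k I := by
  obtain ⟨I, p, b, -, hb, -, hI, hK, hg, hd⟩ := exists_image k (i ≫ T.g) hG h₃
  let c : kernel (i ≫ T.g) ⟶ T.X₁ :=
    hT.fIsKernel.lift (KernelFork.ofι (kernel.ι (i ≫ T.g) ≫ i) (by simp))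
  have hc : c ≫ T.f = kernel.ι (i ≫ T.g) ≫ i :=
    hT.fIsKernel.fac (KernelFork.ofι (kernel.ι (i ≫ T.g) ≫ i) (by simp)) WalkingParallelPair.zero
  have : Mono c := mono_of_mono_fac hc
  exact ⟨_, I, c, b, this, hb, hK, hI, hg, hd⟩

/-- The preimage of a subsheaf of a quotient. -/
lemma preimage {C H : X.Modules} (π : F ⟶ C) [Epi π] (h : H ⟶ C) [Mono h] (hF : Coh.IsCoh F)
    (hCc : Coh.IsCoh C) (hH : Coh.IsCoh H) :
    ∃ (P : X.Modules) (e : P ⟶ F), Mono e ∧ Coh.IsCoh P ∧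
      gr k P = gr k (kernel π) + gr k H ∧ dg k P = dg k (kernel π) + dg k H := by
  obtain ⟨hQ, g₁, d₁⟩ := cokernel_ses k h hH hCc
  obtain ⟨hP, g₂, d₂⟩ := kernel_ses k (π ≫ cokernel.π h) hF hQ
  obtain ⟨-, g₃, d₃⟩ := kernel_ses k π hF hCc
  exact ⟨_, kernel.ι (π ≫ cokernel.π h), inferInstance, hP, by omega, by omega⟩

lemma ss_zero_rank (h : gr k E = 0) (hE : Coh.IsCoh E) : SS k E := by
  intro G i _ _
  have := gr_le_of_mono k i hE
  simp [h, show gr k G = 0 by omega]

/-- A subsheaf of equal slope of a semistable sheaf is semistable. -/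
lemma ss_sub {K : X.Modules} (hF : SS k F) (hKc : Coh.IsCoh K) (i : K ⟶ F) [Mono i]
    (hr : 0 < gr k F) (hμ : dg k K * (gr k F : ℤ) = dg k F * (gr k K : ℤ)) : SS k K := by
  intro G j _ hG
  have h1 := hF G (j ≫ i) (mono_comp _ _) hG
  have h2 : (0 : ℤ) < gr k F := by exact_mod_cast hr
  refine le_of_mul_le_mul_right ?_ h2
  calc dg k G * (gr k K : ℤ) * gr k F = dg k G * gr k F * gr k K := by ring
    _ ≤ dg k F * gr k G * gr k K := mul_le_mul_of_nonneg_right h1 (Int.natCast_nonneg _)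
    _ = dg k K * gr k F * gr k G := by rw [hμ]; ring
    _ = _ := by ring

/-- A quotient of equal slope of a semistable sheaf is semistable. -/
lemma ss_quot {C : X.Modules} (hF : SS k F) (hFc : Coh.IsCoh F) (hCc : Coh.IsCoh C) (π : F ⟶ C)
    [Epi π] (hr : 0 < gr k F) (hμ : dg k C * (gr k F : ℤ) = dg k F * (gr k C : ℤ)) : SS k C := by
  intro H h _ hH
  obtain ⟨P, e, _, hP, hg, hd⟩ := preimage (k := k) π h hFc hCc hH
  have h1 := hF P e ‹_› hP
  obtain ⟨-, hg', hd'⟩ := kernel_ses k π hFc hCc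
  have h2 : (0 : ℤ) < gr k F := by exact_mod_cast hr
  have cg : (gr k P : ℤ) = gr k (kernel π) + gr k H := by exact_mod_cast hg
  have cg' : (gr k F : ℤ) = gr k (kernel π) + gr k C := by exact_mod_cast hg'
  have h3 : dg k H * (gr k F : ℤ) ≤ dg k F * (gr k H : ℤ) := by
    have h4 : dg k (kernel π) * (gr k F : ℤ) = dg k F * (gr k (kernel π) : ℤ) := by
      rw [show dg k (kernel π) = dg k F - dg k C by omega,
        show (gr k (kernel π) : ℤ) = gr k F - gr k C by omega, sub_mul, hμ, mul_sub]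
    rw [hd, cg, add_mul, mul_add] at h1
    linarith
  refine le_of_mul_le_mul_right ?_ h2
  calc dg k H * (gr k C : ℤ) * gr k F = dg k H * gr k F * gr k C := by ring
    _ ≤ dg k F * gr k H * gr k C := mul_le_mul_of_nonneg_right h3 (Int.natCast_nonneg _)
    _ = dg k C * gr k F * gr k H := by rw [hμ]; ring
    _ = _ := by ring

/-- An extension of semistable sheaves of one slope is semistable. -/
lemma ss_ext {T : ShortComplex X.Modules} (hT : T.ShortExact) (h₃ : Coh.IsCoh T.X₃)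
    (hr₁ : 0 < gr k T.X₁) (hr₃ : 0 < gr k T.X₃)
    (hμ₁ : dg k T.X₁ * (gr k T.X₂ : ℤ) = dg k T.X₂ * (gr k T.X₁ : ℤ))
    (hμ₃ : dg k T.X₃ * (gr k T.X₂ : ℤ) = dg k T.X₂ * (gr k T.X₃ : ℤ))
    (h1 : SS k T.X₁) (h3 : SS k T.X₃) : SS k T.X₂ := by
  intro G i _ hG
  obtain ⟨K, I, a, b, ha, hb, hK, hI, hg, hd⟩ := split_sub (k := k) hT h₃ i hG
  have c1 : (0 : ℤ) < gr k T.X₁ := by exact_mod_cast hr₁
  have c3 : (0 : ℤ) < gr k T.X₃ := by exact_mod_cast hr₃
  have hK' : dg k K * (gr k T.X₂ : ℤ) ≤ dg k T.X₂ * (gr k K : ℤ) := by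
    refine le_of_mul_le_mul_right ?_ c1
    calc dg k K * (gr k T.X₂ : ℤ) * gr k T.X₁ = dg k K * gr k T.X₁ * gr k T.X₂ := by ring
      _ ≤ dg k T.X₁ * gr k K * gr k T.X₂ :=
        mul_le_mul_of_nonneg_right (h1 K a ha hK) (Int.natCast_nonneg _)
      _ = dg k T.X₁ * gr k T.X₂ * gr k K := by ring
      _ = _ := by rw [hμ₁]; ring
  have hI' : dg k I * (gr k T.X₂ : ℤ) ≤ dg k T.X₂ * (gr k I : ℤ) := by
    refine le_of_mul_le_mul_right ?_ c3
    calc dg k I * (gr k T.X₂ : ℤ) * gr k T.X₃ = dg k I * gr k T.X₃ * gr k T.X₂ := by ring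
      _ ≤ dg k T.X₃ * gr k I * gr k T.X₂ :=
        mul_le_mul_of_nonneg_right (h3 I b hb hI) (Int.natCast_nonneg _)
      _ = dg k T.X₃ * gr k T.X₂ * gr k I := by ring
      _ = _ := by rw [hμ₃]; ring
  rw [hd, hg, Nat.cast_add, add_mul, mul_add]
  linarith

/-- Kernel and cokernel of a morphism of semistable bundles of one slope. -/
theorem kernel_cokernel {r s : ℕ} (hr : 0 < r) (hs : 0 < s)
    (hE : FlatMod.IsFinLocFreeOfRank r E) (hF : FlatMod.IsFinLocFreeOfRank s F)
    (hE' : SS k E) (hF' : SS k F)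
    (hμ : dg k E * (s : ℤ) = dg k F * (r : ℤ)) (f : E ⟶ F) :
    (∃ n : ℕ, FlatMod.IsFinLocFreeOfRank n (kernel f) ∧
        Curv2.deg k X (kernel f) n * (r : ℤ) = Curv2.deg k X E r * (n : ℤ) ∧
        ModFun.IsSlopeSemistable k X (kernel f) n) ∧
      (∃ n : ℕ, FlatMod.IsFinLocFreeOfRank n (cokernel f) ∧
        Curv2.deg k X (cokernel f) n * (s : ℤ) = Curv2.deg k X F s * (n : ℤ) ∧
        ModFun.IsSlopeSemistable k X (cokernel f) n) := by
  let _ := hC.integral
  have := hC.locNoeth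
  obtain ⟨hEc, hET, er, edE⟩ := bundle (k := k) hE
  obtain ⟨hFc, hFT, es, edF⟩ := bundle (k := k) hF
  obtain ⟨I, p, j, hp, hj, hpj, hI, hK, hg, hd, hle⟩ := exists_image_ss hE' hEc hFc f
  have hle' := hF' I j hj hI
  rw [er] at hle hg
  rw [es] at hle'
  have c1 : (0 : ℤ) < r := by exact_mod_cast hr
  have c2 : (0 : ℤ) < s := by exact_mod_cast hs
  have heq : dg k I * (r : ℤ) = dg k E * (gr k I : ℤ) := by
    refine le_antisymm (le_of_mul_le_mul_right ?_ c2) hle
    calc dg k I * (r : ℤ) * s = dg k I * s * r := by ring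
      _ ≤ dg k F * gr k I * r := mul_le_mul_of_nonneg_right hle' c1.le
      _ = dg k F * r * gr k I := by ring
      _ = _ := by rw [← hμ]; ring
  have heq' : dg k I * (s : ℤ) = dg k F * (gr k I : ℤ) := by
    refine mul_right_cancel₀ c1.ne' ?_
    calc dg k I * (s : ℤ) * r = dg k I * r * s := by ring
      _ = dg k E * s * gr k I := by rw [heq]; ring
      _ = _ := by rw [hμ]; ring
  refine ⟨⟨gr k (kernel f), (sub_bundle (k := k) (kernel.ι f) hK hET).1, ?_, ?_⟩, ?_⟩
  · rw [(sub_bundle (k := k) (kernel.ι f) hK hET).2, edE,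
      show dg k (kernel f) = dg k E - dg k I by omega,
      show (gr k (kernel f) : ℤ) = (r : ℤ) - gr k I by omega, sub_mul, mul_sub, heq]
  · refine isSlopeSemistable (sub_bundle (k := k) (kernel.ι f) hK hET).1
      (ss_sub hE' hK (kernel.ι f) (by omega) ?_)
    rw [er, show dg k (kernel f) = dg k E - dg k I by omega,
      show (gr k (kernel f) : ℤ) = (r : ℤ) - gr k I by omega, sub_mul, mul_sub, heq]
  obtain ⟨I', j', a, hj', ha, haj, hI', hgI', hT, hcok⟩ := Saturation.exists_saturation j hI hFc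
  have hgI'' : gr k I' = gr k I := hgI'
  have hle2 := hF' I' j' hj' hI'
  rw [es, hgI''] at hle2
  have h5 : dg k I' = dg k I := by
    refine le_antisymm (le_of_mul_le_mul_right (hle2.trans_eq heq'.symm) c2) ?_
    exact dg_le_of_mono k a hI hI' hgI''.symm
  have := isIso_of_mono k a hI hI' hgI''.symm h5.symm
  obtain ⟨-, hg2, hd2⟩ := cokernel_ses k j' hI' hFc
  have e : cokernel f ≅ cokernel j' :=
    cokernelIsoOfEq (show f = (p ≫ a) ≫ j' by rw [Category.assoc, haj, hpj]) ≪≫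
      cokernelEpiComp (p ≫ a) j'
  have hcT : TorSh.IsTorsionFree (cokernel f) := Rank.isTorsionFree_of_mono e.hom hT
  have hcc : Coh.IsCoh (cokernel f) := CohBasics.Closure.isCoh_cokernel f hEc.1 hFc
  have hb := rank_gr k hcc hcT
  have hμc : dg k (cokernel f) * (s : ℤ) = dg k F * (gr k (cokernel f) : ℤ) := by
    rw [gr_congr k e, dg_congr k e, show dg k (cokernel j') = dg k F - dg k I by omega,
      show (gr k (cokernel j') : ℤ) = (s : ℤ) - gr k I by omega, sub_mul, mul_sub, heq']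
  refine ⟨_, hb, ?_, isSlopeSemistable hb
    (ss_quot hF' hFc hcc (cokernel.π f) (by omega) (by rwa [es]))⟩
  rwa [← dg_eq_deg k hb, edF]

variable {r : ℕ}

/-- Semistability through quotient bundles. -/
theorem quot_iff (hE : FlatMod.IsFinLocFreeOfRank r E) :
    (∀ (Q : X.Modules) (s : ℕ) (p : E ⟶ Q), Epi p → 0 < s → FlatMod.IsFinLocFreeOfRank s Q →
      Curv2.deg k X E r * (s : ℤ) ≤ Curv2.deg k X Q s * (r : ℤ)) ↔
      ModFun.IsSlopeSemistable k X E r := by
  let _ := hC.integral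
  have := hC.locNoeth
  obtain ⟨hEc, hET, er, edE⟩ := bundle (k := k) hE
  refine ⟨fun h G n i _ hn hG => ?_, fun h Q s p _ hs hQ => ?_⟩
  · obtain ⟨hGc, -, eg, edG⟩ := bundle (k := k) hG
    obtain ⟨G', j, a, _, _, -, hG', hgr, hT, hcok⟩ := Saturation.exists_saturation i hGc hEc
    have hgr' : gr k G' = gr k G := hgr
    have hle := dg_le_of_mono k a hGc hG' hgr'.symm
    obtain ⟨-, hg, hd⟩ := cokernel_ses k j hG' hEc
    have key : dg k G' * (r : ℤ) ≤ dg k E * (n : ℤ) := by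
      rcases Nat.eq_zero_or_pos (gr k (cokernel j)) with h0 | h0
      · rw [show r = n by omega, show dg k E = dg k G' by
          have := dg_of_isZero k (isZero_of_gr k hcok hT h0) hcok
          omega]
      · have hb := rank_gr k hcok hT
        have := h _ _ (cokernel.π j) inferInstance h0 hb
        rw [edE, ← dg_eq_deg k hb, show dg k (cokernel j) = dg k E - dg k G' by omega,
          show (gr k (cokernel j) : ℤ) = (r : ℤ) - n by omega, sub_mul, mul_sub] at this
        linarith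
    rw [edG, edE]
    exact le_trans (mul_le_mul_of_nonneg_right hle (Int.natCast_nonneg _)) key
  · obtain ⟨hQc, -, eq', edQ⟩ := bundle (k := k) hQ
    have := quot_ge (ss_of hE h) hEc hQc p
    rwa [eq', er, ← edQ, ← edE] at this

/-- Stability through quotient bundles. -/
theorem quot_iff_strict (hr : 0 < r) (hE : FlatMod.IsFinLocFreeOfRank r E) :
    (∀ (Q : X.Modules) (s : ℕ) (p : E ⟶ Q), Epi p → 0 < s → FlatMod.IsFinLocFreeOfRank s Q →
      (¬ IsIso p) → Curv2.deg k X E r * (s : ℤ) < Curv2.deg k X Q s * (r : ℤ)) ↔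
      (∀ (G : X.Modules) (n : ℕ) (i : G ⟶ E), Mono i → 0 < n → FlatMod.IsFinLocFreeOfRank n G →
        (¬ IsIso i) → Curv2.deg k X G n * (r : ℤ) < Curv2.deg k X E r * (n : ℤ)) := by
  let _ := hC.integral
  have := hC.locNoeth
  obtain ⟨hEc, hET, er, edE⟩ := bundle (k := k) hE
  refine ⟨fun h G n i _ hn hG hi => ?_, fun h Q s p _ hs hQ hp => ?_⟩
  · obtain ⟨hGc, -, eg, edG⟩ := bundle (k := k) hG
    obtain ⟨G', j, a, _, _, haj, hG', hgr, hT, hcok⟩ := Saturation.exists_saturation i hGc hEc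
    have hgr' : gr k G' = gr k G := hgr
    have hle := dg_le_of_mono k a hGc hG' hgr'.symm
    obtain ⟨-, hg, hd⟩ := cokernel_ses k j hG' hEc
    rw [edG, edE]
    rcases Nat.eq_zero_or_pos (gr k (cokernel j)) with h0 | h0
    · have hz := isZero_of_gr k hcok hT h0
      have := dg_of_isZero k hz hcok
      have : Epi j := Abelian.epi_of_cokernel_π_eq_zero j (hz.eq_of_tgt _ _)
      have := isIso_of_mono_of_epi j
      have hne : dg k G ≠ dg k G' := fun he => hi <| by
        have := isIso_of_mono k a hGc hG' hgr'.symm he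
        rw [← haj]
        infer_instance
      rw [show n = r by omega, show dg k E = dg k G' by omega]
      exact mul_lt_mul_of_pos_right (lt_of_le_of_ne hle hne) (by exact_mod_cast hr)
    · have hb := rank_gr k hcok hT
      have := h _ _ (cokernel.π j) inferInstance h0 hb fun hiso => by
        have := gr_congr k (asIso (cokernel.π j))
        omega
      rw [edE, ← dg_eq_deg k hb, show dg k (cokernel j) = dg k E - dg k G' by omega,
        show (gr k (cokernel j) : ℤ) = (r : ℤ) - n by omega, sub_mul, mul_sub] at this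
      exact lt_of_le_of_lt (mul_le_mul_of_nonneg_right hle (Int.natCast_nonneg r)) (by linarith)
  · obtain ⟨hQc, -, eq', edQ⟩ := bundle (k := k) hQ
    obtain ⟨hK, hg, hd⟩ := kernel_ses k p hEc hQc
    have hK0 : 0 < gr k (kernel p) := Nat.pos_of_ne_zero fun h0 => hp <| by
      have : Mono p :=
        Preadditive.mono_of_kernel_zero ((sub_zero_rank (kernel.ι p) hK hET h0).1.eq_of_src _ _)
      exact isIso_of_mono_of_epi p
    obtain ⟨hb, hd'⟩ := sub_bundle (k := k) (kernel.ι p) hK hET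
    have := h _ _ (kernel.ι p) inferInstance hK0 hb fun hiso => by
      have := gr_congr k (asIso (kernel.ι p))
      omega
    rw [hd', edE, show dg k (kernel p) = dg k E - dg k Q by omega,
      show (gr k (kernel p) : ℤ) = (r : ℤ) - s by omega, sub_mul, mul_sub] at this
    rw [edE, edQ]
    linarith

/-- Stable bundles have no map from a quotient back into the subsheaf. -/
theorem hom_quot_sub_eq_zero (hr : 0 < r) {T : ShortComplex X.Modules} (hT : T.ShortExact)
    (hE : FlatMod.IsFinLocFreeOfRank r T.X₂) (h : ST k T.X₂) (φ : T.X₃ ⟶ T.X₁) : φ = 0 := by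
  let _ := hC.integral
  have := hT.mono_f
  have := hT.epi_g
  let e : T.X₂ ⟶ T.X₂ := T.g ≫ φ ≫ T.f
  have he : e = 0 := by
    by_contra h0
    have := isIso_endo hE h e h0
    have h2 : e ≫ e = 0 := by simp [e]
    have h3 : e = 0 := by rw [← cancel_mono e, h2, zero_comp]
    exact h0 h3
  have h4 : T.g ≫ φ ≫ T.f = T.g ≫ 0 ≫ T.f := by simpa [e] using he
  rwa [cancel_epi, cancel_mono] at h4

/-- The maximal slope of a direct sum. -/
theorem slope_biprod {E₁ E₂ G : X.Modules} {r₁ r₂ n : ℕ} (hE₁ : FlatMod.IsFinLocFreeOfRank r₁ E₁)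
    (hE₂ : FlatMod.IsFinLocFreeOfRank r₂ E₂) (m₁ m₂ : ℚ)
    (h₁ : ∀ (G : X.Modules) (r' : ℕ) (i : G ⟶ E₁), Mono i → 0 < r' →
      FlatMod.IsFinLocFreeOfRank r' G → (Curv2.deg k X G r' : ℚ) / r' ≤ m₁)
    (h₂ : ∀ (G : X.Modules) (r' : ℕ) (i : G ⟶ E₂), Mono i → 0 < r' →
      FlatMod.IsFinLocFreeOfRank r' G → (Curv2.deg k X G r' : ℚ) / r' ≤ m₂)
    (i : G ⟶ E₁ ⊞ E₂) [Mono i] (hn : 0 < n) (hG : FlatMod.IsFinLocFreeOfRank n G) :
    (Curv2.deg k X G n : ℚ) / n ≤ max m₁ m₂ := by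
  obtain ⟨hGc, -, eg, edG⟩ := bundle (k := k) hG
  obtain ⟨hc1, hT1, -, -⟩ := bundle (k := k) hE₁
  obtain ⟨hc2, hT2, -, -⟩ := bundle (k := k) hE₂
  let T : ShortComplex X.Modules :=
    ShortComplex.mk (biprod.inl : E₁ ⟶ E₁ ⊞ E₂) biprod.snd biprod.inl_snd
  have hT : T.ShortExact :=
    ShortComplex.Splitting.shortExact
      { r := biprod.fst, s := biprod.inr, id := biprod.total }
  obtain ⟨K, I, a, b, ha, hb, hK, hI, hg, hd⟩ := split_sub (k := k) hT hc2 i hGc
  have key : ∀ {M P : X.Modules} (_ : TorSh.IsTorsionFree P) (a : M ⟶ P) [Mono a]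
      (_ : Coh.IsCoh M) (m : ℚ)
      (_ : ∀ (G : X.Modules) (r' : ℕ) (i : G ⟶ P), Mono i → 0 < r' →
        FlatMod.IsFinLocFreeOfRank r' G → (Curv2.deg k X G r' : ℚ) / r' ≤ m),
      m ≤ max m₁ m₂ → (dg k M : ℚ) ≤ max m₁ m₂ * (gr k M : ℚ) := by
    intro M P hP a _ hM m hm hle
    rcases Nat.eq_zero_or_pos (gr k M) with h0 | h0
    · simp [(sub_zero_rank a hM hP h0).2, h0]
    · obtain ⟨hb', hd'⟩ := sub_bundle (k := k) a hM hP
      have h := hm M _ a ‹_› h0 hb'
      rw [hd', div_le_iff₀ (by exact_mod_cast h0)] at h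
      exact h.trans (mul_le_mul_of_nonneg_right hle (Nat.cast_nonneg _))
  have k1 := key hT1 a hK m₁ h₁ (le_max_left _ _)
  have k2 := key hT2 b hI m₂ h₂ (le_max_right _ _)
  rw [edG, div_le_iff₀ (by exact_mod_cast hn), hd, ← eg, hg]
  push_cast
  linarith

end Groth.Agent.Lib.CurveBundle.SlopeSES
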