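import Groth.Agent.Lib.CurveBundle.H0Crit
import Groth.Agent.Lib.CurveBundle.SlopeSES

/-!
# Sections of semistable bundles of degree zero
-/

set_option autoImplicit false
universe u

open CategoryTheory Limits AlgebraicGeometry TopologicalSpace

namespace Groth.Agent.Lib.CurveBundle.DegZero

open Groth.Agent.Lib Degree Slope

variable {k : Type u} [Field k] {X : Scheme.{u}} [X.Over (Spec (CommRingCat.of k))]
  [hC : CurveCtx k X]

include hC

/-- A semistable bundle of degree zero has at most as many sections as its rank. -/
theorem h0_le (h0 : Module.finrank k (Coh.HH X (Coh.structureModule X) 0) = 1) :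
    ∀ (r : ℕ) (G : X.Modules), FlatMod.IsFinLocFreeOfRank r G → dg k G = 0 → SS k G →
      Curves.Euler.hdim k X G 0 ≤ r := by
  let _ := hC.integral
  have := hC.locNoeth
  intro r
  induction r with
  | zero =>
    intro G hG _ _
    obtain ⟨hGc, hT, eG, -⟩ := bundle (k := k) hG
    have hz := isZero_of_gr k hGc hT eG
    have := H0Crit.no_sections (k := k) hG fun M i hi hM => absurd (gr_le_of_mono k i hGc)
      (by have := (SlopeLine.line (k := k) hM).2.2.1; omega)
    simp [Curves.Euler.hdim, Module.finrank_zero_of_subsingleton]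
  | succ n ih =>
    intro G hG hd hss
    obtain ⟨hGc, hT, eG, -⟩ := bundle (k := k) hG
    rcases subsingleton_or_nontrivial (Coh.HH X G 0) with hs | hn
    · simp [Curves.Euler.hdim, Module.finrank_zero_of_subsingleton]
    obtain ⟨w, hw⟩ := Curves.Positivity.exists_section_of_nontrivial hn
    obtain ⟨hOc, hOT, eO, -⟩ := SlopeLine.line (k := k) (PicLoc.isInvertible_structureModule X)
    obtain ⟨J, p, j, hp, hj, hpj, hJ, hK, hg, -⟩ := exists_image k w hOc hGc
    have hJ0 : gr k J ≠ 0 := fun h => hw (eq_zero_of_image k p j hpj hJ hT h)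
    have : Mono w := Preadditive.mono_of_kernel_zero
      ((sub_zero_rank (k := k) (kernel.ι w) hK hOT (by omega)).1.eq_of_src _ _)
    obtain ⟨L, i, a, hi, ha, hai, hL, hLr, hQT, hQ⟩ := Saturation.exists_saturation w hOc hGc
    have eL : gr k L = 1 := hLr.trans eO
    obtain ⟨-, hg', hd'⟩ := cokernel_ses k i hL hGc
    have hdO : dg k (Coh.structureModule X) = 0 := H0Crit.dg_structure
    have h1 := hss L i hi hL
    have h2 := dg_le_of_mono k a hOc hL (by omega)
    have hdL : dg k L = 0 := by
      rw [hd, eG, eL, zero_mul] at h1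
      push_cast at h1
      nlinarith
    have : IsIso a := Degree.isIso_of_mono k a hOc hL (by omega) (by omega)
    have hQss : SS k (cokernel i) :=
      SlopeSES.ss_quot (k := k) hss hGc hQ (cokernel.π i) (by omega)
        (by rw [show dg k (cokernel i) = 0 by omega, hd]; ring)
    have hQb := rank_gr k hQ hQT
    rw [show gr k (cokernel i) = n by omega] at hQb
    have h3 := ih (cokernel i) hQb (by omega) hQss
    have hS : (ShortComplex.mk i (cokernel.π i) (cokernel.condition i)).ShortExact :=
      { exact := ShortComplex.exact_cokernel i }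
    have := (hC.good _ hL).fin₀
    have := (hC.good _ hQ).fin₀
    have h4 := Curves.Euler.hdim_zero_le_add (k := k) hS
    dsimp only at h4
    rw [← Curves.Euler.hdim_eq_of_iso (asIso a) 0] at h4
    have : Curves.Euler.hdim k X (Coh.structureModule X) 0 = 1 := h0
    omega

end Groth.Agent.Lib.CurveBundle.DegZero
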