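import Groth.Agent.Lib.CurveBundle.Saturation
import Groth.Agent.Lib.Modules.ExtendFT
import Groth.Agent.Lib.TensorMod.LocFree
import Mathlib.AlgebraicGeometry.Noetherian

/-!
# Dévissage on an integral Noetherian scheme through the generic rank

Subsheaves through given sections; a common line subsheaf of two torsion-free sheaves; an additive
function on coherent sheaves killing those of rank zero is the rank times its value at `O`.
-/

set_option autoImplicit false
universe u v

open CategoryTheory Limits AlgebraicGeometry Opposite TopologicalSpace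

namespace Groth.Agent.Lib.CurveBundle.Devissage

open Groth.Agent.Lib Groth.Agent.Lib.Modules

variable {X : Scheme.{u}}

/-- A coherent subsheaf with prescribed generators over an affine open. -/
theorem exists_span_sub [IsLocallyNoetherian X] [NoetherianSpace X] {F : X.Modules} (hF : Coh.IsCoh F)
    {U : X.Opens} (hU : IsAffineOpen U) {n : ℕ} (s : Fin n → Γ(F, U)) :
    ∃ (G : X.Modules) (i : G ⟶ F), Mono i ∧ Coh.IsCoh G ∧ ∀ (x : X) (hx : x ∈ U),
      LinearMap.range (StalkModule.stalkMapₗ i x) =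
        Submodule.span (X.presheaf.stalk x) (Set.range fun j => F.presheaf.germ U x hx (s j)) := by
  classical
  have := hF.1
  let S₀ : SubStalk.Family F := fun x =>
    if hx : x ∈ U then Submodule.span _ (Set.range fun j => F.presheaf.germ U x hx (s j)) else ⊥
  obtain ⟨lo, wf⟩ := exists_wellFoundedLT (α := ExtendFT.AffIdx X)
  letI := lo
  haveI := wf
  have hcov : ⨆ l : ExtendFT.AffIdx X, l.toOpens = ⊤ := eq_top_iff.mpr fun x _ => by
    obtain ⟨W, hW, hx, -⟩ := exists_isAffineOpen_mem_and_subset (U := ⊤) (x := x) trivial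
    exact Opens.mem_iSup.mpr ⟨⟨W, hW⟩, hx⟩
  have h := ExtendFT.isLocFG_total (fun l : ExtendFT.AffIdx X => l.toOpens) U S₀ (fun l => l.isAffine)
    (fun _ => NoetherianSpace.isCompact _)
    (SubStalk.IsLocFG.of_affine hU s fun y hy => dif_pos hy) hcov
  have := SubStalk.isQCoh_subMod h
  let T := ExtendFT.total (fun l : ExtendFT.AffIdx X => l.toOpens) U S₀
  refine ⟨_, SubStalk.ι T, inferInstance,
    CohBasics.Closure.isCoh_of_mono (SubStalk.ι T) hF, fun x hx => ?_⟩
  rw [SubStalk.range_stalkMapₗ_ι h (W := ⊤) trivial, ExtendFT.total_of_mem _ _ _ hx]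
  exact dif_pos hx

variable [IsIntegral X]

omit [IsIntegral X] in
lemma isTorsionFree_biprod {M N : X.Modules} (hM : TorSh.IsTorsionFree M)
    (hN : TorSh.IsTorsionFree N) : TorSh.IsTorsionFree (M ⊞ N) := fun x => by
  refine ⟨fun a ha => ?_⟩
  rw [isSMulRegular_iff_right_eq_zero_of_smul]
  intro z hz
  have := hM x
  have := hN x
  have h1 : StalkModule.stalkMapₗ (biprod.fst : M ⊞ N ⟶ M) x z = 0 :=
    (ha.smul_eq_zero_iff_right (M := M.presheaf.stalk x)).mp
      ((map_smul (StalkModule.stalkMapₗ (biprod.fst : M ⊞ N ⟶ M) x) a z).symm.trans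
        (by rw [hz, map_zero]))
  have h2 : StalkModule.stalkMapₗ (biprod.snd : M ⊞ N ⟶ N) x z = 0 :=
    (ha.smul_eq_zero_iff_right (M := N.presheaf.stalk x)).mp
      ((map_smul (StalkModule.stalkMapₗ (biprod.snd : M ⊞ N ⟶ N) x) a z).symm.trans
        (by rw [hz, map_zero]))
  have h3 := congrArg (fun φ => StalkModule.stalkMapₗ φ x z) (biprod.total (X := M) (Y := N))
  simp only [StalkModule.stalkMapₗ_add, StalkModule.stalkMapₗ_comp, StalkModule.stalkMapₗ_id,
    LinearMap.add_apply, LinearMap.comp_apply, h1, h2, map_zero, add_zero,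
    LinearMap.id_apply] at h3
  exact h3.symm

lemma exists_germ_ne_zero {M : X.Modules} (h : 0 < Rank.grank M) :
    ∃ (U : X.Opens) (hU : genericPoint X ∈ U) (t : Γ(M, U)),
      M.presheaf.germ U _ hU t ≠ 0 := by
  let _ : Field (X.presheaf.stalk (genericPoint X)) := inferInstanceAs (Field X.functionField)
  have : Nontrivial (M.presheaf.stalk (genericPoint X)) := Module.nontrivial_of_finrank_pos h
  obtain ⟨z, hz⟩ := exists_ne (0 : M.presheaf.stalk (genericPoint X))
  obtain ⟨U, hU, t, rfl⟩ := TopCat.Presheaf.exists_germ_eq M.presheaf z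
  exact ⟨U, hU, t, hz⟩

/-- Two torsion-free sheaves of positive rank share a line subsheaf. -/
theorem exists_line [IsLocallyNoetherian X] [NoetherianSpace X] {M N : X.Modules}
    (hM : Coh.IsCoh M) (hN : Coh.IsCoh N) (hMT : TorSh.IsTorsionFree M)
    (hNT : TorSh.IsTorsionFree N) (hM0 : 0 < Rank.grank M) (hN0 : 0 < Rank.grank N) :
    ∃ (G : X.Modules) (a : G ⟶ M) (b : G ⟶ N), Mono a ∧ Mono b ∧ Coh.IsCoh G ∧
      Rank.grank G = 1 := by
  let _ : Field (X.presheaf.stalk (genericPoint X)) := inferInstanceAs (Field X.functionField)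
  obtain ⟨U₁, h₁, t₁, ht₁⟩ := exists_germ_ne_zero hM0
  obtain ⟨U₂, h₂, t₂, ht₂⟩ := exists_germ_ne_zero hN0
  obtain ⟨U, hU, hη, hUle⟩ :=
    exists_isAffineOpen_mem_and_subset (U := U₁ ⊓ U₂) (x := genericPoint X) ⟨h₁, h₂⟩
  let m : Γ(M, U) := M.presheaf.map (homOfLE (hUle.trans inf_le_left)).op t₁
  let n : Γ(N, U) := N.presheaf.map (homOfLE (hUle.trans inf_le_right)).op t₂
  have hm : M.presheaf.germ U _ hη m ≠ 0 := by
    erw [TopCat.Presheaf.germ_res_apply]; exact ht₁
  have hn : N.presheaf.germ U _ hη n ≠ 0 := by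
    erw [TopCat.Presheaf.germ_res_apply]; exact ht₂
  let s : Fin 1 → Γ(M ⊞ N, U) := fun _ =>
    (biprod.inl : M ⟶ M ⊞ N).app U m + (biprod.inr : N ⟶ M ⊞ N).app U n
  obtain ⟨G, i, hi, hG, hr⟩ :=
    exists_span_sub (CohBasics.Closure.isCoh_biprod hM hN) hU s
  have hr' := hr _ hη
  simp only [s, Set.range_const] at hr'
  set g := (M ⊞ N).presheaf.germ U (genericPoint X) hη (s 0) with hgdef
  have hfst : StalkModule.stalkMapₗ (biprod.fst : M ⊞ N ⟶ M) _ g = M.presheaf.germ U _ hη m := by
    rw [hgdef, map_add, map_add, ← StalkModule.stalkMapₗ_germ, ← StalkModule.stalkMapₗ_germ,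
      ← LinearMap.comp_apply, ← LinearMap.comp_apply, ← StalkModule.stalkMapₗ_comp,
      ← StalkModule.stalkMapₗ_comp, biprod.inl_fst, biprod.inr_fst, StalkModule.stalkMapₗ_id,
      StalkModule.stalkMapₗ_zero]
    simp
  have hsnd : StalkModule.stalkMapₗ (biprod.snd : M ⊞ N ⟶ N) _ g = N.presheaf.germ U _ hη n := by
    rw [hgdef, map_add, map_add, ← StalkModule.stalkMapₗ_germ, ← StalkModule.stalkMapₗ_germ,
      ← LinearMap.comp_apply, ← LinearMap.comp_apply, ← StalkModule.stalkMapₗ_comp,
      ← StalkModule.stalkMapₗ_comp, biprod.inl_snd, biprod.inr_snd, StalkModule.stalkMapₗ_id,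
      StalkModule.stalkMapₗ_zero]
    simp
  have hinj := (StalkModule.mono_iff_stalkMapₗ_injective i).mp hi (genericPoint X)
  have := hG.1
  have hGT := Rank.isTorsionFree_of_mono i (isTorsionFree_biprod hMT hNT)
  have key : ∀ {P : X.Modules} (p : M ⊞ N ⟶ P), StalkModule.stalkMapₗ p _ g ≠ 0 →
      Mono (i ≫ p) := by
    intro P p hp
    refine Rank.mono_of_generic_injective hGT _ ((injective_iff_map_eq_zero _).mpr fun z hz => ?_)
    rw [StalkModule.stalkMapₗ_comp, LinearMap.comp_apply] at hz
    obtain ⟨c, hc⟩ := Submodule.mem_span_singleton.mp (hr'.le ⟨z, rfl⟩)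
    rw [← hc, map_smul, smul_eq_zero] at hz
    refine hinj ?_
    rw [← hc, hz.resolve_right hp, zero_smul, map_zero]
  refine ⟨G, i ≫ biprod.fst, i ≫ biprod.snd, key _ (hfst ▸ hm), key _ (hsnd ▸ hn), hG, ?_⟩
  rw [Rank.grank, ← LinearMap.finrank_range_of_inj hinj, hr']
  exact finrank_span_singleton fun h => hm (by rw [← hfst, h, map_zero])

/-- Dévissage: an additive function killing rank zero is the rank times its value at `O`. -/
theorem additive_eq [IsLocallyNoetherian X] [NoetherianSpace X] {A : Type v} [AddCommGroup A]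
    (f : X.Modules → A)
    (hadd : ∀ S : ShortComplex X.Modules, S.ShortExact → Coh.IsCoh S.X₁ → Coh.IsCoh S.X₂ →
      Coh.IsCoh S.X₃ → f S.X₂ = f S.X₁ + f S.X₃)
    (h0 : ∀ Q : X.Modules, Coh.IsCoh Q → Rank.grank Q = 0 → f Q = 0)
    (M : X.Modules) (hM : Coh.IsCoh M) :
    f M = Rank.grank M • f (Coh.structureModule X) := by
  have hO1 : FlatMod.IsFinLocFreeOfRank 1 (Coh.structureModule X) :=
    TensorMod.LocFree.of_isInvertible (PicLoc.isInvertible_structureModule X)
  have hOc := Coherent.isCoh (TensorMod.LocFree.of_rank hO1)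
  have hOT := Coherent.isTorsionFree (TensorMod.LocFree.of_rank hO1)
  have hOg := Rank.grank_eq_of_rank hO1
  suffices H : ∀ (r : ℕ) (M : X.Modules), Coh.IsCoh M → Rank.grank M = r →
      f M = r • f (Coh.structureModule X) from H _ M hM rfl
  clear! M
  intro r
  induction r with
  | zero => intro M hM hr; rw [zero_smul]; exact h0 M hM hr
  | succ n ih =>
    intro M hM hr
    obtain ⟨T, q, _, hT, hTT, hq⟩ := Saturation.exists_torsionFree_quotient M hM
    have hqK := CohBasics.Closure.isCoh_kernel q hM hT.1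
    have hq₁ : (ShortComplex.mk (kernel.ι q) q (kernel.condition q)).ShortExact :=
      { exact := ShortComplex.exact_kernel q }
    have hgT : Rank.grank T = n + 1 := by
      rw [← hr]
      refine (LinearEquiv.ofBijective (StalkModule.stalkMapₗ q _) ⟨hq, ?_⟩).finrank_eq.symm
      exact (StalkModule.epi_iff_stalkMapₗ_surjective q).mp inferInstance _
    have e₀ := Rank.grank_add hq₁ hM
    have e₁ := hadd _ hq₁ hqK hM hT
    dsimp only at e₀ e₁
    rw [e₁, h0 _ hqK (by omega), zero_add]
    obtain ⟨G, a, b, _, _, hG, hG1⟩ := exists_line hT hOc hTT hOT (by omega) (by omega)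
    have hca := CohBasics.Closure.isCoh_cokernel a hG.1 hT
    have hcb := CohBasics.Closure.isCoh_cokernel b hG.1 hOc
    have ha : (ShortComplex.mk a (cokernel.π a) (cokernel.condition a)).ShortExact :=
      { exact := ShortComplex.exact_cokernel a }
    have hb : (ShortComplex.mk b (cokernel.π b) (cokernel.condition b)).ShortExact :=
      { exact := ShortComplex.exact_cokernel b }
    have ga := Rank.grank_add ha hT
    have gb := Rank.grank_add hb hOc
    have fa := hadd _ ha hG hT hca
    have fb := hadd _ hb hG hOc hcb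
    dsimp only at ga gb fa fb
    rw [h0 _ hcb (by omega), add_zero] at fb
    rw [fa, ← fb, ih _ hca (by omega), succ_nsmul, add_comm]

end Groth.Agent.Lib.CurveBundle.Devissage
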