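import Groth.Agent.Lib.Exchange.BaseChange
import Groth.Agent.Lib.Modules.AffineHom
import Groth.Agent.Lib.TFNodal.Enlarge
import Groth.Agent.Lib.CurveBundle.EndAlg
import Mathlib.LinearAlgebra.TensorProduct.Basis

/-!
# Morphisms of modules under an extension of the base field
-/

set_option autoImplicit false
set_option linter.style.haveILetI false
universe u

open CategoryTheory CategoryTheory.Limits AlgebraicGeometry Opposite TopologicalSpace
open scoped TensorProduct

noncomputable section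

namespace Groth.Agent.Lib.CurveBundle.HomBC

set_option maxHeartbeats 1000000

open Groth.Agent.Lib ZarCoh.FlatBC
open Groth.Agent.Lib.CechRes.Sec (rho secA toSec ofSec)

variable {k K : Type u} [Field k] [Field K] [Algebra k K] {X X' : Scheme.{u}}
  [X.Over (Spec (CommRingCat.of k))] [X'.Over (Spec (CommRingCat.of K))] {g' : X' ⟶ X}
  (hsq : IsPullback g' (X' ↘ Spec (CommRingCat.of K)) (X ↘ Spec (CommRingCat.of k))
    (Spec.map (CommRingCat.ofHom (algebraMap k K)))) {ι : Type u} (b : Module.Basis ι k K)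

local notation "pX'" => (X' ↘ Spec (CommRingCat.of K))
local notation "pb" => Scheme.Modules.pullback g'

/-- The inverse image of a section. -/
def pr (F : X.Modules) (W : X.Opens) : Γ(F, W) →+ Γ((pb).obj F, g' ⁻¹ᵁ W) :=
  PullbackSections.pbRes g' F (le_refl (g' ⁻¹ᵁ W))

theorem pr_nat {E F : X.Modules} (a : E ⟶ F) (W : X.Opens) (m : Γ(E, W)) :
    ((pb).map a).app (g' ⁻¹ᵁ W) (pr (g' := g') E W m) = pr (g' := g') F W (a.app W m) := by
  let u := Scheme.Modules.pullbackPushforwardAdjunction g'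
  have hn := congrArg (fun ψ => ψ.app W m) (u.unit.naturality a)
  have h2 : ∀ (M : X.Modules) (v : Γ(M, W)), pr (g' := g') M W v = (u.unit.app M).app W v := fun M v => by
    show ((pb).obj M).presheaf.map (𝟙 _) ((u.unit.app M).app W v) = _
    rw [CategoryTheory.Functor.map_id]
    rfl
  rw [h2, h2]
  exact hn.symm

theorem pr_ext {E : X.Modules} {N : X'.Modules} {φ ψ : (pb).obj E ⟶ N}
    (h : ∀ (W : X.affineOpens) (m : Γ(E, W.1)),
      φ.app (g' ⁻¹ᵁ W.1) (pr (g' := g') E W.1 m) = ψ.app (g' ⁻¹ᵁ W.1) (pr (g' := g') E W.1 m)) : φ = ψ := by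
  let u := Scheme.Modules.pullbackPushforwardAdjunction g'
  have h2 : ∀ (W : X.Opens) (v : Γ(E, W)), pr (g' := g') E W v = (u.unit.app E).app W v := fun W v => by
    show ((pb).obj E).presheaf.map (𝟙 _) ((u.unit.app E).app W v) = _
    rw [CategoryTheory.Functor.map_id]
    rfl
  refine (u.homEquiv _ _).injective (Modules.AffineHom.hom_ext_affine fun W m => ?_)
  have := h W m
  rw [h2] at this
  rw [u.homEquiv_unit, u.homEquiv_unit]
  exact this

include hsq in
theorem exists_coeffs (F : X.Modules) [F.IsQuasicoherent] (W : X.affineOpens)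
    (x : Γ((pb).obj F, g' ⁻¹ᵁ W.1)) : ∃! n : ι →₀ Γ(F, W.1),
      x = n.sum fun i v => rho pX' (g' ⁻¹ᵁ W.1) (b i) • pr (g' := g') F W.1 v := by
  classical
  letI : Module k ((secA pX' (g' ⁻¹ᵁ W.1)).obj ((pb).obj F)) := Module.compHom _ (algebraMap k K)
  haveI : IsScalarTower k K ((secA pX' (g' ⁻¹ᵁ W.1)).obj ((pb).obj F)) :=
    IsScalarTower.of_algebraMap_smul fun _ _ => rfl
  have hbij := ZarCoh.Exchange.BaseChange.bijective_sections hsq F W.2 (rfl : g' ⁻¹ᵁ W.1 = g' ⁻¹ᵁ W.1)
  let p := X ↘ Spec (CommRingCat.of k)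
  let e := TensorProduct.equivFinsuppOfBasisLeft (R := k) (M := K) (N := ((secA p W.1).obj F : Type u)) b
  let T := (LinearMap.liftBaseChange K (R := k) (M := (secA p W.1).obj F)
      (N := (secA pX' (g' ⁻¹ᵁ W.1)).obj ((pb).obj F))
      { toFun := fun n => toSec pX' (pr (g' := g') F W.1 (ofSec p n))
        map_add' := fun _ _ => map_add _ _ _
        map_smul' := fun a n => ZarCoh.Exchange.BaseChange.pbRes_rho hsq F (le_refl (g' ⁻¹ᵁ W.1)) a n })
  have hT : Function.Bijective T := hbij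
  have key : ∀ n : ι →₀ ((secA p W.1).obj F : Type u),
      (T (e.symm n) : Γ((pb).obj F, g' ⁻¹ᵁ W.1)) =
        n.sum fun i v => rho pX' (g' ⁻¹ᵁ W.1) (b i) • pr (g' := g') F W.1 (ofSec p v) := fun n => by
    induction n using Finsupp.induction_linear with
    | zero =>
      rw [map_zero, map_zero, Finsupp.sum_zero_index]
      rfl
    | add n n' h h' =>
      rw [map_add, map_add, Finsupp.sum_add_index' (fun i => by
          show _ • pr (g' := g') F W.1 (0 : Γ(F, W.1)) = 0
          rw [map_zero, smul_zero])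
        (fun i v v' => by
          show _ • pr (g' := g') F W.1 (ofSec p v + ofSec p v') = _
          rw [map_add, smul_add]), ← h, ← h']
      rfl
    | single i v =>
      rw [Finsupp.sum_single_index (by
        show _ • pr (g' := g') F W.1 (0 : Γ(F, W.1)) = 0
        rw [map_zero, smul_zero])]
      have : e.symm (Finsupp.single i v) = b i ⊗ₜ v := by
        refine e.symm_apply_eq.2 (Finsupp.ext fun j => ?_)
        classical
        rw [TensorProduct.equivFinsuppOfBasisLeft_apply_tmul_apply, b.repr_self]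
        simp only [Finsupp.single_apply]
        split_ifs <;> simp
      rw [this, LinearMap.liftBaseChange_tmul]
      rfl
  obtain ⟨z, hz⟩ := hT.2 (toSec pX' x)
  refine ⟨e z, ?_, fun n hn => ?_⟩
  · have := key (e z)
    rw [e.symm_apply_apply, hz] at this
    exact this
  · refine (e.symm_apply_eq.1 (hT.1 ?_))
    rw [hz]
    exact (key n).trans hn.symm

include hsq in
/-- A morphism after extension of the base field is a combination of morphisms over the base. -/
theorem exists_sum [CompactSpace X] {E F : X.Modules} (hE : Coh.IsCoh E) [F.IsQuasicoherent]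
    (φ : (pb).obj E ⟶ (pb).obj F) :
    ∃ (s : Finset ι) (a : ι → (E ⟶ F)),
      φ = ∑ i ∈ s, (pb).map (a i) ≫ EndAlg.scal ((pb).obj F) (EndAlg.cst X' K (b i)) := by
  classical
  choose n hn huniq using fun (W : X.affineOpens) (x : Γ((pb).obj F, g' ⁻¹ᵁ W.1)) =>
    exists_coeffs hsq b F W x
  let S : ∀ W : X.affineOpens, (ι →₀ Γ(F, W.1)) → Γ((pb).obj F, g' ⁻¹ᵁ W.1) := fun W v =>
    v.sum fun i v => rho pX' (g' ⁻¹ᵁ W.1) (b i) • pr (g' := g') F W.1 v
  have hS0 : ∀ (W : X.affineOpens) i, rho pX' (g' ⁻¹ᵁ W.1) (b i) • pr (g' := g') F W.1 (0 : Γ(F, W.1)) = 0 :=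
    fun W i => by rw [map_zero, smul_zero]
  have hSadd : ∀ W v v', S W (v + v') = S W v + S W v' := fun W v v' =>
    Finsupp.sum_add_index' (hS0 W) (fun i x y => by rw [map_add, smul_add])
  let c : ∀ W : X.affineOpens, Γ(E, W.1) → (ι →₀ Γ(F, W.1)) := fun W m =>
    n W (φ.app (g' ⁻¹ᵁ W.1) (pr (g' := g') E W.1 m))
  have hc : ∀ W m, φ.app (g' ⁻¹ᵁ W.1) (pr (g' := g') E W.1 m) = S W (c W m) := fun W m => hn W _
  have hu : ∀ W m v, φ.app (g' ⁻¹ᵁ W.1) (pr (g' := g') E W.1 m) = S W v → v = c W m := fun W m v h => huniq W _ v h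
  have cadd : ∀ W m m', c W (m + m') = c W m + c W m' := fun W m m' =>
    (hu W _ _ (by rw [hSadd, ← hc, ← hc, map_add, map_add])).symm
  have csmul : ∀ W (r : Γ(X, W.1)) m, c W (r • m) = (c W m).mapRange (r • ·) (smul_zero r) := fun W r m => by
    refine (hu W _ _ ?_).symm
    rw [show pr (g' := g') E W.1 (r • m) = g'.appLE W.1 (g' ⁻¹ᵁ W.1) le_rfl r • pr (g' := g') E W.1 m from
      PullbackSections.pbRes_smul g' E le_rfl r m, Scheme.Modules.Hom.app_smul, hc]
    simp only [S]
    rw [Finsupp.sum_mapRange_index (hS0 W), Finsupp.smul_sum]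
    refine Finsupp.sum_congr fun i _ => ?_
    rw [show pr (g' := g') F W.1 (r • c W m i) = g'.appLE W.1 (g' ⁻¹ᵁ W.1) le_rfl r • pr (g' := g') F W.1 (c W m i) from
      PullbackSections.pbRes_smul g' F le_rfl r _, smul_smul, smul_smul, mul_comm]
  have cres : ∀ (U V : X.affineOpens) (h : V.1 ≤ U.1) m,
      (c U m).mapRange (TensorMod.Dual.rs F h) (map_zero _) = c V (TensorMod.Dual.rs E h m) := fun U V h m => by
    refine hu V _ _ ?_
    have h' : g' ⁻¹ᵁ V.1 ≤ g' ⁻¹ᵁ U.1 := Scheme.Hom.preimage_mono g' h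
    have e1 : pr (g' := g') E V.1 (TensorMod.Dual.rs E h m) = TensorMod.Dual.rs _ h' (pr (g' := g') E U.1 m) :=
      (ZarCoh.Exchange.BaseChange.pbRes_res E h h' le_rfl le_rfl m).symm
    rw [e1, Modules.TensorSec.app_rs, hc]
    simp only [S]
    rw [Finsupp.sum_mapRange_index (hS0 V)]
    refine (map_sum (((pb).obj F).presheaf.map (homOfLE h').op).hom _ _).trans (Finset.sum_congr rfl fun i _ => ?_)
    show TensorMod.Dual.rs ((pb).obj F) h' _ = _
    beta_reduce
    rw [TensorMod.Dual.rs_smul, show pr (g' := g') F V.1 (TensorMod.Dual.rs F h (c U m i)) =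
      TensorMod.Dual.rs _ h' (pr (g' := g') F U.1 (c U m i)) from
      (ZarCoh.Exchange.BaseChange.pbRes_res F h h' le_rfl le_rfl _).symm]
    congr 1
    exact CechRes.Sec.rho_res pX' h' (b i)
  have hex : ∀ i, ∃ a : E ⟶ F, ∀ (U : X.affineOpens) (m : Γ(E, U.1)), a.app U.1 m = c U m i := fun i =>
    Modules.AffineHom.exists_hom_of_affine
      (fun U => { toFun := fun m => c U m i
                  map_add' := fun m m' => by rw [cadd]; rfl
                  map_smul' := fun r m => by rw [csmul]; rfl })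
      (fun U V h m => by
        show TensorMod.Dual.rs F h (c U m i) = c V (TensorMod.Dual.rs E h m) i
        rw [← cres U V h m]
        rfl)
  choose a ha using hex
  -- finitely many indices suffice
  obtain ⟨t, ht, hcov⟩ := isCompact_and_isOpen_iff_finite_and_eq_biUnion_affineOpens.mp
    ⟨(isCompact_univ : IsCompact (Set.univ : Set X)), isOpen_univ⟩
  have hfg : ∀ U : X.affineOpens, ∃ (m : ℕ) (g : Fin m → Γ(E, U.1)),
      Submodule.span Γ(X, U.1) (Set.range g) = ⊤ := fun U => by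
    haveI := CohBasics.Closure.finite_sections hE U.2
    exact Module.Finite.exists_fin
  choose m g hg using hfg
  let s : Finset ι := ht.toFinset.biUnion fun U => Finset.univ.biUnion fun j => (c U (g U j)).support
  have hzero : ∀ i, i ∉ s → a i = 0 := fun i hi => by
    haveI := hE.1
    refine Modules.StalkModule.hom_ext_stalkMapₗ fun x => ?_
    obtain ⟨U, hUt, hxU⟩ : ∃ U ∈ t, x ∈ (U : X.affineOpens).1 := by
      have : x ∈ (Set.univ : Set X) := trivial
      rw [hcov] at this
      simpa using this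
    refine LinearMap.ext_on (TFNodal.Enlarge.span_germ_eq_top U.2 (hg U) hxU) ?_
    rintro _ ⟨j, rfl⟩
    rw [Modules.StalkModule.stalkMapₗ_zero, LinearMap.zero_apply]
    show Modules.StalkModule.stalkMapₗ (a i) x (E.presheaf.germ U.1 x hxU (g U j)) = 0
    rw [Modules.StalkModule.stalkMapₗ_germ, ha]
    have : c U (g U j) i = 0 := Finsupp.notMem_support_iff.1 fun h => hi
      (Finset.mem_biUnion.2 ⟨U, ht.mem_toFinset.2 hUt, Finset.mem_biUnion.2 ⟨j, Finset.mem_univ _, h⟩⟩)
    rw [this, map_zero]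
  refine ⟨s, a, pr_ext fun W v => ?_⟩
  have hsum : ∀ (f : ι → ((pb).obj E ⟶ (pb).obj F)) (T : Finset ι) (y : Γ((pb).obj E, g' ⁻¹ᵁ W.1)),
      (∑ i ∈ T, f i).app (g' ⁻¹ᵁ W.1) y = ∑ i ∈ T, (f i).app (g' ⁻¹ᵁ W.1) y := fun f T y => by
    induction T using Finset.induction_on with
    | empty => rfl
    | insert i T hi ih => rw [Finset.sum_insert hi, Finset.sum_insert hi, ← ih]; rfl
  rw [hc, hsum]
  have hsub : (c W v).support ⊆ s := fun i hi => by
    by_contra h
    have h0 : c W v i = 0 := by rw [← ha, hzero i h]; rfl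
    exact Finsupp.mem_support_iff.1 hi h0
  simp only [S]
  rw [Finsupp.sum_of_support_subset _ hsub _ (fun i _ => hS0 W i)]
  refine Finset.sum_congr rfl fun i _ => ?_
  rw [Scheme.Modules.Hom.comp_app, CategoryTheory.comp_apply, pr_nat, ha, EndAlg.scal_app]
  rfl

include hsq in
/-- Inverse image of the constants. -/
theorem map_scal (F : X.Modules) (c : k) :
    (pb).map (EndAlg.scal F (EndAlg.cst X k c)) = EndAlg.scal _ (EndAlg.cst X' K (algebraMap k K c)) := by
  refine pr_ext fun W m => ?_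
  rw [pr_nat, EndAlg.scal_app, EndAlg.scal_app]
  exact ZarCoh.Exchange.BaseChange.pbRes_rho hsq F (le_refl (g' ⁻¹ᵁ W.1)) c m

include hsq in
/-- The coefficients are unique. -/
theorem sum_eq_zero {E F : X.Modules} [F.IsQuasicoherent] (s : Finset ι) (a : ι → (E ⟶ F))
    (h : ∑ i ∈ s, (pb).map (a i) ≫ EndAlg.scal ((pb).obj F) (EndAlg.cst X' K (b i)) = 0) :
    ∀ i ∈ s, a i = 0 := by
  classical
  intro i hi
  refine Modules.AffineHom.hom_ext_affine fun W m => ?_
  obtain ⟨n, -, huniq⟩ := exists_coeffs hsq b F W (0 : Γ((pb).obj F, g' ⁻¹ᵁ W.1))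
  let v : ι →₀ Γ(F, W.1) := ∑ j ∈ s, Finsupp.single j ((a j).app W.1 m)
  have h0 : ∀ j, rho pX' (g' ⁻¹ᵁ W.1) (b j) • pr (g' := g') F W.1 (0 : Γ(F, W.1)) = 0 := fun j => by
    rw [map_zero, smul_zero]
  have e1 : (0 : Γ((pb).obj F, g' ⁻¹ᵁ W.1)) = v.sum fun j x => rho pX' (g' ⁻¹ᵁ W.1) (b j) • pr (g' := g') F W.1 x := by
    have hsum : ∀ (f : ι → ((pb).obj E ⟶ (pb).obj F)) (T : Finset ι) (y : Γ((pb).obj E, g' ⁻¹ᵁ W.1)),
        (∑ i ∈ T, f i).app (g' ⁻¹ᵁ W.1) y = ∑ i ∈ T, (f i).app (g' ⁻¹ᵁ W.1) y := fun f T y => by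
      induction T using Finset.induction_on with
      | empty => rfl
      | insert i T hi ih => rw [Finset.sum_insert hi, Finset.sum_insert hi, ← ih]; rfl
    have := congrArg (fun φ : (pb).obj E ⟶ (pb).obj F => φ.app (g' ⁻¹ᵁ W.1) (pr (g' := g') E W.1 m)) h
    simp only at this
    rw [hsum] at this
    rw [show v = ∑ j ∈ s, Finsupp.single j ((a j).app W.1 m) from rfl,
      ← Finsupp.sum_finsetSum_index h0 (fun j x y => by rw [map_add, smul_add])]
    refine this.symm.trans (Finset.sum_congr rfl fun j _ => ?_)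
    rw [Finsupp.sum_single_index (h0 j), Scheme.Modules.Hom.comp_app, CategoryTheory.comp_apply, pr_nat,
      EndAlg.scal_app]
    rfl
  have hv : v = 0 := (huniq v e1).trans (huniq 0 Finsupp.sum_zero_index.symm).symm
  have := DFunLike.congr_fun hv i
  simp only [v, Finsupp.finsetSum_apply, Finsupp.single_apply, Finset.sum_ite_eq', hi, if_true,
    Finsupp.coe_zero, Pi.zero_apply] at this
  rw [this]
  rfl

end Groth.Agent.Lib.CurveBundle.HomBC
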