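import Groth.Agent.Lib.CurveBundle.FiniteLocal
import Groth.Agent.Lib.CurveBundle.HomBC
import Groth.Agent.Lib.CurveBundle.AutCount
import Groth.Agent.Lib.CurveBundle.HomDeg
import Groth.Agent.Lib.CurveBundle.Indec
import Mathlib.RingTheory.Polynomial.GaussLemma
import Mathlib.RingTheory.AdjoinRoot
import Mathlib.Algebra.Polynomial.Degree.Domain

/-!
# Endomorphisms of indecomposable bundles of prime rank over finite fields
-/

set_option autoImplicit false
set_option linter.style.haveILetI false
universe u

open CategoryTheory CategoryTheory.Limits AlgebraicGeometry Opposite TopologicalSpace Polynomial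

noncomputable section

namespace Groth.Agent.Lib.CurveBundle.EndField

open Groth.Agent.Lib Degree
open Groth.Agent.Lib.Modules.StalkModule (stalkMapₗ)

variable (k : Type u) [Field k] {X : Scheme.{u}} [X.Over (Spec (CommRingCat.of k))] [hC : CurveCtx k X]

include hC

/-- Morphisms between bundles form a finite set over a finite field. -/
theorem finite_hom [IsProper (X ↘ Spec (CommRingCat.of k))] [Finite k] {q n : ℕ} {Q F : X.Modules} (hQ : FlatMod.IsFinLocFreeOfRank q Q)
    (hF : FlatMod.IsFinLocFreeOfRank n F) : Finite (Q ⟶ F) := by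
  obtain ⟨hb, -⟩ := HomDeg.hom_facts (k := k) hQ n F hF
  haveI := hC.locNoeth
  have hc : Coh.IsCoh (_root_.RefHull.homSh Q F) := Coherent.isCoh (TensorMod.LocFree.of_rank hb)
  haveI := (hC.good _ hc).fin₀
  haveI := Module.finite_of_finite k (M := Coh.HH X (_root_.RefHull.homSh Q F) 0)
  letI := Curves.GlobalSections.secModule k (_root_.RefHull.homSh Q F)
  haveI : Finite Γ(_root_.RefHull.homSh Q F, ⊤) :=
    Finite.of_equiv _ (Curves.GlobalSections.h0Linear k (_root_.RefHull.homSh Q F)).toEquiv
  exact Finite.of_injective (fun φ : Q ⟶ F => (HomSheaf.Basic.topEquiv φ : Γ(_root_.RefHull.homSh Q F, ⊤)))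
    (fun a b h => HomSheaf.Basic.topEquiv.injective h)

/-- The constants in the function field. -/
def κ : k →+* X.presheaf.stalk (letI := hC.integral; genericPoint X) :=
  letI := hC.integral
  (X.presheaf.germ ⊤ (genericPoint X) trivial).hom.comp (EndAlg.cst X k)

/-- The constants are algebraically closed in the function field. -/
theorem mem_range_of_isIntegral (hs : Function.Surjective (EndAlg.cst X k))
    (g : X.presheaf.stalk (letI := hC.integral; genericPoint X))
    (hg : letI := (κ k (X := X)).toAlgebra; _root_.IsIntegral k g) :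
    ∃ c : k, κ k c = g := by
  letI := hC.integral
  haveI := hC.locNoeth
  letI : Field (X.presheaf.stalk (genericPoint X)) := inferInstanceAs (Field X.functionField)
  have key : ∀ x : X, ∃ (W : X.Opens) (_ : x ∈ W) (s : Γ(X, W)),
      X.presheaf.germ W (genericPoint X) (LocFree.generic_mem ‹_›) s = g := by
    intro x
    haveI := hC.pid x
    letI := ((X.presheaf.germ ⊤ x trivial).hom.comp (EndAlg.cst X k)).toAlgebra
    letI : Algebra k X.functionField := (κ k (X := X)).toAlgebra
    haveI : IsScalarTower k (X.presheaf.stalk x) X.functionField := IsScalarTower.of_algebraMap_eq fun c => by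
      exact (TopCat.Presheaf.germ_stalkSpecializes_apply X.presheaf _ _ _).symm
    have h2 : _root_.IsIntegral (X.presheaf.stalk x) (show X.functionField from g) :=
      IsIntegral.tower_top (R := k) hg
    obtain ⟨y, hy⟩ := IsIntegrallyClosed.algebraMap_eq_of_integral h2
    obtain ⟨W, hW, s, rfl⟩ := TopCat.Presheaf.exists_germ_eq X.presheaf y
    exact ⟨W, hW, s, (TopCat.Presheaf.germ_stalkSpecializes_apply X.presheaf _ _ _).symm.trans hy⟩
  choose W hW s hs' using key
  obtain ⟨t, ht, -⟩ := X.sheaf.existsUnique_gluing' W ⊤ (fun x => homOfLE le_top)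
    (fun x _ => Opens.mem_iSup.mpr ⟨x, hW x⟩) s (fun x y => by
      have hxy : genericPoint X ∈ W x ⊓ W y := ⟨LocFree.generic_mem (hW x), LocFree.generic_mem (hW y)⟩
      refine germ_injective_of_isIntegral X (genericPoint X) hxy ?_
      refine (TopCat.Presheaf.germ_res_apply X.presheaf (Opens.infLELeft (W x) (W y)) _ hxy _).trans
        (Eq.trans ?_ (TopCat.Presheaf.germ_res_apply X.presheaf (Opens.infLERight (W x) (W y)) _ hxy _).symm)
      exact (hs' x).trans (hs' y).symm)
  obtain ⟨c, hc⟩ := hs t
  refine ⟨c, ?_⟩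
  show X.presheaf.germ ⊤ (genericPoint X) trivial (EndAlg.cst X k c) = g
  rw [hc, ← hs' (genericPoint X), ← ht (genericPoint X)]
  exact (TopCat.Presheaf.germ_res_apply X.presheaf _ _ _ t).symm

/-- An irreducible polynomial over the constants stays irreducible over the function field. -/
theorem irreducible_map (hs : Function.Surjective (EndAlg.cst X k)) {f : k[X]} (hm : f.Monic)
    (hf : Irreducible f) :
    letI := hC.integral
    letI : Field (X.presheaf.stalk (genericPoint X)) := inferInstanceAs (Field X.functionField)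
    Irreducible (f.map (κ k (X := X))) := by
  letI := hC.integral
  letI : Field (X.presheaf.stalk (genericPoint X)) := inferInstanceAs (Field X.functionField)
  letI := (κ k (X := X)).toAlgebra
  have hd : (f.map (κ k (X := X))).degree ≠ 0 := by
    rw [degree_map]
    exact fun h => hf.not_isUnit (isUnit_iff_degree_eq_zero.2 h)
  obtain ⟨g, hg, hgm⟩ : ∃ g, Irreducible g ∧ g.Monic ∧ g ∣ f.map (κ k (X := X)) := by
    obtain ⟨g, h1, h2, h3⟩ := Polynomial.exists_monic_irreducible_factor (f.map (κ k (X := X)))
      (fun h => hd (isUnit_iff_degree_eq_zero.1 h))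
    exact ⟨g, h2, h1, h3⟩
  obtain ⟨hgmon, hdvd⟩ := hgm
  obtain ⟨g₁, hg₁⟩ := integralClosure.mem_lifts_of_monic_of_dvd_map _ hm hgmon hdvd
  have hcoeff : ∀ i, ∃ c : k, κ k c = g.coeff i := fun i => by
    refine mem_range_of_isIntegral k hs _ ?_
    rw [← hg₁, Polynomial.coe_mapRingHom, Polynomial.coeff_map]
    exact (g₁.coeff i).2
  obtain ⟨g₀, hg₀, -, hg₀m⟩ := Polynomial.lifts_and_degree_eq_and_monic
    ((Polynomial.lifts_iff_coeff_lifts g).mpr fun i => hcoeff i) hgmon (f := κ k (X := X))
  have hd₀ : g₀ ∣ f := (Polynomial.map_dvd_map' _).1 (hg₀ ▸ hdvd)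
  rcases hf.dvd_iff.1 hd₀ with h | h
  · exact absurd (hg₀ ▸ h.map (Polynomial.mapRingHom (κ k (X := X)))) hg.not_isUnit
  · rw [Polynomial.eq_of_monic_of_associated hm hg₀m h, hg₀]
    exact hg

/-- The generic stalk of an endomorphism, as a ring map. -/
def θ (E : X.Modules) : letI := hC.integral;
    End E →+* Module.End (X.presheaf.stalk (genericPoint X)) (E.presheaf.stalk (genericPoint X)) :=
  letI := hC.integral
  { toFun := fun g => stalkMapₗ g _
    map_one' := Modules.StalkModule.stalkMapₗ_id _
    map_mul' := fun a b => Modules.StalkModule.stalkMapₗ_comp b a _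
    map_zero' := Modules.StalkModule.stalkMapₗ_zero _
    map_add' := fun a b => Modules.StalkModule.stalkMapₗ_add a b _ }

theorem θ_injective {E : X.Modules} {r : ℕ} (hE : FlatMod.IsFinLocFreeOfRank r E) :
    Function.Injective (θ k E) := by
  letI := hC.integral
  refine (injective_iff_map_eq_zero _).2 fun a ha => ?_
  have := Coherent.isQCoh (TensorMod.LocFree.of_rank hE)
  exact Rank.eq_zero_of_generic (Coherent.isTorsionFree (TensorMod.LocFree.of_rank hE)) a ha

set_option maxHeartbeats 2000000 in
/-- An indecomposable bundle of prime rank with a non-scalar endomorphism modulo nilpotents has a field of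
endomorphisms of degree equal to the rank, acting irreducibly on the generic stalk. -/
theorem main [IsProper (X ↘ Spec (CommRingCat.of k))] [Finite k] (hs : Function.Surjective (EndAlg.cst X k))
    {r : ℕ} (hr : r.Prime) {E : X.Modules} (hE : FlatMod.IsFinLocFreeOfRank r E) (hind : Indec.Indecomposable E)
    (hng : ∃ a : End E, ∀ c : k, ¬ IsNilpotent (a - EndAlg.scalHom E (EndAlg.cst X k c))) :
    letI := EndAlg.algEnd k E
    letI := hC.integral
    ∃ f : k[X], f.Monic ∧ Irreducible f ∧ f.natDegree = r ∧ ∃ e : AdjoinRoot f ≃ₐ[k] End E,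
      ∀ P : (X.presheaf.stalk (genericPoint X))[X], P ≠ 0 → P.natDegree < r →
        Function.Injective (Polynomial.aeval (θ k E (e (AdjoinRoot.root f))) P) := by
  classical
  letI := hC.integral
  haveI := hC.locNoeth
  letI := EndAlg.algEnd k E
  letI : Field (X.presheaf.stalk (genericPoint X)) := inferInstanceAs (Field X.functionField)
  haveI := finite_hom k hE hE
  haveI : Finite (End E) := inferInstanceAs (Finite (E ⟶ E))
  haveI : Nontrivial (End E) := ⟨⟨1, 0, fun h10 => hind.1 ((IsZero.iff_id_eq_zero E).mpr h10)⟩⟩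
  have hid : ∀ e : End E, IsIdempotentElem e → e = 0 ∨ e = 1 := fun e he =>
    Indec.idempotent_trivial hind e he.eq
  obtain ⟨D, _, _, _, π, σ, hπσ, hπ⟩ := FiniteLocal.exists_residue hid k
  letI : Fintype D := Fintype.ofFinite D
  haveI : Module.Finite k D := Module.Finite.of_finite
  obtain ⟨g, hg⟩ := IsCyclic.exists_generator (α := Dˣ)
  let f := minpoly k (g : D)
  have hfm : f.Monic := minpoly.monic (Algebra.IsIntegral.isIntegral _)
  have hfi : Irreducible f := minpoly.irreducible (Algebra.IsIntegral.isIntegral _)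
  haveI : Fact (Irreducible f) := ⟨hfi⟩
  -- the lifted field inside the endomorphisms
  let τ : End E := σ (g : D)
  have hτ : Polynomial.aeval τ f = 0 := by
    rw [show τ = σ (g : D) from rfl, Polynomial.aeval_algHom_apply, minpoly.aeval, map_zero]
  let φ : Module.End (X.presheaf.stalk (genericPoint X)) (E.presheaf.stalk (genericPoint X)) := θ k E τ
  let ι : End E →+* Module.End (X.presheaf.stalk (genericPoint X)) (E.presheaf.stalk (genericPoint X)) := θ k E
  have hθalg : ι.comp (algebraMap k (End E)) = (algebraMap (X.presheaf.stalk (genericPoint X)) (Module.End (X.presheaf.stalk (genericPoint X)) (E.presheaf.stalk (genericPoint X)))).comp (κ k (X := X)) := by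
    refine RingHom.ext fun c => LinearMap.ext fun v => ?_
    exact EndAlg.stalk_scal E _ _ v
  have haev : ∀ q : k[X], ι (Polynomial.aeval τ q) = Polynomial.aeval φ (q.map (κ k (X := X))) := fun q => by
    rw [Polynomial.aeval_def, Polynomial.hom_eval₂, hθalg, Polynomial.aeval_def, Polynomial.eval₂_map]
  have hφ : Polynomial.aeval φ (f.map (κ k (X := X))) = 0 := by rw [← haev, hτ, map_zero]
  have hirr := irreducible_map k hs hfm hfi
  haveI : Fact (Irreducible (f.map (κ k (X := X)))) := ⟨hirr⟩
  have hinj : ∀ P : (X.presheaf.stalk (genericPoint X))[X], P ≠ 0 → P.natDegree < f.natDegree → Function.Injective (Polynomial.aeval φ P) := by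
    intro P hP hdeg
    have hcop : IsCoprime (f.map (κ k (X := X))) P := by
      refine hirr.coprime_iff_not_dvd.2 fun h => ?_
      have := Polynomial.natDegree_le_of_dvd h hP
      rw [hfm.natDegree_map] at this
      omega
    obtain ⟨a, b, hab⟩ := hcop
    have h1 := congrArg (Polynomial.aeval φ) hab
    rw [map_add, map_mul, map_mul, hφ, mul_zero, zero_add, map_one] at h1
    intro v w h
    have := congrArg (Polynomial.aeval φ b) h
    rwa [← Module.End.mul_apply, ← Module.End.mul_apply, h1, Module.End.one_apply, Module.End.one_apply] at this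
  -- `(E.presheaf.stalk (genericPoint X))` over the extension of the function field
  let L := AdjoinRoot (f.map (κ k (X := X)))
  let ρ : L →+* Module.End (X.presheaf.stalk (genericPoint X)) (E.presheaf.stalk (genericPoint X)) :=
    Ideal.Quotient.lift (Ideal.span {f.map (κ k (X := X))}) (Polynomial.aeval φ).toRingHom fun P hP => by
      obtain ⟨R, rfl⟩ := Ideal.mem_span_singleton.1 hP
      show Polynomial.aeval φ _ = 0
      rw [map_mul, hφ, zero_mul]
  have hρmk : ∀ P, ρ (AdjoinRoot.mk _ P) = Polynomial.aeval φ P := fun P => rfl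
  letI : Module L (E.presheaf.stalk (genericPoint X)) := Module.compHom _ ρ
  haveI : IsScalarTower (X.presheaf.stalk (genericPoint X)) L (E.presheaf.stalk (genericPoint X)) :=
    IsScalarTower.of_algebraMap_smul fun c v => by
      show ρ (AdjoinRoot.mk _ (Polynomial.C c)) v = c • v
      rw [hρmk, Polynomial.aeval_C]
      rfl
  obtain ⟨bV⟩ := Coherent.exists_basis_stalk hE (genericPoint X)
  haveI : Module.Finite (X.presheaf.stalk (genericPoint X)) (E.presheaf.stalk (genericPoint X)) := Module.Finite.of_basis bV
  have hV : Module.finrank (X.presheaf.stalk (genericPoint X)) (E.presheaf.stalk (genericPoint X)) = r := by rw [Module.finrank_eq_card_basis bV, Fintype.card_fin]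
  have hL : Module.finrank (X.presheaf.stalk (genericPoint X)) L = f.natDegree := by
    rw [(AdjoinRoot.powerBasis hirr.ne_zero).finrank, AdjoinRoot.powerBasis_dim, hfm.natDegree_map]
  have hmul := Module.finrank_mul_finrank (X.presheaf.stalk (genericPoint X)) L (E.presheaf.stalk (genericPoint X))
  rw [hL, hV] at hmul
  -- the generator generates the residue field
  have hgen : Algebra.adjoin k ({(g : D)} : Set D) = ⊤ := by
    refine eq_top_iff.2 fun d _ => ?_
    by_cases hd : d = 0
    · rw [hd]; exact zero_mem _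
    obtain ⟨j, hj⟩ := (isOfFinOrder_of_finite g).mem_powers_iff_mem_zpowers.2 (hg (Units.mk0 d hd))
    rw [show d = (g : D) ^ j by rw [← Units.val_pow_eq_pow_val]; exact (congrArg Units.val hj).symm]
    exact Subalgebra.pow_mem _ (Algebra.self_mem_adjoin_singleton k _) j
  have hdeg : f.natDegree ≠ 1 := by
    intro h1
    obtain ⟨a, ha⟩ := hng
    have hmem : (g : D) ∈ (algebraMap k D).range := minpoly.natDegree_eq_one_iff.1 h1
    have hbot : Algebra.adjoin k ({(g : D)} : Set D) ≤ ⊥ := by
      refine Algebra.adjoin_le ?_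
      intro z hz
      rw [Set.mem_singleton_iff.1 hz]
      obtain ⟨c, hc⟩ := hmem
      exact Algebra.mem_bot.2 ⟨c, hc⟩
    obtain ⟨c, hc⟩ := Algebra.mem_bot.1 (hbot (hgen.symm ▸ Algebra.mem_top : π a ∈ _))
    exact ha c ((hπ _).1 (by
      rw [map_sub]
      exact sub_eq_zero.2 (hc.symm.trans (π.commutes c).symm)))
  have hd : f.natDegree = r := ((Nat.dvd_prime hr).1 ⟨_, hmul.symm⟩).resolve_left hdeg
  have hrank : Module.finrank L (E.presheaf.stalk (genericPoint X)) = 1 := by
    rw [hd] at hmul
    exact (Nat.mul_eq_left hr.ne_zero).1 hmul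
  -- no nilpotents
  have hzero : ∀ a : End E, IsNilpotent a → a = 0 := by
    intro a ha
    by_contra ha0
    obtain ⟨w, hw0, hwker⟩ : ∃ w : End E, w ≠ 0 ∧ ∀ x, IsNilpotent x → x * w = 0 := by
      by_contra hno
      push Not at hno
      have : ∀ n, ∃ w ∈ FiniteLocal.nprod (End E) n, w ≠ 0 := by
        intro n
        induction n with
        | zero => exact ⟨1, rfl, one_ne_zero⟩
        | succ n ih =>
          obtain ⟨w, hw, hw0⟩ := ih
          obtain ⟨x, hx, hxw⟩ := hno w hw0
          exact ⟨x * w, ⟨x, w, hx, hw, rfl⟩, hxw⟩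
      obtain ⟨w, hw, hw0⟩ := this (Nat.card (End E))
      exact hw0 (FiniteLocal.nprod_eq_zero hid w hw)
    let U : Submodule L (E.presheaf.stalk (genericPoint X)) :=
      { carrier := {v | ∀ x, IsNilpotent x → ι x v = 0}
        add_mem' := fun hv hv' x hx => by rw [map_add, hv x hx, hv' x hx, add_zero]
        zero_mem' := fun x _ => map_zero _
        smul_mem' := fun l v hv => by
          obtain ⟨P, rfl⟩ := AdjoinRoot.mk_surjective l
          intro x hx
          show ι x (ρ (AdjoinRoot.mk _ P) v) = 0
          rw [hρmk]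
          have hpow : ∀ n : ℕ, ι x ((φ ^ n) v) = 0 := by
            intro n
            rw [← Module.End.mul_apply, show φ ^ n = ι (τ ^ n) from (map_pow ι τ n).symm, ← map_mul]
            exact hv _ (FiniteLocal.nilp_mul_right hid hx)
          rw [Polynomial.aeval_eq_sum_range, LinearMap.sum_apply, map_sum]
          exact Finset.sum_eq_zero fun n _ => by rw [LinearMap.smul_apply, map_smul, hpow, smul_zero] }
    obtain ⟨v, hv⟩ : ∃ v, ι w v ≠ 0 := by
      by_contra hno
      push Not at hno
      exact hw0 (θ_injective k hE (LinearMap.ext fun v => (hno v).trans (LinearMap.congr_fun (map_zero ι) v).symm))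
    haveI : Module.Finite L (E.presheaf.stalk (genericPoint X)) := Module.Finite.of_restrictScalars_finite (X.presheaf.stalk (genericPoint X)) L (E.presheaf.stalk (genericPoint X))
    have hU : U = ⊤ := by
      have hne : U ≠ ⊥ := fun h => hv (by
        have : ι w v ∈ U := fun x hx => by
          rw [← Module.End.mul_apply, ← map_mul, hwker x hx, map_zero]; rfl
        rw [h, Submodule.mem_bot] at this
        exact this)
      refine Submodule.eq_top_of_finrank_eq (le_antisymm (Submodule.finrank_le U) ?_)
      rw [hrank]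
      exact Nat.one_le_iff_ne_zero.2 fun h => hne (Submodule.finrank_eq_zero.1 h)
    refine ha0 (θ_injective k hE (LinearMap.ext fun u => ?_))
    have : u ∈ U := hU ▸ Submodule.mem_top
    exact (this a ha).trans (LinearMap.congr_fun (map_zero ι) u).symm
  have hσ : ∀ a : End E, σ (π a) = a := fun a =>
    sub_eq_zero.1 (hzero _ ((hπ _).1 (by rw [map_sub, hπσ, sub_self])))
  let e₀ : AdjoinRoot f ≃ₐ[k] D :=
    AlgEquiv.ofBijective (AdjoinRoot.liftAlgHom f (Algebra.ofId k D) (g : D) (minpoly.aeval k (g : D)))
      ⟨RingHom.injective _, fun d => by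
        have hd' : d ∈ Algebra.adjoin k ({(g : D)} : Set D) := hgen.symm ▸ Algebra.mem_top
        rw [Algebra.adjoin_singleton_eq_range_aeval] at hd'
        obtain ⟨q, hq⟩ := hd'
        exact ⟨AdjoinRoot.mk f q, (AdjoinRoot.liftAlgHom_mk _ _ _ _ _).trans hq⟩⟩
  let e₁ : D ≃ₐ[k] End E := AlgEquiv.ofBijective σ ⟨fun a b h => by rw [← hπσ a, ← hπσ b, h], fun a => ⟨π a, hσ a⟩⟩
  refine ⟨f, hfm, hfi, hd, e₀.trans e₁, fun P hP hdeg' => ?_⟩
  have hroot : (e₀.trans e₁) (AdjoinRoot.root f) = τ := by
    show σ (e₀ (AdjoinRoot.root f)) = τ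
    exact congrArg σ (AdjoinRoot.liftAlgHom_root f (Algebra.ofId k D) _ (minpoly.aeval k (g : D)))
  rw [hroot]
  exact hinj P hP (hd.symm ▸ hdeg')

end Groth.Agent.Lib.CurveBundle.EndField
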