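import Groth.Agent.Lib.CurveBundle.WeilFinite
import Groth.Agent.Lib.TensorMod.Invertible

/-!
# Weil finiteness and sums, products, retracts; line bundles
-/

set_option autoImplicit false
universe u

open CategoryTheory Limits AlgebraicGeometry

namespace Groth.Agent.Lib.CurveBundle.WeilFiniteOps

open Groth.Agent.Lib KrullSchmidt WeilFinite

variable {X : Scheme.{u}} [HasLocalEnd X]

/-- A retract's tensor powers are retracts. -/
lemma retract_pow {A E : X.Modules} (h : IsRetract A E) :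
    ∀ n, IsRetract (CohB1.tensorPow A n) (CohB1.tensorPow E n)
  | 0 => isRetract_of_iso (Iso.refl _)
  | n + 1 => by
    obtain ⟨i, r, hir⟩ := h
    obtain ⟨j, s, hjs⟩ := retract_pow ⟨i, r, hir⟩ n
    exact ⟨TensorMod.Basic.tmap j i, TensorMod.Basic.tmap s r,
      (TensorMod.Basic.tmap_comp j s i r).symm.trans
        ((congrArg₂ TensorMod.Basic.tmap hjs hir).trans (TensorMod.Basic.tmap_id _ _))⟩

lemma dec_subset_of_retract {A E : X.Modules} (hE : Vb E) (h : IsRetract A E) {c : C X}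
    (hc : c ∈ dec A) : c ∈ dec E := by
  obtain ⟨T, rfl, hT, hTA⟩ := mem_dec (hE.retract h) hc
  exact cls_mem_dec hE hT (hTA.trans h)

/-- A retract of a Weil-finite bundle is Weil finite. -/
theorem wf_retract {A E : X.Modules} (hE : Vb E) (h : IsRetract A E) (hw : WF E) : WF A := by
  refine wf_of_finite (hE.retract h) ((finite_S hE hw).subset ?_)
  rintro c ⟨n, hn⟩
  exact ⟨n, dec_subset_of_retract (vb_pow hE n) (retract_pow h n) hn⟩

open scoped Classical in
/-- A finite set closed under tensoring the product of two finite sets of classes. -/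
theorem finite_prod {E₁ E₂ : X.Modules} (h₁ : (S E₁).Finite) (h₂ : (S E₂).Finite) :
    {c : C X | ∃ A B : X.Modules, Vb A ∧ Vb B ∧ cls A ∈ S E₁ ∧ cls B ∈ S E₂ ∧
      c ∈ dec (CohB1.tensorMod A B)}.Finite := by
  let G : C X × C X → Set (C X) := fun p => {c | c ∈ dec (CohB1.tensorMod p.1.out p.2.out)}
  refine ((h₁.prod h₂).biUnion (t := G) fun p _ => ?_).subset ?_
  · exact (dec (CohB1.tensorMod p.1.out p.2.out)).toFinset.finite_toSet.subset
      fun c hc => Multiset.mem_toFinset.mpr hc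
  · rintro c ⟨A, B, hA, hB, hAS, hBS, hc⟩
    obtain ⟨eA⟩ : Nonempty (A ≅ (cls A).out) := Quotient.exact (cls A).out_eq.symm
    obtain ⟨eB⟩ : Nonempty (B ≅ (cls B).out) := Quotient.exact (cls B).out_eq.symm
    refine Set.mem_biUnion (x := (cls A, cls B)) ⟨hAS, hBS⟩ ?_
    show c ∈ dec _
    rwa [← dec_congr (vb_tensor hA hB) (TensorMod.Basic.tensorIso eA eB)]

/-- `(A ⊗ B) ⊗ E ≅ (A ⊗ E) ⊗ B`. -/
noncomputable def rightComm (A B E : X.Modules) :
    CohB1.tensorMod (CohB1.tensorMod A B) E ≅ CohB1.tensorMod (CohB1.tensorMod A E) B :=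
  TensorMod.Basic.assoc A B E ≪≫ TensorMod.Basic.tensorIso (Iso.refl A) (TensorMod.Basic.comm B E) ≪≫
    (TensorMod.Basic.assoc A E B).symm

/-- Membership in `S` propagates to products with `E`. -/
lemma mem_S_tensor {E A : X.Modules} (hE : Vb E) (hA : Vb A) (hAS : cls A ∈ S E) {c : C X}
    (hc : c ∈ dec (CohB1.tensorMod A E)) : c ∈ S E := by
  obtain ⟨n, hn⟩ := hAS
  exact ⟨n + 1, (mem_dec_tensor (vb_pow hE n) hE c).mpr ⟨A, hA, hn, hc⟩⟩

/-- Tensoring a constituent product with the first factor. -/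
lemma mem_prod_step {E₁ A B : X.Modules} (hE₁ : Vb E₁) (hA : Vb A) (hB : Vb B) (hAS : cls A ∈ S E₁)
    {c : C X} (hc : c ∈ dec (CohB1.tensorMod (CohB1.tensorMod A B) E₁)) :
    ∃ A' : X.Modules, Vb A' ∧ cls A' ∈ S E₁ ∧ c ∈ dec (CohB1.tensorMod A' B) := by
  rw [dec_congr (vb_tensor (vb_tensor hA hB) hE₁) (rightComm A B E₁)] at hc
  obtain ⟨A', hA', hA'm, hc'⟩ := (mem_dec_tensor (vb_tensor hA hE₁) hB c).mp hc
  exact ⟨A', hA', mem_S_tensor hE₁ hA hAS hA'm, hc'⟩

lemma mem_swap {A B : X.Modules} (hA : Vb A) (hB : Vb B) {c : C X}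
    (hc : c ∈ dec (CohB1.tensorMod A B)) : c ∈ dec (CohB1.tensorMod B A) := by
  rwa [← dec_congr (vb_tensor hA hB) (TensorMod.Basic.comm A B)]

lemma mem_base {E₁ E₂ : X.Modules} {c : C X} (hc : c ∈ dec (Coh.structureModule X)) :
    ∃ A B : X.Modules, Vb A ∧ Vb B ∧ cls A ∈ S E₁ ∧ cls B ∈ S E₂ ∧
      c ∈ dec (CohB1.tensorMod A B) := by
  obtain ⟨T, rfl, hT, hTO⟩ := mem_dec vb_unit hc
  rw [dec_congr vb_unit (TensorMod.Basic.leftUnit (Coh.structureModule X)).symm] at hc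
  obtain ⟨A, hA, hAm, hc1⟩ := (mem_dec_tensor vb_unit vb_unit _).mp hc
  obtain ⟨B, hB, hBm, hc2⟩ := (mem_dec_tensor vb_unit hA _).mp (mem_swap hA vb_unit hc1)
  exact ⟨A, B, hA, hB, ⟨0, hAm⟩, ⟨0, hBm⟩, mem_swap hB hA hc2⟩

/-- Weil finiteness is stable under direct sums and tensor products. -/
theorem wf_biprod_tensor {E₁ E₂ : X.Modules} (hE₁ : Vb E₁) (hE₂ : Vb E₂) (h₁ : WF E₁) (h₂ : WF E₂) :
    WF (E₁ ⊞ E₂) ∧ WF (CohB1.tensorMod E₁ E₂) := by
  have hfin := finite_prod (finite_S hE₁ h₁) (finite_S hE₂ h₂)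
  constructor
  · refine wf_of_finite (hE₁.biprod hE₂) (hfin.subset ?_)
    rintro c ⟨n, hc⟩
    induction n generalizing c with
    | zero => exact mem_base hc
    | succ n ih =>
      obtain ⟨T, hT, hTn, hcT⟩ := (mem_dec_tensor (vb_pow (hE₁.biprod hE₂) n) (hE₁.biprod hE₂) c).mp hc
      obtain ⟨A, B, hA, hB, hAS, hBS, hTAB⟩ := ih hTn
      have hcAB : c ∈ dec (CohB1.tensorMod (CohB1.tensorMod A B) (E₁ ⊞ E₂)) :=
        (mem_dec_tensor (vb_tensor hA hB) (hE₁.biprod hE₂) c).mpr ⟨T, hT, hTAB, hcT⟩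
      have hAB := vb_tensor hA hB
      obtain ⟨U, hU, hUm, hcU⟩ :=
        (mem_dec_tensor (hE₁.biprod hE₂) hAB c).mp (mem_swap hAB (hE₁.biprod hE₂) hcAB)
      rw [dec_biprod hE₁ hE₂, Multiset.mem_add] at hUm
      rcases hUm with hU1 | hU2
      · obtain ⟨A', hA', hA'S, hc'⟩ := mem_prod_step hE₁ hA hB hAS
          (mem_swap hE₁ hAB ((mem_dec_tensor hE₁ hAB c).mpr ⟨U, hU, hU1, hcU⟩))
        exact ⟨A', B, hA', hB, hA'S, hBS, hc'⟩
      · have h2 := mem_swap hE₂ hAB ((mem_dec_tensor hE₂ hAB c).mpr ⟨U, hU, hU2, hcU⟩)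
        rw [dec_congr (vb_tensor hAB hE₂)
          (TensorMod.Basic.tensorIso (TensorMod.Basic.comm A B) (Iso.refl E₂))] at h2
        obtain ⟨B', hB', hB'S, hc'⟩ := mem_prod_step hE₂ hB hA hBS h2
        exact ⟨A, B', hA, hB', hAS, hB'S, mem_swap hB' hA hc'⟩
  · refine wf_of_finite (vb_tensor hE₁ hE₂) (hfin.subset ?_)
    rintro c ⟨n, hc⟩
    induction n generalizing c with
    | zero => exact mem_base hc
    | succ n ih =>
      have hT := vb_tensor hE₁ hE₂
      obtain ⟨T, hTv, hTn, hcT⟩ := (mem_dec_tensor (vb_pow hT n) hT c).mp hc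
      obtain ⟨A, B, hA, hB, hAS, hBS, hTAB⟩ := ih hTn
      have hcAB : c ∈ dec (CohB1.tensorMod (CohB1.tensorMod A B) (CohB1.tensorMod E₁ E₂)) :=
        (mem_dec_tensor (vb_tensor hA hB) hT c).mpr ⟨T, hTv, hTAB, hcT⟩
      have hAB := vb_tensor hA hB
      rw [dec_congr (vb_tensor hAB hT) (TensorMod.Basic.assoc (CohB1.tensorMod A B) E₁ E₂).symm] at hcAB
      obtain ⟨U, hU, hUm, hcU⟩ := (mem_dec_tensor (vb_tensor hAB hE₁) hE₂ c).mp hcAB
      obtain ⟨A', hA', hA'S, hU'⟩ := mem_prod_step hE₁ hA hB hAS hUm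
      have hA'B := vb_tensor hA' hB
      have h2 : c ∈ dec (CohB1.tensorMod (CohB1.tensorMod A' B) E₂) :=
        (mem_dec_tensor hA'B hE₂ c).mpr ⟨U, hU, hU', hcU⟩
      rw [dec_congr (vb_tensor hA'B hE₂)
        (TensorMod.Basic.tensorIso (TensorMod.Basic.comm A' B) (Iso.refl E₂))] at h2
      obtain ⟨B', hB', hB'S, hc'⟩ := mem_prod_step hE₂ hB hA' hBS h2
      exact ⟨A', B', hA', hB', hA'S, hB'S, mem_swap hB' hA' hc'⟩

/-- The constituents of an invertible module. -/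
lemma dec_invertible {L : X.Modules} (hL : PicF.IsInvertible L) : dec L = {cls L} := by
  have r := TensorMod.LocFree.of_isInvertible hL
  have hv : Vb L := vb_of_isFinLocFree (TensorMod.LocFree.of_rank r)
  rw [dec_eq (l := [L]) (fun S hS => by
    rw [List.mem_singleton] at hS
    exact hS ▸ ⟨hv, Indec.indecomposable_of_rank_one r⟩) (isoBiprodZero isZero_bsum_nil)]
  rfl

omit [HasLocalEnd X] in
/-- Powers add. -/
lemma powAdd (L : X.Modules) (a : ℕ) : ∀ b,
    Nonempty (CohB1.tensorPow L (a + b) ≅ CohB1.tensorMod (CohB1.tensorPow L a) (CohB1.tensorPow L b))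
  | 0 => ⟨(TensorMod.Basic.rightUnit _).symm⟩
  | b + 1 => ⟨TensorMod.Basic.tensorIso (powAdd L a b).some (Iso.refl L) ≪≫ TensorMod.Basic.assoc _ _ _⟩

/-- A line bundle is Weil finite iff it is torsion. -/
theorem wf_invertible_iff {L : X.Modules} (hL : PicF.IsInvertible L) :
    WF L ↔ ∃ m : ℕ, 0 < m ∧ Nonempty (CohB1.tensorPow L m ≅ Coh.structureModule X) := by
  have hv : Vb L := vb_of_isFinLocFree (TensorMod.LocFree.of_rank (TensorMod.LocFree.of_isInvertible hL))
  have hd : ∀ n, dec (CohB1.tensorPow L n) = {cls (CohB1.tensorPow L n)} := fun n =>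
    dec_invertible (TensorMod.Invertible.isInvertible_tensorPow hL n)
  constructor
  · intro hw
    have hfin := finite_S hv hw
    have hmem : ∀ n, cls (CohB1.tensorPow L n) ∈ S L := fun n =>
      ⟨n, by rw [hd n]; exact Multiset.mem_singleton_self _⟩
    have := hfin.to_subtype
    obtain ⟨a, b, hab, heq⟩ := Finite.exists_ne_map_eq_of_infinite
      (fun n => (⟨_, hmem n⟩ : S L))
    obtain ⟨e⟩ : Nonempty (CohB1.tensorPow L a ≅ CohB1.tensorPow L b) :=
      Quotient.exact (congrArg Subtype.val heq)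
    have key : ∀ a b : ℕ, a < b → (CohB1.tensorPow L a ≅ CohB1.tensorPow L b) →
        ∃ m : ℕ, 0 < m ∧ Nonempty (CohB1.tensorPow L m ≅ Coh.structureModule X) := by
      intro a b hlt e
      refine ⟨b - a, by omega, ⟨TensorMod.Invertible.cancelRight
        (TensorMod.Invertible.isInvertible_tensorPow hL a) ?_⟩⟩
      exact (powAdd L (b - a) a).some.symm ≪≫ eqToIso (by rw [Nat.sub_add_cancel hlt.le]) ≪≫
        e.symm ≪≫ (TensorMod.Basic.leftUnit _).symm
    rcases lt_or_gt_of_ne hab with h | h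
    · exact key a b h e
    · exact key b a h e.symm
  · rintro ⟨m, hm, ⟨e⟩⟩
    classical
    refine wf_of_finite hv (((Finset.range m).image fun i => cls (CohB1.tensorPow L i)).finite_toSet.subset ?_)
    rintro c ⟨n, hc⟩
    rw [hd n, Multiset.mem_singleton] at hc
    subst hc
    rw [Finset.coe_image]
    refine ⟨n % m, Finset.mem_coe.mpr (Finset.mem_range.mpr (Nat.mod_lt _ hm)), ?_⟩
    induction n using Nat.strong_induction_on with
    | _ n ih =>
      rcases Nat.lt_or_ge n m with h | h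
      · rw [Nat.mod_eq_of_lt h]
      · rw [Nat.mod_eq_sub_mod h, ih (n - m) (by omega)]
        exact cls_eq ((TensorMod.Basic.rightUnit _).symm ≪≫
          TensorMod.Basic.tensorIso (Iso.refl _) e.symm ≪≫ (powAdd L (n - m) m).some.symm ≪≫
          eqToIso (by rw [Nat.sub_add_cancel h]))

end Groth.Agent.Lib.CurveBundle.WeilFiniteOps
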