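import Groth.Agent.Lib.CurveBundle.WeilSlope
import Groth.Agent.Lib.CurveBundle.WeilFiniteOps

/-!
# Tensor products of subquotients of Weil-finite bundles
-/

set_option autoImplicit false
universe u

open CategoryTheory Limits AlgebraicGeometry

namespace Groth.Agent.Lib.CurveBundle.EssFinTensor

open Groth.Agent.Lib Degree Slope TensorMod.Basic

variable {k : Type u} [Field k] {X : Scheme.{u}} [X.Over (Spec (CommRingCat.of k))]
  [IsProper (X ↘ Spec (CommRingCat.of k))] [hC : CurveCtx k X]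

include hC

/-- All coherent subsheaves have degree at most zero. -/
def NP (k : Type u) [Field k] [X.Over (Spec (CommRingCat.of k))] [CurveCtx k X] (M : X.Modules) : Prop :=
  ∀ (G : X.Modules) (i : G ⟶ M), Mono i → Coh.IsCoh G → dg k G ≤ 0

lemma np_of_bundle {M : X.Modules} {r : ℕ} (hM : FlatMod.IsFinLocFreeOfRank r M)
    (h : ∀ (F : X.Modules) (r' : ℕ) (i : F ⟶ M), Mono i → 0 < r' →
      FlatMod.IsFinLocFreeOfRank r' F → dg k F ≤ 0) : NP k M := by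
  intro G i _ hG
  obtain ⟨-, hT, -, -⟩ := bundle (k := k) hM
  rcases Nat.eq_zero_or_pos (gr k G) with h0 | h0
  · exact (sub_zero_rank i hG hT h0).2.le
  · exact h G _ i ‹_› h0 (sub_bundle (k := k) i hG hT).1

/-- Degree zero subsheaves of a `NP` bundle are subbundles. -/
lemma saturated {M G : X.Modules} (hG : NP k G) (hGc : Coh.IsCoh G) (i : M ⟶ G) [Mono i]
    (hMc : Coh.IsCoh M) (h : dg k M = 0) : FlatMod.IsFinLocFree (cokernel i) := by
  let _ := hC.integral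
  have := hC.locNoeth
  obtain ⟨M', j, a, hj, ha, hai, hM', hrk, hT, hQc⟩ := Saturation.exists_saturation i hMc hGc
  have h1 := hG M' j hj hM'
  have h2 := dg_le_of_mono k a hMc hM' hrk.symm
  have := Degree.isIso_of_mono k a hMc hM' hrk.symm (by omega)
  exact TensorMod.LocFree.of_iso ((cokernelEpiComp a j).symm ≪≫ cokernelIsoOfEq hai)
    (TensorMod.LocFree.of_rank (rank_gr k hQc hT))

/-- Degree zero quotients of degree zero `NP` sheaves are `NP`. -/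
lemma np_quot {F Q : X.Modules} (hF : NP k F) (hFc : Coh.IsCoh F) (hQc : Coh.IsCoh Q) (p : F ⟶ Q)
    [Epi p] (h : dg k F = 0) (hQ : dg k Q = 0) : NP k Q := by
  intro I j hj hI
  obtain ⟨hc, -, hd⟩ := cokernel_ses k j hI hQc
  obtain ⟨hK, -, hd'⟩ := kernel_ses k (p ≫ cokernel.π j) hFc hc
  have := hF _ (kernel.ι (p ≫ cokernel.π j)) inferInstance hK
  omega

omit hC [IsProper (X ↘ Spec (CommRingCat.of k))] in
/-- Tensor products of monomorphisms of bundles are monomorphisms. -/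
lemma mono_tmap₂ {A A' B B' : X.Modules} (hB : FlatMod.IsFinLocFree B)
    (hA' : FlatMod.IsFinLocFree A') (f : A ⟶ A') (g : B ⟶ B') [Mono f] [Mono g] :
    ∃ i : CohB1.tensorMod A B ⟶ CohB1.tensorMod A' B', Mono i := by
  have := Modules.DualBasis.mono_tmap (Modules.DualBasis.hasDBases_of_isFinLocFree hB) f
  have := Modules.DualBasis.mono_tmap (Modules.DualBasis.hasDBases_of_isFinLocFree hA') g
  exact ⟨((comm A B).hom ≫ tmap (𝟙 B) f ≫ (comm B A').hom) ≫ tmap (𝟙 A') g, inferInstance⟩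

omit hC [IsProper (X ↘ Spec (CommRingCat.of k))] in
/-- Tensor products of epimorphisms are epimorphisms. -/
lemma epi_tmap₂ {A A' B B' : X.Modules} (f : A ⟶ A') (g : B ⟶ B') [Epi f] [Epi g] :
    ∃ p : CohB1.tensorMod A B ⟶ CohB1.tensorMod A' B', Epi p := by
  have key : ∀ {P P' : X.Modules} (N : X.Modules) (h : P ⟶ P') [Epi h], Epi (tmap h (𝟙 N)) := by
    intro P P' N h _
    have : PreservesColimitsOfSize.{0, 0} (tensorBy N) :=
      preservesSmallestColimits_of_preservesColimits (tensorBy N)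
    exact inferInstanceAs (Epi ((tensorBy N).map h))
  have := key B f
  have := key A' g
  exact ⟨tmap f (𝟙 B) ≫ (comm A' B).hom ≫ tmap g (𝟙 A') ≫ (comm B' A').hom, inferInstance⟩

omit hC in
/-- Weil-finite bundles are `NP` of degree zero. -/
lemma wf_np [hC : CurveCtx k X] [KrullSchmidt.HasLocalEnd X] {G : X.Modules} {s : ℕ}
    (hG : FlatMod.IsFinLocFreeOfRank s G) (h : WeilFinite.WF G) : NP k G ∧ dg k G = 0 := by
  rcases Nat.eq_zero_or_pos s with h0 | hs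
  · subst h0
    obtain ⟨hc, hT, e, -⟩ := bundle (k := k) hG
    have hz := isZero_of_gr k hc hT e
    exact ⟨fun M i _ hM => (dg_of_isZero k (hz.of_mono i) hM).le, dg_of_isZero k hz hc⟩
  · obtain ⟨h1, h2⟩ := WeilSlope.dg_eq_zero_and_sub_le (k := k) hs hG h
    exact ⟨np_of_bundle hG h2, h1⟩

lemma semistable_of_np {M : X.Modules} {r : ℕ} (hM : FlatMod.IsFinLocFreeOfRank r M) (h : NP k M)
    (h0 : Curv2.deg k X M r = 0) : ModFun.IsSlopeSemistable k X M r := by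
  intro F r' i hi hr' hF
  rw [h0, zero_mul]
  refine mul_nonpos_of_nonpos_of_nonneg ?_ (Int.natCast_nonneg r)
  rw [← dg_eq_deg k hF]
  exact h F i hi (bundle (k := k) hF).1

variable [KrullSchmidt.HasLocalEnd X]

/-- The tensor product of two degree zero subquotients of Weil-finite bundles. -/
theorem tensor {r₁ r₂ s s' t₁ t₁' : ℕ} {E₁ E₂ G G' F₁ F₁' F₂ F₂' : X.Modules}
    (hE₁ : FlatMod.IsFinLocFreeOfRank r₁ E₁) (hE₂ : FlatMod.IsFinLocFreeOfRank r₂ E₂)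
    (hd₁ : Curv2.deg k X E₁ r₁ = 0) (hd₂ : Curv2.deg k X E₂ r₂ = 0)
    (hG : FlatMod.IsFinLocFreeOfRank s G) (hG' : FlatMod.IsFinLocFreeOfRank s' G')
    (hw : WeilFinite.WF G) (hw' : WeilFinite.WF G')
    (hF₁ : FlatMod.IsFinLocFreeOfRank t₁ F₁) (hF₁' : FlatMod.IsFinLocFreeOfRank t₁' F₁')
    (i₁ : F₁ ⟶ G) (i₁' : F₁' ⟶ G') [Mono i₁] [Mono i₁']
    (hf₁ : Curv2.deg k X F₁ t₁ = 0) (hf₁' : Curv2.deg k X F₁' t₁' = 0)
    (i₂ : F₂ ⟶ F₁) (i₂' : F₂' ⟶ F₁') (e₁ : E₁ ≅ cokernel i₂) (e₂ : E₂ ≅ cokernel i₂') :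
    FlatMod.IsFinLocFreeOfRank (r₁ * r₂) (CohB1.tensorMod E₁ E₂) ∧
    (Curv2.deg k X (CohB1.tensorMod E₁ E₂) (r₁ * r₂) = 0 ∧
      ModFun.IsSlopeSemistable k X (CohB1.tensorMod E₁ E₂) (r₁ * r₂) ∧
      ∃ (s : ℕ) (G : X.Modules) (s₁ : ℕ) (F₁ : X.Modules) (s₂ : ℕ) (F₂ : X.Modules) (i₁ : F₁ ⟶ G)
        (i₂ : F₂ ⟶ F₁),
        FlatMod.IsFinLocFreeOfRank s G ∧ WeilFinite.WF G ∧
        FlatMod.IsFinLocFreeOfRank s₁ F₁ ∧ FlatMod.IsFinLocFreeOfRank s₂ F₂ ∧ Mono i₁ ∧ Mono i₂ ∧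
        FlatMod.IsFinLocFree (cokernel i₁) ∧ FlatMod.IsFinLocFree (cokernel i₂) ∧
        Curv2.deg k X F₁ s₁ = 0 ∧ ModFun.IsSlopeSemistable k X F₁ s₁ ∧
        Curv2.deg k X F₂ s₂ = 0 ∧ ModFun.IsSlopeSemistable k X F₂ s₂ ∧
        Nonempty (CohB1.tensorMod E₁ E₂ ≅ cokernel i₂)) := by
  let _ := hC.integral
  have := hC.locNoeth
  have lf : ∀ {n : ℕ} {M : X.Modules}, FlatMod.IsFinLocFreeOfRank n M → FlatMod.IsFinLocFree M :=
    fun h => TensorMod.LocFree.of_rank h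
  rw [← dg_eq_deg k hE₁] at hd₁
  rw [← dg_eq_deg k hE₂] at hd₂
  rw [← dg_eq_deg k hF₁] at hf₁
  rw [← dg_eq_deg k hF₁'] at hf₁'
  obtain ⟨hE, hEd⟩ := WeilSlope.tensor_facts (k := k) hE₁ r₂ E₂ hE₂
  obtain ⟨hF, hFd⟩ := WeilSlope.tensor_facts (k := k) hF₁ t₁' F₁' hF₁'
  obtain ⟨hGG, -⟩ := WeilSlope.tensor_facts (k := k) hG s' G' hG'
  rw [hd₁, hd₂, mul_zero, mul_zero, add_zero] at hEd
  rw [hf₁, hf₁', mul_zero, mul_zero, add_zero] at hFd
  obtain ⟨hEc, -, -, hEdeg⟩ := bundle (k := k) hE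
  obtain ⟨hFc, hFT, -, hFdeg⟩ := bundle (k := k) hF
  obtain ⟨hGc, -, -, -⟩ := bundle (k := k) hGG
  rw [hEd] at hEdeg
  rw [hFd] at hFdeg
  have hwf := (WeilFiniteOps.wf_biprod_tensor (KrullSchmidt.vb_of_isFinLocFree (lf hG))
    (KrullSchmidt.vb_of_isFinLocFree (lf hG')) hw hw').2
  obtain ⟨hGnp, -⟩ := wf_np (k := k) hGG hwf
  obtain ⟨ι, hι⟩ := mono_tmap₂ (lf hF₁') (lf hG) i₁ i₁'
  obtain ⟨π, hπ⟩ := epi_tmap₂ (cokernel.π i₂ ≫ e₁.inv) (cokernel.π i₂' ≫ e₂.inv)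
  have hFnp : NP k (CohB1.tensorMod F₁ F₁') := fun M j _ hM => hGnp M (j ≫ ι) (mono_comp _ _) hM
  have hEnp := np_quot hFnp hFc hEc π hFd hEd
  obtain ⟨hK, -, hKd⟩ := kernel_ses k π hFc hEc
  have hKd0 : dg k (kernel π) = 0 := by omega
  have hKr := rank_gr k hK (Rank.isTorsionFree_of_mono (kernel.ι π) hFT)
  have hKnp : NP k (kernel π) := fun M j _ hM => hFnp M (j ≫ kernel.ι π) (mono_comp _ _) hM
  have hKdeg : Curv2.deg k X (kernel π) (gr k (kernel π)) = 0 := by rw [← dg_eq_deg k hKr, hKd0]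
  have hS : (ShortComplex.mk (kernel.ι π) π (kernel.condition π)).ShortExact :=
    { exact := ShortComplex.exact_kernel π }
  let eq : cokernel (kernel.ι π) ≅ CohB1.tensorMod E₁ E₂ :=
    (cokernelIsCokernel (kernel.ι π)).coconePointUniqueUpToIso hS.gIsCokernel
  exact ⟨hE, hEdeg, semistable_of_np hE hEnp hEdeg, _, _, _, _, _, _, ι, kernel.ι π, hGG, hwf, hF, hKr,
    hι, inferInstance, saturated hGnp hGc ι hFc hFd,
    TensorMod.LocFree.of_iso eq.symm (lf hE), hFdeg, semistable_of_np hF hFnp hFdeg, hKdeg,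
    semistable_of_np hKr hKnp hKdeg, ⟨eq.symm⟩⟩

end Groth.Agent.Lib.CurveBundle.EssFinTensor
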