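import Groth.Agent.Lib.CurveBundle.HomLin
import Groth.Agent.Lib.DecSh.Family
import Groth.Agent.Lib.CurveBundle.SlopeSES

/-!
# Semistability of evaluation kernels in genus one
-/

set_option autoImplicit false
universe u

open CategoryTheory Limits AlgebraicGeometry Opposite TopologicalSpace

namespace Groth.Agent.Lib.CurveBundle.EvalKernel

open Groth.Agent.Lib Degree Slope TensorMod.Basic Curves.GlobalSections Modules.Free HomLin

variable (k : Type u) [Field k] [IsAlgClosed k] {X : Scheme.{u}} [X.Over (Spec (CommRingCat.of k))]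
  [IsProper (X ↘ Spec (CommRingCat.of k))] [hC : CurveCtx k X]
  {A : X.Modules} (hA : PicF.IsInvertible A) (hA0 : 0 < dg k A)
  (h0 : Module.finrank k (Coh.HH X (Coh.structureModule X) 0) = 1)
  (hg : Curv2.genus k X = 1)

include hC

omit [IsAlgClosed k] in
/-- Free modules are semistable of degree zero. -/
theorem free_facts : ∀ n : ℕ, dg k (FlatMod.freeMod X n) = 0 ∧ SS k (FlatMod.freeMod X n) := by
  intro n
  induction n with
  | zero =>
    obtain ⟨hc, hT, e, -⟩ := bundle (k := k) (TensorMod.LocFree.isFinLocFree_freeMod X 0)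
    exact ⟨dg_of_isZero k (isZero_of_gr k hc hT e) hc, SlopeSES.ss_zero_rank e hc⟩
  | succ n ih =>
    obtain ⟨hO, hOT, eO, -⟩ := SlopeLine.line (k := k) (PicLoc.isInvertible_structureModule X)
    obtain ⟨hc, hT, e, -⟩ := bundle (k := k) (TensorMod.LocFree.isFinLocFree_freeMod X n)
    obtain ⟨hc', hT', e', -⟩ := bundle (k := k) (TensorMod.LocFree.isFinLocFree_freeMod X (n + 1))
    let iso : Coh.structureModule X ⊞ FlatMod.freeMod X n ≅ FlatMod.freeMod X (n + 1) :=
      biprod.isoCoprod _ _ ≪≫ coprod.mapIso (TensorMod.LocFree.freeModOneIso X).symm (Iso.refl _) ≪≫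
        TensorMod.LocFree.freeModAddIso X 1 n ≪≫ eqToIso (by rw [Nat.add_comm])
    let T : ShortComplex X.Modules :=
      ShortComplex.mk (biprod.inl ≫ iso.hom) (iso.inv ≫ biprod.snd) (by simp)
    have hT' : T.ShortExact :=
      ShortComplex.Splitting.shortExact
        { r := iso.inv ≫ biprod.fst, s := biprod.inr ≫ iso.hom,
          f_r := by simp [T], s_g := by simp [T],
          id := by
            simp only [T, Category.assoc]
            rw [← Preadditive.comp_add, ← Category.assoc biprod.fst, ← Category.assoc biprod.snd,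
              ← Preadditive.add_comp, biprod.total, Category.id_comp, Iso.inv_hom_id] }
    have hd := dg_add k hT' hO hc' hc
    change dg k (FlatMod.freeMod X (n + 1)) = _ + dg k (FlatMod.freeMod X n) at hd
    rw [ih.1, H0Crit.dg_structure, add_zero] at hd
    refine ⟨hd, ?_⟩
    rcases Nat.eq_zero_or_pos n with rfl | hn
    · exact ss_of_st (TensorMod.LocFree.isFinLocFree_freeMod X 1) (SlopeLine.st_line
        (TensorMod.LocFree.isInvertible_of_rank_one (TensorMod.LocFree.isFinLocFree_freeMod X 1)))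
    refine SlopeSES.ss_ext (T := T) hT' hc (by change 0 < gr k (Coh.structureModule X); omega)
      (by change 0 < gr k (FlatMod.freeMod X n); omega) ?_ ?_ ?_ ih.2
    · change dg k (Coh.structureModule X) * _ = dg k (FlatMod.freeMod X (n + 1)) * _
      rw [hd, H0Crit.dg_structure, zero_mul, zero_mul]
    · change dg k (FlatMod.freeMod X n) * _ = dg k (FlatMod.freeMod X (n + 1)) * _
      rw [hd, ih.1, zero_mul, zero_mul]
    · exact ss_of_st (TensorMod.LocFree.of_isInvertible (PicLoc.isInvertible_structureModule X))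
        (SlopeLine.st_line (PicLoc.isInvertible_structureModule X))

include h0 hg

omit [IsAlgClosed k] in
/-- In genus one `χ(O) = 0`. -/
lemma euler_structure : Curv2.euler k X (Coh.structureModule X) = 0 := by
  have hO := (hC.good _ (SlopeLine.line (k := k) (PicLoc.isInvertible_structureModule X)).1).euler
  have h1 : Curves.Euler.hdim k X (Coh.structureModule X) 1 = 1 := hg
  have h0' : Curves.Euler.hdim k X (Coh.structureModule X) 0 = 1 := h0
  omega

include hA hA0

/-- Sections of a bundle whose subsheaves have slope at most `D / R`, where `R ≤ D`. -/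
theorem h0_bound [IsIntegral X] (hdim : topologicalKrullDim X = 1) {D R : ℤ} (hR : 0 ≤ R)
    (hRD : R ≤ D) :
    ∀ (n : ℕ) (H : X.Modules), FlatMod.IsFinLocFreeOfRank n H →
      (∀ (G : X.Modules) (i : G ⟶ H), Mono i → Coh.IsCoh G → dg k G * R ≤ D * (gr k G : ℤ)) →
      (Curves.Euler.hdim k X H 0 : ℤ) * R ≤ D * (n : ℤ) := by
  intro n
  induction n using Nat.strong_induction_on with
  | _ n ih =>
  intro H hH hS
  obtain ⟨hHc, hHT, eH, -⟩ := bundle (k := k) hH
  rcases subsingleton_or_nontrivial (Coh.HH X H 1) with h1 | h1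
  · have := hS H (𝟙 H) inferInstance hHc
    rw [eH, dg, euler_structure k h0 hg, mul_zero, sub_zero] at this
    rwa [H0Crit.h0_eq (k := k) hHc h1]
  obtain ⟨M, p, hp, hM, hM1⟩ := LineQuot.exists_line_quot k hA hA0 n H hH h1
  have hMd := Curves.Clifford.deg_le_of_nontrivial_one k hC.dim_le h0 hM hM1
  rw [← dg_eq_deg k (TensorMod.LocFree.of_isInvertible hM), hg] at hMd
  obtain ⟨hMc, -, eM, -⟩ := SlopeLine.line (k := k) hM
  obtain ⟨hK, hgK, -⟩ := kernel_ses k p hHc hMc
  obtain ⟨hKb, -⟩ := sub_bundle (k := k) (kernel.ι p) hK hHT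
  have hlt : gr k (kernel p) < n := by omega
  have h2 := ih _ hlt (kernel p) hKb fun G i hi hG => hS G (i ≫ kernel.ι p) (mono_comp _ _) hG
  have : CompactSpace X := QuasiCompact.compactSpace_of_compactSpace (X ↘ Spec (CommRingCat.of k))
  obtain ⟨x, -, hx⟩ := IsClosed.exists_closed_singleton (S := (Set.univ : Set X)) isClosed_univ
    Set.univ_nonempty
  obtain ⟨hI, hJ, hJd⟩ := Point.point_facts_ctx k hdim hx
  rw [← dg_eq_deg k (TensorMod.LocFree.of_isInvertible hJ)] at hJd
  have h3 := H0Crit.h0_le hI hJ hJd 1 _ (TensorMod.LocFree.of_isInvertible hM)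
    (H0Crit.lb_invertible hM (by push_cast at hMd ⊢; linarith))
  have hS' : (ShortComplex.mk (kernel.ι p) p (kernel.condition p)).ShortExact :=
    { exact := ShortComplex.exact_kernel p }
  have := (hC.good _ hK).fin₀
  have := (hC.good _ hMc).fin₀
  have h4 : (Curves.Euler.hdim k X H 0 : ℤ) ≤
      Curves.Euler.hdim k X (kernel p) 0 + Curves.Euler.hdim k X M 0 := by
    exact_mod_cast Curves.Euler.hdim_zero_le_add (k := k) hS'
  have h5 : ((gr k (kernel p) : ℕ) : ℤ) = n - 1 := by omega
  rw [h5] at h2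
  push_cast at h3
  nlinarith

/-- The evaluation kernel of a semistable bundle of slope above one, and the images of its
subsheaves' linear forms. -/
theorem exists_kernel_data [IsIntegral X] (hdim : topologicalKrullDim X = 1) {F : X.Modules} {R D : ℕ}
    (hR : 0 < R) (hRD : R < D) (hF : FlatMod.IsFinLocFreeOfRank R F) (hFd : dg k F = D)
    (hss : SS k F) :
    ∃ K : X.Modules, FlatMod.IsFinLocFreeOfRank (D - R) K ∧ dg k K = -(D : ℤ) ∧
      ∀ (G : X.Modules) (i : G ⟶ K), Mono i → Coh.IsCoh G →
        ∃ (w : ℕ) (J : X.Modules) (e : J ⟶ F), Mono e ∧ Coh.IsCoh J ∧ gr k J + gr k G ≤ w ∧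
          (w : ℤ) ≤ Curves.Euler.hdim k X J 0 ∧ (w : ℤ) ≤ -dg k G := by
  classical
  let _ := hC.integral
  have := hC.locNoeth
  obtain ⟨hFc, hFT, eF, -⟩ := bundle (k := k) hF
  have hgg : Curv2.IsGloballyGenerated F := Vanishing.globallyGenerated_ctx hdim hF fun J hJ hJd => by
    obtain ⟨eg, ed⟩ := Twist.gr_dg_twist k hJ hFc
    have hb : FlatMod.IsFinLocFreeOfRank R (CohB1.tensorMod F J) := by
      simpa using TensorMod.LocFree.rank_tensorMod hF (TensorMod.LocFree.of_isInvertible hJ)
    refine Vanishing.h1_ss hA hA0 h0 hb (Sections.ss_twist hJ hFc hss) ?_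
    rw [ed, hFd, eF, dg_eq_deg k (TensorMod.LocFree.of_isInvertible hJ), hJd, hg]
    push_cast
    omega
  have hh0 : Module.finrank k (Coh.HH X F 0) = D := by
    have h1 := H0Crit.h0_eq (k := k) hFc (Vanishing.h1_ss hA hA0 h0 hF hss (by
      rw [hFd, hg]; push_cast; omega))
    rw [dg, euler_structure k h0 hg, mul_zero, sub_zero] at hFd
    rw [hFd] at h1
    exact_mod_cast h1
  have := (hC.good _ hFc).fin₀
  letI := secModule k F
  let b := (Module.finBasisOfFinrankEq k (Coh.HH X F 0) hh0).map (h0Linear k F)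
  let p : FlatMod.freeMod X D ⟶ F := freeHom fun i => b i
  have : Epi p := (Modules.StalkModule.epi_iff_stalkMapₗ_surjective p).mpr fun x => by
    rw [← LinearMap.range_eq_top, eq_top_iff, ← H34.GlobGen.gl_eq_top_of_gg hgg x, H34.GlobGen.Gl,
      Submodule.span_le]
    rintro _ ⟨m, rfl⟩
    rw [← b.sum_repr m]
    change F.presheaf.germ ⊤ x trivial (∑ i, EndAlg.cst X k (b.repr m i) • b i) ∈ _
    rw [map_sum]
    refine Submodule.sum_mem _ fun i _ => ?_
    have h1 : F.presheaf.germ ⊤ x trivial (EndAlg.cst X k (b.repr m i) • b i) =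
        X.presheaf.germ ⊤ x trivial (EndAlg.cst X k (b.repr m i)) •
          F.presheaf.germ ⊤ x trivial (b i) :=
      Modules.StalkModule.germ_smul (M := F) (U := ⊤) (x := x) trivial _ _
    exact h1 ▸ Submodule.smul_mem _ _ ⟨_, freeHom_stalk_germ _ x i⟩
  have hfree := TensorMod.LocFree.isFinLocFree_freeMod X D
  obtain ⟨hfc, hfT, efree, -⟩ := bundle (k := k) hfree
  obtain ⟨hK, hgK, hdK⟩ := kernel_ses k p hfc hFc
  -- coordinates of the sections of the free module
  let π : Fin D → (FlatMod.freeMod X D ⟶ Coh.structureModule X) := fun j =>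
    Sigma.desc fun i => if i = j then 𝟙 _ else 0
  have hid : ∀ s : Γ(FlatMod.freeMod X D, ⊤),
      s = ∑ j, (Sigma.ι (fun _ : Fin D => Coh.structureModule X) j).app ⊤ ((π j).app ⊤ s) := by
    intro s
    have : 𝟙 (FlatMod.freeMod X D) = ∑ j, π j ≫ Sigma.ι (fun _ : Fin D => Coh.structureModule X) j := by
      refine Sigma.hom_ext _ _ fun i => ?_
      rw [Category.comp_id, Preadditive.comp_sum, Finset.sum_eq_single i]
      · simp [π]
      · intro j _ hj
        simp [π, Ne.symm hj]
      · simp
    let ev : (FlatMod.freeMod X D ⟶ FlatMod.freeMod X D) →+ Γ(FlatMod.freeMod X D, ⊤) :=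
      { toFun := fun f => f.app ⊤ s
        map_zero' := rfl
        map_add' := fun f g => by rw [Scheme.Modules.Hom.add_app]; rfl }
    exact (congrArg ev this).trans (map_sum ev _ _)
  have hK0 : ∀ s : Γ(kernel p, ⊤), s = 0 := by
    intro s
    let s' := (kernel.ι p).app ⊤ s
    choose c hc using fun j => EndAlg.cst_surjective (X := X) (k := k) ((π j).app ⊤ s')
    have e : s' = ∑ j, EndAlg.cst X k (c j) • gen X j := by
      refine (hid s').trans (Finset.sum_congr rfl fun j _ => ?_)
      rw [← hc j, gen, ← Scheme.Modules.Hom.app_smul]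
      exact congrArg _ (mul_one (show Γ(X, ⊤) from EndAlg.cst X k (c j))).symm
    have hps : p.app ⊤ s' = 0 := by
      change (kernel.ι p ≫ p).app ⊤ s = 0
      rw [kernel.condition]; rfl
    rw [e, map_sum] at hps
    have hc0 : ∀ j, c j = 0 := Fintype.linearIndependent_iff.mp b.linearIndependent c (by
      refine Eq.trans (Finset.sum_congr rfl fun j _ => ?_) hps
      rw [Scheme.Modules.Hom.app_smul, freeHom_app_gen]
      rfl)
    refine ((Modules.Stalk.mono_iff_app_injective (kernel.ι p)).mp inferInstance ⊤) ?_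
    rw [map_zero]
    change s' = 0
    rw [e]
    exact Finset.sum_eq_zero fun j _ => by rw [hc0 j, map_zero, zero_smul]
  have hfd : dg k (FlatMod.freeMod X D) = 0 := (free_facts k D).1
  have eK : gr k (kernel p) = D - R := by omega
  refine ⟨kernel p, eK ▸ (sub_bundle (k := k) (kernel.ι p) hK hfT).1, by linarith, ?_⟩
  intro G i hi hG
  obtain ⟨fG, bG⟩ := HomLin.finrank_le k hA hA0 h0 hg (gr k G) G hG rfl D (i ≫ kernel.ι p)
    (mono_comp _ _) fun s => ((Modules.Stalk.mono_iff_app_injective i).mp hi ⊤)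
      ((hK0 _).trans (map_zero (i.app ⊤).hom).symm)
  letI := homModule k G (Coh.structureModule X)
  let j := i ≫ kernel.ι p
  let Λ : (Fin D → k) →ₗ[k] (G ⟶ Coh.structureModule X) :=
    Fintype.linearCombination k fun l => j ≫ π l
  let bW := Module.finBasis k (LinearMap.range Λ)
  set w := Module.finrank k (LinearMap.range Λ) with hw
  let ψ : Fin w → (G ⟶ Coh.structureModule X) := fun l => (bW l : G ⟶ _)
  let M : Fin w → Fin D → k := fun l i => bW.repr ⟨j ≫ π i, ⟨Pi.single i 1, by simp [Λ]⟩⟩ l
  let ψ' : G ⟶ FlatMod.freeMod X w :=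
    ∑ l, ψ l ≫ Sigma.ι (fun _ : Fin w => Coh.structureModule X) l
  let t : Fin w → Γ(FlatMod.freeMod X D, ⊤) := fun l => ∑ i, EndAlg.cst X k (M l i) • gen X i
  let β : FlatMod.freeMod X w ⟶ FlatMod.freeMod X D := freeHom t
  have hβ : ψ' ≫ β = j := by
    have hι : ∀ l, Sigma.ι (fun _ : Fin w => Coh.structureModule X) l ≫ β =
        ∑ i, EndAlg.scal _ (EndAlg.cst X k (M l i)) ≫
          Sigma.ι (fun _ : Fin D => Coh.structureModule X) i := by
      intro l
      let ev : (Coh.structureModule X ⟶ FlatMod.freeMod X D) →+ Γ(FlatMod.freeMod X D, ⊤) :=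
        { toFun := fun f => f.app ⊤ (1 : Γ(X, ⊤))
          map_zero' := rfl
          map_add' := fun f g => by rw [Scheme.Modules.Hom.add_app]; rfl }
      refine unitHom_ext ?_
      change _ = ev _
      rw [map_sum]
      refine (freeHom_app_gen t l).trans (Finset.sum_congr rfl fun i _ => ?_)
      rw [EndAlg.scal_comm]
      change _ = (EndAlg.scal _ _).app ⊤ (gen X i)
      rw [EndAlg.scal_app, show (homOfLE (le_top (a := (⊤ : X.Opens)))).op = 𝟙 (op (⊤ : X.Opens)) from rfl,
        CategoryTheory.Functor.map_id]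
      rfl
    have hj : ∀ i, j ≫ π i = ∑ l, ψ l ≫ EndAlg.scal _ (EndAlg.cst X k (M l i)) := by
      intro i
      have := congrArg Subtype.val (bW.sum_repr ⟨j ≫ π i, ⟨Pi.single i 1, by simp [Λ]⟩⟩)
      rw [Submodule.coe_sum] at this
      exact this.symm
    have hsum : j = ∑ i, (j ≫ π i) ≫ Sigma.ι (fun _ : Fin D => Coh.structureModule X) i := by
      have : 𝟙 (FlatMod.freeMod X D) = ∑ j, π j ≫ Sigma.ι (fun _ : Fin D => Coh.structureModule X) j := by
        refine Sigma.hom_ext _ _ fun i => ?_
        rw [Category.comp_id, Preadditive.comp_sum, Finset.sum_eq_single i]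
        · simp [π]
        · intro j _ hj
          simp [π, Ne.symm hj]
        · simp
      rw [← Category.comp_id j]
      conv_lhs => rw [this, Preadditive.comp_sum]
      simp only [Category.assoc, Category.comp_id]
    rw [hsum]
    simp only [ψ', Preadditive.sum_comp, Category.assoc, hι, hj, Preadditive.comp_sum]
    exact Finset.sum_comm
  have hψ : Mono ψ' := by
    have : Mono (ψ' ≫ β) := hβ ▸ mono_comp i (kernel.ι p)
    exact mono_of_mono ψ' β
  have hψ0 : ψ' ≫ β ≫ p = 0 := by
    rw [← Category.assoc, hβ, Category.assoc, kernel.condition, comp_zero]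
  have hfw := bundle (k := k) (TensorMod.LocFree.isFinLocFree_freeMod X w)
  obtain ⟨J, q, e, _, _, hqe, hJ, hker, hgJ, -⟩ := exists_image k (β ≫ p) hfw.1 hFc
  have : Mono (kernel.lift (β ≫ p) ψ' hψ0) := mono_of_mono_fac (kernel.lift_ι _ _ _)
  have hG' := gr_le_of_mono k (kernel.lift (β ≫ p) ψ' hψ0) hker
  rw [hfw.2.2.1] at hgJ
  -- `w` independent sections of the image
  have hind : w ≤ Module.finrank k (Coh.HH X J 0) := by
    have := (hC.good _ hJ).fin₀
    letI := secModule k J
    haveI := Module.Finite.equiv (h0Linear k J)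
    let T : (Fin w → k) →ₗ[k] (J.val.obj (op ⊤) : Type u) :=
      Fintype.linearCombination k fun l => q.app ⊤ (gen X l)
    have hT : Function.Injective T := by
      rw [injective_iff_map_eq_zero]
      intro c hc
      have h2 : ∑ i, (∑ l, c l * M l i) • b i = 0 := by
        let ea : (J.val.obj (op ⊤) : Type u) →+ (F.val.obj (op ⊤) : Type u) := (e.app ⊤).hom
        have := (congrArg ea hc).trans ea.map_zero
        refine Eq.trans ?_ this
        simp only [T, Fintype.linearCombination_apply, map_sum ea]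
        simp only [Finset.sum_smul, mul_smul]
        rw [Finset.sum_comm]
        refine Finset.sum_congr rfl fun l _ => ?_
        rw [← Finset.smul_sum]
        refine Eq.trans ?_ (Scheme.Modules.Hom.app_smul e _ _).symm
        congr 1
        change _ = (q ≫ e).app ⊤ (gen X l)
        rw [hqe, Scheme.Modules.Hom.comp_app, CategoryTheory.comp_apply, freeHom_app_gen, map_sum]
        refine Finset.sum_congr rfl fun i _ => ?_
        rw [Scheme.Modules.Hom.app_smul, freeHom_app_gen]
        rfl
      have h3 := Fintype.linearIndependent_iff.mp b.linearIndependent _ h2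
      -- the rows of `M` are independent
      let f : (LinearMap.range Λ) →ₗ[k] k := Fintype.linearCombination k c ∘ₗ bW.equivFun.toLinearMap
      have hf : ∀ v, f v = 0 := by
        rintro ⟨_, d, rfl⟩
        have : (⟨Λ d, ⟨d, rfl⟩⟩ : LinearMap.range Λ) =
            ∑ i, d i • (⟨j ≫ π i, ⟨Pi.single i 1, by simp [Λ]⟩⟩ : LinearMap.range Λ) :=
          Subtype.ext (by simp [Λ, Fintype.linearCombination_apply])
        rw [this, map_sum]
        refine Finset.sum_eq_zero fun i _ => ?_
        rw [map_smul]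
        refine smul_eq_zero_of_right _ ?_
        refine Eq.trans ?_ (h3 i)
        simp only [f, M, LinearMap.comp_apply, Fintype.linearCombination_apply, smul_eq_mul,
          LinearEquiv.coe_coe, Module.Basis.equivFun_apply]
        exact Finset.sum_congr rfl fun l _ => mul_comm _ _
      funext l
      simpa [f, Fintype.linearCombination_apply, Finsupp.single_apply] using hf (bW l)
    have := LinearMap.finrank_le_finrank_of_injective hT
    rwa [Module.finrank_fin_fun, ← (h0Linear k J).finrank_eq] at this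
  haveI := fG
  have hwG : (w : ℤ) ≤ -dg k G := le_trans (by exact_mod_cast Submodule.finrank_le _) bG
  exact ⟨w, J, e, inferInstance, hJ, by omega, Int.ofNat_le.mpr hind, hwG⟩

/-- The kernel of the evaluation of a semistable bundle of slope above one is semistable. -/
theorem exists_kernel [IsIntegral X] (hdim : topologicalKrullDim X = 1) {F : X.Modules} {R D : ℕ}
    (hR : 0 < R) (hRD : R < D) (hF : FlatMod.IsFinLocFreeOfRank R F) (hFd : dg k F = D)
    (hss : SS k F) :
    ∃ K : X.Modules, FlatMod.IsFinLocFreeOfRank (D - R) K ∧ dg k K = -(D : ℤ) ∧ SS k K := by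
  obtain ⟨hFc, hFT, eF, -⟩ := bundle (k := k) hF
  obtain ⟨K, hK, hKd, hsub⟩ := exists_kernel_data k hA hA0 h0 hg hdim hR hRD hF hFd hss
  refine ⟨K, hK, hKd, fun G i hi hG => ?_⟩
  obtain ⟨w, J, e, _, hJ, hgJ, hind, hwG⟩ := hsub G i hi hG
  obtain ⟨hJb, -⟩ := sub_bundle (k := k) e hJ hFT
  have hJh := h0_bound k hA hA0 h0 hg hdim (D := D) (R := R) (by positivity) (by exact_mod_cast hRD.le)
    _ J hJb fun H a _ hH => by
      have := hss H (a ≫ e) (mono_comp _ _) hH
      rwa [hFd, eF] at this
  rw [hKd, (bundle (k := k) hK).2.2.1]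
  have hgJ' : (gr k J : ℤ) + gr k G ≤ w := by exact_mod_cast hgJ
  have hR' : (0 : ℤ) ≤ R := Int.natCast_nonneg R
  push_cast [Nat.cast_sub hRD.le]
  have hD' : (0 : ℤ) ≤ (D : ℤ) - R := by omega
  nlinarith [mul_le_mul_of_nonneg_right hind hR', mul_le_mul_of_nonneg_right hwG hD']

end Groth.Agent.Lib.CurveBundle.EvalKernel
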