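import Groth.Agent.Lib.CurveBundle.SlopeLine
import Groth.Agent.Lib.CurveBundle.Twist
import Groth.Agent.Lib.Curves.GlobalSections
import Groth.Agent.Lib.TensorMod.TensorInv

/-!
# Extensions, sections and sub-bundle degrees
-/

set_option autoImplicit false
universe u

open CategoryTheory Limits AlgebraicGeometry Opposite TopologicalSpace

namespace Groth.Agent.Lib.CurveBundle.Extension

open Groth.Agent.Lib Degree Slope TensorMod.Basic TensorMod.Gen TensorMod.Dual

variable {X : Scheme.{u}}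

/-- A morphism out of `O` lifts along an epimorphism if the kernel has no `H¹`. -/
theorem exists_lift {S : ShortComplex X.Modules} (hS : S.ShortExact)
    (h : Subsingleton (Coh.HH X S.X₁ 1)) (v : Coh.structureModule X ⟶ S.X₃)
    (k : Type u) [Field k] [X.Over (Spec (CommRingCat.of k))] :
    ∃ w : Coh.structureModule X ⟶ S.X₂, w ≫ S.g = v := by
  let z : Coh.HH X S.X₃ 0 := (Curves.GlobalSections.h0Equiv S.X₃).symm (v.app ⊤ (one X ⊤))
  obtain ⟨y, hy⟩ := (Curves.LES.exactK₃ k hS 0 1 rfl z).mp (Subsingleton.elim _ _)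
  obtain ⟨w, hw⟩ := exists_hom_of_family (M := S.X₂)
    (fun W => rs S.X₂ le_top (Curves.GlobalSections.h0Equiv S.X₂ y : Γ(S.X₂, ⊤)))
    fun V W h => rs_rs S.X₂ le_top h _
  refine ⟨w, ?_⟩
  have key : (w ≫ S.g).app ⊤ (one X ⊤) = v.app ⊤ (one X ⊤) := by
    have h1 : S.g.app ⊤ (w.app ⊤ (one X ⊤)) = v.app ⊤ (one X ⊤) := by
      rw [hw, rs_self]
      refine Eq.trans ?_ ((Curves.GlobalSections.h0Equiv S.X₃).apply_symm_apply (v.app ⊤ (one X ⊤)))
      rw [show (Curves.GlobalSections.h0Equiv S.X₃).symm (v.app ⊤ (one X ⊤)) = z from rfl, ← hy]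
      exact Sheaf.H.equiv₀_naturality (F := Coh.toAb S.X₂) (G := Coh.toAb S.X₃)
        (isTerminalTop (α := Opens X)) ((SheafOfModules.toSheaf X.ringCatSheaf).map S.g) y
    exact h1
  refine Scheme.Modules.hom_ext _ _ fun W => ConcreteCategory.ext_apply fun a => ?_
  have ha : ∀ φ : Coh.structureModule X ⟶ S.X₃,
      φ.app W a = (show Γ(X, W) from a) • rs S.X₃ le_top (φ.app ⊤ (one X ⊤)) := fun φ => by
    rw [rs_app_one φ le_top]
    exact app_eq_smul φ _
  rw [ha, ha, key]

/-- An extension by a twisted sheaf without `H¹` splits. -/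
theorem isSplitEpi {S : ShortComplex X.Modules} (hS : S.ShortExact) {L' : X.Modules}
    (e : CohB1.tensorMod L' S.X₃ ≅ Coh.structureModule X)
    (h1 : Subsingleton (Coh.HH X (CohB1.tensorMod L' S.X₁) 1))
    (k : Type u) [Field k] [X.Over (Spec (CommRingCat.of k))] : IsSplitEpi S.g := by
  have hL' : PicF.IsInvertible L' := TensorMod.TensorInv.isInvertible_of_tensor_iso e
  have := Twist.isEquivalence hL'
  have hT := Twist.shortExact hL' hS
  have h1' : Subsingleton (Coh.HH X (CohB1.tensorMod S.X₁ L') 1) :=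
    (Curves.LES.isoK k (comm S.X₁ L') 1).toEquiv.subsingleton
  let a : CohB1.tensorMod S.X₃ L' ≅ Coh.structureModule X := comm _ _ ≪≫ e
  obtain ⟨w, hw⟩ := exists_lift hT h1' a.inv k
  refine IsSplitEpi.mk' ⟨(tensorBy L').preimage (a.hom ≫ w), (tensorBy L').map_injective ?_⟩
  simp only [Functor.map_comp, Functor.map_preimage, CategoryTheory.Functor.map_id]
  change (a.hom ≫ w) ≫ tmap S.g (𝟙 L') = 𝟙 _
  rw [Category.assoc, hw, Iso.hom_inv_id]

variable {k : Type u} [Field k] [X.Over (Spec (CommRingCat.of k))] [hC : CurveCtx k X]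

include hC

/-- A non-split extension of `M` by `L` with a nonzero map `M ⟶ L` is indecomposable. -/
theorem indecomposable (S : ShortComplex X.Modules) (hS : S.ShortExact)
    (hL : PicF.IsInvertible S.X₁) (hM : PicF.IsInvertible S.X₃) (g : S.X₃ ⟶ S.X₁) (hg : g ≠ 0)
    (hns : ¬ IsSplitEpi S.g) :
    ¬ IsZero S.X₂ ∧ ∀ E₁ E₂ : X.Modules, Nonempty (S.X₂ ≅ E₁ ⊞ E₂) → IsZero E₁ ∨ IsZero E₂ := by
  let _ := hC.integral
  have := hS.mono_f
  have := hS.epi_g
  obtain ⟨-, -, -, -⟩ := SlopeLine.line (k := k) hL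
  have hiL := Indec.indecomposable_of_rank_one (TensorMod.LocFree.of_isInvertible hL)
  have hiM := Indec.indecomposable_of_rank_one (TensorMod.LocFree.of_isInvertible hM)
  have hnz : ¬ IsZero S.X₂ := fun h0 => hiL.1 (by
    rw [IsZero.iff_id_eq_zero, ← cancel_mono S.f, Category.id_comp, zero_comp]
    exact h0.eq_of_tgt _ _)
  refine ⟨hnz, (Indec.indecomposable_of_idempotent hnz fun e he => ?_).2⟩
  -- idempotents preserve the subsheaf
  have h0 : S.f ≫ e ≫ S.g = 0 := by
    by_contra h0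
    obtain ⟨_, h1⟩ := SlopeLine.of_ne_zero (k := k) hL hM _ h0
    obtain ⟨-, h2⟩ := SlopeLine.of_ne_zero (k := k) hM hL g hg
    have := SlopeLine.isIso_of_mono (k := k) hL hM (S.f ≫ e ≫ S.g) (le_antisymm h1 h2)
    exact hns (IsSplitEpi.mk' ⟨inv (S.f ≫ e ≫ S.g) ≫ S.f ≫ e, by simp⟩)
  let a : S.X₁ ⟶ S.X₁ := hS.fIsKernel.lift (KernelFork.ofι (S.f ≫ e) (by rwa [Category.assoc]))
  have ha : a ≫ S.f = S.f ≫ e :=
    hS.fIsKernel.fac (KernelFork.ofι (S.f ≫ e) (by rwa [Category.assoc])) WalkingParallelPair.zero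
  let b : S.X₃ ⟶ S.X₃ := hS.gIsCokernel.desc (CokernelCofork.ofπ (e ≫ S.g) h0)
  have hb : S.g ≫ b = e ≫ S.g :=
    hS.gIsCokernel.fac (CokernelCofork.ofπ (e ≫ S.g) h0) WalkingParallelPair.one
  have ha2 : a ≫ a = a := by
    rw [← cancel_mono S.f, Category.assoc, ha, ← Category.assoc, ha, Category.assoc, he]
  have hb2 : b ≫ b = b := by
    rw [← cancel_epi S.g, ← Category.assoc, hb, Category.assoc, hb, ← Category.assoc, he]
  have key : ∀ e' : S.X₂ ⟶ S.X₂, e' ≫ e' = e' → S.f ≫ e' = 0 → e' ≫ S.g = 0 → e' = 0 := by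
    intro e' he' h1 h2
    let h : S.X₃ ⟶ S.X₂ := hS.gIsCokernel.desc (CokernelCofork.ofπ e' h1)
    have hh : S.g ≫ h = e' :=
      hS.gIsCokernel.fac (CokernelCofork.ofπ e' h1) WalkingParallelPair.one
    rw [← he']
    conv_lhs => arg 2; rw [← hh]
    rw [← Category.assoc, h2, zero_comp]
  have split : ∀ e' : S.X₂ ⟶ S.X₂, e' ≫ S.g = 0 → S.f ≫ e' = S.f → False := by
    intro e' h1 h2
    let q : S.X₂ ⟶ S.X₁ := hS.fIsKernel.lift (KernelFork.ofι e' h1)
    have hq : q ≫ S.f = e' := hS.fIsKernel.fac (KernelFork.ofι e' h1) WalkingParallelPair.zero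
    have hfq : S.f ≫ q = 𝟙 _ := by
      rw [← cancel_mono S.f, Category.assoc, hq, h2, Category.id_comp]
    have sp := ShortComplex.Splitting.ofExactOfRetraction S hS.exact q hfq inferInstance
    exact hns sp.isSplitEpi_g
  rcases Indec.idempotent_trivial hiL a ha2 with a0 | a1 <;>
    rcases Indec.idempotent_trivial hiM b hb2 with b0 | b1
  · rw [a0, zero_comp] at ha
    rw [b0, comp_zero] at hb
    exact Or.inl (key e he ha.symm hb.symm)
  · rw [a0, zero_comp] at ha
    rw [b1, Category.comp_id] at hb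
    exact (split (𝟙 _ - e) (by rw [Preadditive.sub_comp, Category.id_comp, ← hb, sub_self])
      (by rw [Preadditive.comp_sub, ← ha, Category.comp_id, sub_zero])).elim
  · rw [a1, Category.id_comp] at ha
    rw [b0, comp_zero] at hb
    exact (split e hb.symm ha.symm).elim
  · rw [a1, Category.id_comp] at ha
    rw [b1, Category.comp_id] at hb
    refine Or.inr (sub_eq_zero.mp (key (𝟙 _ - e) ?_ ?_ ?_)).symm
    · simp only [Preadditive.sub_comp, Preadditive.comp_sub, Category.id_comp, Category.comp_id, he]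
      abel
    · rw [Preadditive.comp_sub, ← ha, Category.comp_id, sub_self]
    · rw [Preadditive.sub_comp, Category.id_comp, ← hb, sub_self]

omit hC in
/-- A nonzero square-zero endomorphism is not a scalar. -/
theorem not_scalar (k : Type u) [Field k] [X.Over (Spec (CommRingCat.of k))]
    {E : X.Modules} (φ : E ⟶ E) (hφ : φ ≠ 0) (h2 : φ ≫ φ = 0) (c : k) :
    (SheafOfModules.toSheaf X.ringCatSheaf).map φ ≠
      Coh.smulAb E (Coh.toGlobal (X ↘ Spec (CommRingCat.of k)) c) := by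
  intro h
  have h1 : φ = EndAlg.scalHom E (EndAlg.cst X k c) :=
    (SheafOfModules.toSheaf X.ringCatSheaf).map_injective
      (h.trans (EndAlg.toSheaf_scal E (EndAlg.cst X k c)).symm)
  by_cases hc : c = 0
  · subst hc
    rw [map_zero, map_zero] at h1
    exact hφ h1
  · have hu : IsUnit (EndAlg.scalHom E (EndAlg.cst X k c)) := ((IsUnit.mk0 c hc).map _).map _
    rw [← h1] at hu
    have := (isUnit_iff_isIso _).mp hu
    exact hφ (by rw [← cancel_mono φ, h2, zero_comp])

end Groth.Agent.Lib.CurveBundle.Extension
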