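import Mathlib.RingTheory.LittleWedderburn
import Mathlib.RingTheory.TwoSidedIdeal.Basic
import Mathlib.RingTheory.Nilpotent.Basic
import Mathlib.Algebra.CharP.Lemmas
import Mathlib.FieldTheory.Finite.Basic

/-!
# Finite rings with only trivial idempotents
-/

set_option autoImplicit false
universe u v

namespace Groth.Agent.Lib.CurveBundle.FiniteLocal

variable {A : Type u} [Ring A] [Finite A] [Nontrivial A]

/-- Every element is invertible or nilpotent. -/
theorem unit_or_nilpotent (hid : ∀ e : A, IsIdempotentElem e → e = 0 ∨ e = 1) (a : A) :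
    IsUnit a ∨ IsNilpotent a := by
  obtain ⟨m, n, hmn, he⟩ := Finite.exists_ne_map_eq_of_infinite fun i : ℕ => a ^ i
  wlog h : m < n generalizing m n
  · exact this n m hmn.symm he.symm (by omega)
  obtain ⟨d, hd, rfl⟩ : ∃ d, 0 < d ∧ n = m + d := ⟨n - m, by omega, by omega⟩
  have hper : ∀ l j, m ≤ j → a ^ (j + l * d) = a ^ j := by
    intro l
    induction l with
    | zero => simp
    | succ l ih =>
      intro j hj
      obtain ⟨i, rfl⟩ : ∃ i, j = m + i := ⟨j - m, by omega⟩
      rw [show m + i + (l + 1) * d = (m + d + i) + l * d by ring, ih _ (by omega), pow_add, ← he, ← pow_add]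
  have hj : m ≤ (m + 1) * d := by nlinarith
  have hidem : IsIdempotentElem (a ^ ((m + 1) * d)) := by
    show _ * _ = _
    rw [← pow_add, hper _ _ hj]
  rcases hid _ hidem with h0 | h1
  · exact Or.inr ⟨_, h0⟩
  · exact Or.inl ((isUnit_pow_iff (Nat.mul_ne_zero (by omega) hd.ne')).1 (h1 ▸ isUnit_one))

theorem not_isUnit_of_mul_eq_one {x y : A} (h : x * y = 1) : ¬ IsNilpotent y ∧ ¬ IsNilpotent x := by
  have key : ∀ n, x ^ n * y ^ n = 1 := fun n => by
    induction n with
    | zero => simp
    | succ n ih => rw [pow_succ, pow_succ', mul_assoc, ← mul_assoc x y, h, one_mul, ih]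
  constructor <;> rintro ⟨n, hn⟩ <;> have := key n <;> rw [hn] at this <;> simp at this

variable (hid : ∀ e : A, IsIdempotentElem e → e = 0 ∨ e = 1)

include hid

theorem nilp_mul_left {x y : A} (hy : IsNilpotent y) : IsNilpotent (x * y) :=
  (unit_or_nilpotent hid _).resolve_left fun ⟨u, hu⟩ =>
    (not_isUnit_of_mul_eq_one (x := ↑u⁻¹ * x) (y := y) (by rw [mul_assoc, ← hu, Units.inv_mul])).1 hy

theorem nilp_mul_right {x y : A} (hy : IsNilpotent y) : IsNilpotent (y * x) :=
  (unit_or_nilpotent hid _).resolve_left fun ⟨u, hu⟩ =>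
    (not_isUnit_of_mul_eq_one (x := y) (y := x * ↑u⁻¹) (by rw [← mul_assoc, ← hu, Units.mul_inv])).2 hy

theorem nilp_add {x y : A} (hx : IsNilpotent x) (hy : IsNilpotent y) : IsNilpotent (x + y) :=
  (unit_or_nilpotent hid _).resolve_left fun ⟨u, hu⟩ => by
    have h1 : (↑u⁻¹ : A) * x = 1 - ↑u⁻¹ * y := by
      rw [eq_sub_iff_add_eq, ← mul_add, ← hu, Units.inv_mul]
    obtain ⟨n, hn⟩ := nilp_mul_left hid (x := ↑u⁻¹) hy
    have h2 : IsUnit ((↑u⁻¹ : A) * x) := h1 ▸ (IsNilpotent.isUnit_one_sub ⟨n, hn⟩)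
    obtain ⟨w, hw⟩ := h2
    exact (not_isUnit_of_mul_eq_one (x := (↑w⁻¹ : A) * ↑u⁻¹) (y := x) (by rw [mul_assoc, ← hw, Units.inv_mul])).1 hx

omit hid

/-- Products of `n` nilpotents. -/
def nprod (A : Type u) [Ring A] : ℕ → Set A
  | 0 => {1}
  | n + 1 => {z | ∃ x w, IsNilpotent x ∧ w ∈ nprod A n ∧ z = x * w}

include hid in
/-- Long products of nilpotents vanish. -/
theorem nprod_eq_zero : ∀ w ∈ nprod A (Nat.card A), w = 0 := by
  have key : ∀ n, ∀ w ∈ nprod A n, w = 0 ∨ (Set.range (· * w)).ncard + n ≤ Nat.card A := by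
    intro n
    induction n with
    | zero =>
      intro w _
      exact Or.inr (by simpa using Set.ncard_le_card _)
    | succ n ih =>
      rintro _ ⟨x, w, hx, hw, rfl⟩
      rcases eq_or_ne (x * w) 0 with h0 | h0
      · exact Or.inl h0
      rcases ih w hw with hw0 | hle
      · exact absurd (by rw [hw0, mul_zero]) h0
      refine Or.inr ?_
      have hsub : Set.range (· * (x * w)) ⊂ Set.range (· * w) := by
        refine ⟨?_, fun hsup => ?_⟩
        · rintro _ ⟨a, rfl⟩
          exact ⟨a * x, by simp [mul_assoc]⟩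
        · obtain ⟨a, ha⟩ := hsup (a := w) ⟨1, one_mul w⟩
          have h1 : (1 - a * x) * w = 0 := by
            rw [sub_mul, one_mul, mul_assoc]; exact sub_eq_zero.2 ha.symm
          obtain ⟨u, hu⟩ := (nilp_mul_left hid (x := a) hx).isUnit_one_sub
          rw [← hu, Units.mul_right_eq_zero] at h1
          exact h0 (by rw [h1, mul_zero])
      have := Set.ncard_lt_ncard hsub (Set.toFinite _)
      omega
  intro w hw
  rcases key _ w hw with h | h
  · exact h
  · have : 0 < (Set.range (· * w)).ncard := (Set.ncard_pos (Set.toFinite _)).2 ⟨_, 0, rfl⟩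
    omega

include hid in
/-- The residue field and its multiplicative lift. -/
theorem exists_residue (k : Type v) [Field k] [Algebra k A] [Finite k] :
    ∃ (D : Type u) (_ : Field D) (_ : Finite D) (_ : Algebra k D) (π : A →ₐ[k] D) (σ : D →ₐ[k] A),
      (∀ d, π (σ d) = d) ∧ ∀ a, π a = 0 ↔ IsNilpotent a := by
  classical
  let I : TwoSidedIdeal A := TwoSidedIdeal.mk' {a | IsNilpotent a} IsNilpotent.zero
    (fun hx hy => nilp_add hid hx hy) (fun hx => hx.neg) (fun hy => nilp_mul_left hid hy)
    (fun hx => nilp_mul_right hid hx)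
  let D := I.ringCon.Quotient
  let π₀ : A →+* D := I.ringCon.mk'
  have hπ : ∀ a, π₀ a = 0 ↔ IsNilpotent a := fun a => by
    have : π₀ a = π₀ 0 ↔ I.ringCon a 0 := RingCon.eq _
    rw [map_zero] at this
    rw [this, ← TwoSidedIdeal.mem_iff, TwoSidedIdeal.mem_mk']
    rfl
  have hπs : Function.Surjective π₀ := RingCon.mk'_surjective _
  haveI : Finite D := Finite.of_surjective π₀ hπs
  haveI : Nontrivial D := ⟨⟨0, 1, fun h => by
    have := (hπ 1).1 (by rw [map_one]; exact h.symm)
    exact (not_isNilpotent_one this)⟩⟩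
  letI : DivisionRing D := DivisionRing.ofIsUnitOrEqZero fun d => by
    obtain ⟨a, rfl⟩ := hπs d
    rcases unit_or_nilpotent hid a with h | h
    · exact Or.inl (h.map π₀)
    · exact Or.inr ((hπ a).2 h)
  letI : Field D := littleWedderburn D
  letI : Algebra k D := (π₀.comp (algebraMap k A)).toAlgebra
  obtain ⟨p, hp⟩ := CharP.exists k
  haveI : Fact p.Prime := ⟨CharP.char_is_prime k p⟩
  haveI : CharP A p := charP_of_injective_algebraMap (algebraMap k A).injective p
  haveI : CharP D p := charP_of_injective_algebraMap (algebraMap k D).injective p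
  letI : Fintype D := Fintype.ofFinite D
  obtain ⟨n, -, hn⟩ := FiniteField.card D p
  let Q := p ^ (n : ℕ)
  have hD : ∀ d : D, d ^ Q = d := fun d => by simpa [Q, hn] using FiniteField.pow_card d
  obtain ⟨g, hg⟩ := IsCyclic.exists_generator (α := Dˣ)
  obtain ⟨a, ha⟩ := hπs (g : D)
  obtain ⟨e, he⟩ := (hπ (a ^ Q - a)).1 (by rw [map_sub, map_pow, ha, hD, sub_self])
  have he' : (a ^ Q - a) ^ p ^ e = 0 := pow_eq_zero_of_le (Nat.lt_pow_self (Fact.out : p.Prime).one_lt).le he
  rw [sub_pow_char_pow_of_commute (p := p) (n := e) (h := Commute.pow_self a Q), ← pow_mul] at he'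
  let t := a ^ p ^ e
  have ht : t ^ Q = t := by
    show (a ^ p ^ e) ^ Q = _
    rw [← pow_mul, mul_comm]
    exact sub_eq_zero.1 he'
  let B := Algebra.adjoin k ({t} : Set A)
  have hk : ∀ c : k, algebraMap k A c ^ Q = algebraMap k A c := fun c => by
    rw [← map_pow, show c ^ Q = c from (algebraMap k D).injective (by rw [map_pow, hD])]
  have hcomm : ∀ x ∈ B, Commute x t := fun x hx => by
    induction hx using Algebra.adjoin_induction with
    | mem x hx => rw [Set.mem_singleton_iff.1 hx]
    | algebraMap c => exact Algebra.commute_algebraMap_left c t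
    | add x y _ _ hx hy => exact hx.add_left hy
    | mul x y _ _ hx hy => exact hx.mul_left hy
  have hcomm2 : ∀ x ∈ B, ∀ y ∈ B, Commute x y := fun x hx y hy => by
    induction hy using Algebra.adjoin_induction with
    | mem y hy => rw [Set.mem_singleton_iff.1 hy]; exact hcomm x hx
    | algebraMap c => exact Algebra.commute_algebraMap_right c x
    | add y z _ _ hy hz => exact hy.add_right hz
    | mul y z _ _ hy hz => exact hy.mul_right hz
  have hB : ∀ x ∈ B, x ^ Q = x := fun x hx => by
    induction hx using Algebra.adjoin_induction with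
    | mem x hx => rw [Set.mem_singleton_iff.1 hx]; exact ht
    | algebraMap c => exact hk c
    | add x y hx hy ex ey =>
      show _ ^ (p ^ (n : ℕ)) = _
      rw [add_pow_char_pow_of_commute (p := p) (h := hcomm2 x hx y hy)]
      exact congrArg₂ (· + ·) ex ey
    | mul x y hx hy ex ey => rw [(hcomm2 x hx y hy).mul_pow, ex, ey]
  let π : A →ₐ[k] D := { π₀ with commutes' := fun _ => rfl }
  have hinj : Function.Injective (π.comp B.val) := by
    refine (injective_iff_map_eq_zero _).2 fun x hx => Subtype.ext ?_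
    obtain ⟨m, hm⟩ := (hπ (x : A)).1 hx
    have hiter : ∀ i, (x : A) ^ Q ^ i = x := fun i => by
      induction i with
      | zero => simp
      | succ i ih => rw [pow_succ, pow_mul, ih, hB _ x.2]
    rw [← hiter m]
    exact pow_eq_zero_of_le (Nat.lt_pow_self (Nat.one_lt_pow n.ne_zero (Fact.out : p.Prime).one_lt)).le hm
  have hsurj : Function.Surjective (π.comp B.val) := fun d => by
    by_cases hd : d = 0
    · exact ⟨0, by simp [hd]⟩
    obtain ⟨c, hc⟩ := (bijective_iterateFrobenius (R := D) (p := p) e).2 d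
    obtain ⟨i, hi⟩ := Subgroup.mem_zpowers_iff.1 (hg (Units.mk0 c (by rintro rfl; exact hd (by simp at hc; exact hc.symm))))
    obtain ⟨j, hj⟩ : ∃ j : ℕ, g ^ j = g ^ i := by
      obtain ⟨j, hj⟩ := (isOfFinOrder_of_finite g).mem_powers_iff_mem_zpowers.2 ⟨i, rfl⟩
      exact ⟨j, hj⟩
    refine ⟨⟨t, Algebra.subset_adjoin rfl⟩ ^ j, ?_⟩
    show π₀ ((a ^ p ^ e) ^ j) = d
    rw [map_pow, map_pow, ha, ← pow_mul, mul_comm, pow_mul, ← hc, iterateFrobenius_def]
    have := congrArg (fun u : Dˣ => (u : D)) (hj.trans hi)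
    simp at this
    rw [this]
  let E := AlgEquiv.ofBijective (π.comp B.val) ⟨hinj, hsurj⟩
  exact ⟨D, inferInstance, inferInstance, inferInstance, π, B.val.comp E.symm.toAlgHom,
    fun d => E.apply_symm_apply d, hπ⟩

end Groth.Agent.Lib.CurveBundle.FiniteLocal
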