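import Groth.Agent.Lib.CurveBundle.DetDeg
import Groth.Agent.Lib.CurveBundle.Point
import Groth.Agent.Lib.KVec.Pull
import Groth.Agent.Lib.Ample.GenLocus
import Groth.Agent.Lib.Ample.Extend
import Groth.Agent.Lib.TensorMod.HomGlue
import Groth.Prelude.Def_Frob

/-!
# Line subsheaves of iterated Frobenius pullbacks on a curve
-/

set_option autoImplicit false
set_option linter.style.haveILetI false
universe u

open CategoryTheory Limits AlgebraicGeometry TopologicalSpace Opposite

namespace Groth.Agent.Lib.CurveBundle.FrobPull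

open Groth.Agent.Lib Degree Slope TensorMod TensorMod.Dual TensorMod.Gen Ample.Extend
  Ample.GenLocus TensorMod.Pullback

variable {X : Scheme.{u}} (p : ℕ) [Fact p.Prime] [FrobSch.IsCharP X p]

/-- Frobenius pullback of an invertible module is its `p`-th power. -/
theorem nonempty_iso_tensorPow {L : X.Modules} (hL : PicF.IsInvertible L) :
    Nonempty ((Scheme.Modules.pullback (FrobSch.frob X p)).obj L ≅ CohB1.tensorPow L p) := by
  choose U e hx he using isInvertible_iff.1 hL
  obtain ⟨φ, -⟩ := HomGlue.exists_iso_of_gen (L := (pb (FrobSch.frob X p)).obj L)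
    (M := CohB1.tensorPow L p) (U := U) (top_le_iff.1 fun x _ => Opens.mem_iSup.2 ⟨x, hx x⟩)
    (fun i => unitSec (FrobSch.frob X p) L (e i))
    (fun i => isGen_unitSec (FrobSch.frob X p) (he i)) (fun i => powSec (e i) p)
    (fun i => isGen_powSec (he i) p) fun i j W hi hj c hc => by
      obtain ⟨d, hd⟩ := (he j W hj).2 (rs L hi (e i))
      simp only at hd
      have h1 : unitSec (FrobSch.frob X p) L (rs L hi (e i)) =
          (FrobSch.frob X p).app W d • unitSec (FrobSch.frob X p) L (rs L hj (e j)) := by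
        rw [← hd, unitSec_smul]
      rw [← unitSec_rs (FrobSch.frob X p) hi, ← unitSec_rs (FrobSch.frob X p) hj] at h1
      have h2 : c = d ^ p :=
        ((isGen_unitSec (FrobSch.frob X p) (he j)) W hj).1 (hc.symm.trans h1)
      rw [rs_powSec, rs_powSec, ← hd, powSec_smul, h2]
  exact ⟨φ⟩

variable (k : Type u) [Field k] [X.Over (Spec (CommRingCat.of k))]
  [IsProper (X ↘ Spec (CommRingCat.of k))] [hC : CurveCtx k X]

include hC

theorem dg_frob {L : X.Modules} (hL : PicF.IsInvertible L) :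
    PicF.IsInvertible ((Scheme.Modules.pullback (FrobSch.frob X p)).obj L) ∧
      dg k ((Scheme.Modules.pullback (FrobSch.frob X p)).obj L) = p * dg k L := by
  let _ := hC.integral
  obtain ⟨e⟩ := nonempty_iso_tensorPow p hL
  have hP := Invertible.isInvertible_tensorPow hL p
  refine ⟨PicLoc.isInvertible_pullback _ hL, ?_⟩
  rw [dg_congr k e, dg_eq_deg k (LocFree.of_isInvertible hP),
    H97.CurvePositivity.deg_tensorPow k hC.dim_le hL, ← dg_eq_deg k (LocFree.of_isInvertible hL)]

omit [Fact p.Prime] [FrobSch.IsCharP X p] in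
/-- The line subsheaves of an extension. -/
theorem lb_ext (S : ShortComplex X.Modules) (hS : S.ShortExact) (hL : PicF.IsInvertible S.X₁)
    {m : ℕ} (hQ : FlatMod.IsFinLocFreeOfRank m S.X₃) {N : ℤ} (hN : H0Crit.LB k S.X₃ N)
    (hLN : dg k S.X₁ < N) : H0Crit.LB k S.X₂ N := by
  let _ := hC.integral
  intro M j hj hM
  have := hS.mono_f
  by_cases h : j ≫ S.g = 0
  · let a : M ⟶ S.X₁ := hS.fIsKernel.lift (KernelFork.ofι j h)
    have ha : a ≫ S.f = j := hS.fIsKernel.fac (KernelFork.ofι j h) WalkingParallelPair.zero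
    have : Mono a := mono_of_mono_fac ha
    obtain ⟨hMc, -, eM, -⟩ := SlopeLine.line (k := k) hM
    obtain ⟨hLc, -, eL, -⟩ := SlopeLine.line (k := k) hL
    exact (dg_le_of_mono k a hMc hLc (by omega)).trans_lt hLN
  · obtain ⟨hMc, hMT, eM, -⟩ := SlopeLine.line (k := k) hM
    obtain ⟨hQc, hQT, -, -⟩ := bundle (k := k) hQ
    obtain ⟨I, q, i, hq, hi, hqi, hI, hK, hg, -⟩ := exists_image k (j ≫ S.g) hMc hQc
    have h0 : gr k I ≠ 0 := fun h0 => h (eq_zero_of_image k q i hqi hI hQT h0)
    have : Mono (j ≫ S.g) := Preadditive.mono_of_kernel_zero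
      ((sub_zero_rank (k := k) (kernel.ι (j ≫ S.g)) hK hMT (by omega)).1.eq_of_src _ _)
    exact hN M (j ≫ S.g) this hM

omit hC in
theorem shortExact_iterate {S : ShortComplex X.Modules} (hS : S.ShortExact)
    (h₃ : FlatMod.IsFinLocFree S.X₃) : ∀ n : ℕ, ∃ T : ShortComplex X.Modules, T.ShortExact ∧
      T.X₁ = ((Scheme.Modules.pullback (FrobSch.frob X p)).obj)^[n] S.X₁ ∧
      T.X₂ = ((Scheme.Modules.pullback (FrobSch.frob X p)).obj)^[n] S.X₂ ∧
      T.X₃ = ((Scheme.Modules.pullback (FrobSch.frob X p)).obj)^[n] S.X₃ ∧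
      FlatMod.IsFinLocFree T.X₃
  | 0 => ⟨S, hS, rfl, rfl, rfl, h₃⟩
  | n + 1 => by
    obtain ⟨T, hT, e1, e2, e3, h3⟩ := shortExact_iterate hS h₃ n
    refine ⟨T.map (Scheme.Modules.pullback (FrobSch.frob X p)), KVec.Pull.shortExact_pullback _ hT h3,
      ?_, ?_, ?_, LocFree.isFinLocFree_pullback _ h3⟩ <;>
    rw [Function.iterate_succ_apply'] <;>
    simp only [ShortComplex.map_X₁, ShortComplex.map_X₂, ShortComplex.map_X₃, e1, e2, e3]

omit hC in
theorem rank_iterate {m : ℕ} {G : X.Modules} (hG : FlatMod.IsFinLocFreeOfRank m G) : ∀ n : ℕ,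
    FlatMod.IsFinLocFreeOfRank m (((Scheme.Modules.pullback (FrobSch.frob X p)).obj)^[n] G)
  | 0 => hG
  | n + 1 => by
    rw [Function.iterate_succ_apply']
    exact LocFree.rank_pullback _ (rank_iterate hG n)

theorem dg_iterate {L : X.Modules} (hL : PicF.IsInvertible L) : ∀ n : ℕ,
    PicF.IsInvertible (((Scheme.Modules.pullback (FrobSch.frob X p)).obj)^[n] L) ∧
      dg k (((Scheme.Modules.pullback (FrobSch.frob X p)).obj)^[n] L) = (p : ℤ) ^ n * dg k L
  | 0 => ⟨hL, by simp⟩
  | n + 1 => by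
    obtain ⟨h1, h2⟩ := dg_iterate hL n
    rw [Function.iterate_succ_apply']
    obtain ⟨h3, h4⟩ := dg_frob p k h1
    refine ⟨h3, ?_⟩
    rw [h4, h2, pow_succ]
    ring

/-- The line subsheaves of the iterates grow at most like `p ^ n`. -/
theorem exists_lb_iterate : ∀ (r : ℕ) (G : X.Modules), FlatMod.IsFinLocFreeOfRank r G →
    ∃ B : ℕ, ∀ n : ℕ, H0Crit.LB k (((Scheme.Modules.pullback (FrobSch.frob X p)).obj)^[n] G)
      ((B : ℤ) * (p : ℤ) ^ n) := by
  let _ := hC.integral
  intro r
  induction r with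
  | zero =>
    intro G hG
    refine ⟨0, fun n M j hj hM => ?_⟩
    obtain ⟨hc, hT, e, -⟩ := bundle (k := k) (rank_iterate p hG n)
    have hz := isZero_of_gr k hc hT e
    have : Mono j := hj
    refine absurd ?_ (Indec.not_isZero_of_rank Nat.one_pos (LocFree.of_isInvertible hM))
    rw [IsZero.iff_id_eq_zero, ← cancel_mono j]
    exact hz.eq_of_tgt _ _
  | succ r ih =>
    intro G hG
    obtain ⟨L, i, hi, hL, -, hQ⟩ := H0Crit.exists_max_line (k := k) hG
    obtain ⟨B, hB⟩ := ih _ hQ
    have hS : (ShortComplex.mk i (cokernel.π i) (cokernel.condition i)).ShortExact :=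
      { exact := ShortComplex.exact_cokernel i }
    refine ⟨max B ((dg k L).toNat + 1), fun n => ?_⟩
    obtain ⟨T, hT, e1, e2, e3, -⟩ := shortExact_iterate p hS (LocFree.of_rank hQ) n
    obtain ⟨hLn, hdn⟩ := dg_iterate p k hL n
    have hpn : (0 : ℤ) < (p : ℤ) ^ n := pow_pos (by exact_mod_cast (Fact.out : p.Prime).pos) n
    have hT3 : FlatMod.IsFinLocFreeOfRank r T.X₃ := e3 ▸ rank_iterate p hQ n
    rw [← e2]
    refine lb_ext k T hT (e1 ▸ hLn) hT3 (fun M j hj hM => ?_) ?_
    · have h := hB n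
      rw [← e3] at h
      exact (h M j hj hM).trans_le (mul_le_mul_of_nonneg_right (by exact_mod_cast le_max_left _ _) hpn.le)
    · rw [e1, hdn, mul_comm ((p : ℤ) ^ n)]
      refine mul_lt_mul_of_pos_right ?_ hpn
      have := Int.self_le_toNat (dg k L)
      push_cast
      have := le_max_right (B : ℤ) (((dg k L).toNat : ℤ) + 1)
      omega

/-- Sections of the twisted iterates grow at most like `p ^ n`. -/
theorem exists_h0_le {I : X.IdealSheafData}
    (hI : letI := hC.integral; genericPoint X ∉ (I.support : Set X))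
    (hJ : PicF.IsInvertible (ClSub.idealMod I)) (hJd : dg k (ClSub.idealMod I) = -1)
    {r : ℕ} {G : X.Modules} (hG : FlatMod.IsFinLocFreeOfRank r G) {L : X.Modules}
    (hL : PicF.IsInvertible L) :
    ∃ M : ℕ, ∀ n : ℕ, Curves.Euler.hdim k X
      (CohB1.tensorMod (((Scheme.Modules.pullback (FrobSch.frob X p)).obj)^[n] G) L) 0 ≤ M * p ^ n := by
  obtain ⟨B, hB⟩ := exists_lb_iterate p k r G hG
  refine ⟨r * (B + (dg k L).toNat), fun n => ?_⟩
  have hb : FlatMod.IsFinLocFreeOfRank r
      (CohB1.tensorMod (((Scheme.Modules.pullback (FrobSch.frob X p)).obj)^[n] G) L) := by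
    simpa using LocFree.rank_tensorMod (rank_iterate p hG n) (LocFree.of_isInvertible hL)
  have hl := H0Crit.lb_tensor (k := k) hL (hB n)
  have h := H0Crit.h0_le hI hJ hJd (B * p ^ n + (dg k L).toNat) _ hb (fun M j hj hM =>
    (hl M j hj hM).trans_le (by
      have := Int.self_le_toNat (dg k L)
      push_cast
      linarith))
  have hp1 : 1 ≤ p ^ n := Nat.one_le_pow _ _ (Fact.out : p.Prime).pos
  have h' : Curves.Euler.hdim k X
      (CohB1.tensorMod (((Scheme.Modules.pullback (FrobSch.frob X p)).obj)^[n] G) L) 0 ≤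
      r * (B * p ^ n + (dg k L).toNat) := by exact_mod_cast h
  refine h'.trans ?_
  have : (dg k L).toNat ≤ (dg k L).toNat * p ^ n := Nat.le_mul_of_pos_right _ hp1
  calc r * (B * p ^ n + (dg k L).toNat) ≤ r * (B * p ^ n + (dg k L).toNat * p ^ n) :=
        Nat.mul_le_mul_left r (Nat.add_le_add_left this _)
    _ = r * (B + (dg k L).toNat) * p ^ n := by ring

end Groth.Agent.Lib.CurveBundle.FrobPull
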