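import Groth.Agent.Lib.CurveBundle.GP
import Mathlib.RingTheory.Coprime.Lemmas

/-!
# Weights close to one

Stability for weights in a small interval below `1` against stability for weight `1`: the parabolic
slope inequalities are strict inequalities between integers up to an error smaller than one.
-/

set_option autoImplicit false
universe u

open CategoryTheory Limits AlgebraicGeometry TopologicalSpace

namespace Groth.Agent.Lib.CurveBundle.GPNum

open Groth.Agent.Lib Degree Slope ParSh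

variable {X : Scheme.{u}} {k : Type u} [Field k] [X.Over (Spec (CommRingCat.of k))]
  [hC : CurveCtx k X] {I : X.IdealSheafData} (hI : FGA.IsEffCartier I) {E : X.Modules} {n : ℕ}
  (hE : FlatMod.IsFinLocFreeOfRank n E) (F₁ : Submodule k (fibD X I E))

include hC hI hE

/-- Subsheaves of full rank never destabilize, for weight one as well. -/
lemma mono_le_one {G : X.Modules} (j : G ⟶ E) [Mono j] (hG : FlatMod.IsFinLocFreeOfRank n G) :
    gpDeg k X 1 G (gpInduced k X I j F₁) n ≤ gpDeg k X 1 E F₁ n := by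
  rw [GP.gp_eq hG, GP.gp_eq hE]
  set t := Module.finrank k (gpInduced k X I j F₁)
  set s := Module.finrank k F₁
  have hε : (0 : ℝ) < 1 / ((t : ℝ) + s + 2) := by positivity
  have hε1 : 1 / ((t : ℝ) + s + 2) * ((t : ℝ) + s + 2) = 1 := one_div_mul_cancel (by positivity)
  have hε2 : 1 / ((t : ℝ) + s + 2) ≤ 1 := by
    rw [div_le_one (by positivity)]; linarith [t.cast_nonneg (α := ℝ), s.cast_nonneg (α := ℝ)]
  obtain ⟨h, -⟩ := GP.mono_le hI (α := 1 - 1 / ((t : ℝ) + s + 2)) (by linarith) (by linarith) hG hE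
    (gpInduced k X I j F₁) F₁ j (Submodule.map_comap_le _ _)
  rw [GP.gp_eq hG, GP.gp_eq hE] at h
  have key : (0 : ℤ) ≤ dg k E + s - (dg k G + t) := by
    have : (-1 : ℝ) < ((dg k E + s - (dg k G + t) : ℤ) : ℝ) := by
      push_cast
      nlinarith [mul_nonneg hε.le (s.cast_nonneg (α := ℝ))]
    have : (-1 : ℤ) < dg k E + s - (dg k G + t) := by exact_mod_cast this
    omega
  have : (0 : ℝ) ≤ ((dg k E + s - (dg k G + t) : ℤ) : ℝ) := by exact_mod_cast key
  push_cast at this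
  linarith

/-- Stable implies semistable. -/
lemma ss_of_st {α : ℝ} (hα : (0 ≤ α ∧ α < 1) ∨ α = 1) (h : IsGPStable k X I α F₁ n) :
    IsGPSemistable k X I α F₁ n := by
  intro G r i hi hr hG
  obtain ⟨hGc, -, eG, -⟩ := bundle (k := k) hG
  obtain ⟨hEc, -, eE, -⟩ := bundle (k := k) hE
  have := gr_le_of_mono k i hEc
  rcases lt_or_eq_of_le (show r ≤ n by omega) with h1 | rfl
  · exact (h G r i hi hr h1 hG).le
  · refine mul_le_mul_of_nonneg_right ?_ (Nat.cast_nonneg _)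
    rcases hα with ⟨h0, h1⟩ | rfl
    · exact (GP.mono_le hI h0 h1 hG hE _ F₁ i (Submodule.map_comap_le _ _)).1
    · exact mono_le_one hI hE F₁ i hG

variable {d : ℕ} (hdeg : ∀ (G : X.Modules) (r : ℕ), FlatMod.IsFinLocFreeOfRank r G →
    Module.finrank k (fibD X I G) = r * d)
include hdeg

/-- For a proper subbundle the two slope conditions differ by less than one. -/
lemma exists_int {α : ℝ} (hα1 : α < 1)
    (hα : 1 - 1 / ((d : ℝ) * (n : ℝ) * ((n : ℝ) - 1)) < α) {G : X.Modules} {r : ℕ} (i : G ⟶ E)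
    (hrn : r < n) (hG : FlatMod.IsFinLocFreeOfRank r G) (h0 : 0 < r) (hd : 0 < d) :
    ∃ (Z : ℤ) (e : ℝ), -1 < e ∧ e < 1 ∧
      gpDeg k X 1 E F₁ n * r - gpDeg k X 1 G (gpInduced k X I i F₁) r * n = (Z : ℝ) ∧
      gpDeg k X α E F₁ n * r - gpDeg k X α G (gpInduced k X I i F₁) r * n = (Z : ℝ) - e ∧
      Z = (dg k E + Module.finrank k F₁) * r -
        (dg k G + Module.finrank k (gpInduced k X I i F₁)) * n := by
  have := (ResD.finrank_fib k hI hE).1
  have := (ResD.finrank_fib k hI hG).1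
  set t := Module.finrank k (gpInduced k X I i F₁) with ht
  set s := Module.finrank k F₁ with hs
  have h1 : t ≤ r * d := hdeg G r hG ▸ Submodule.finrank_le _
  have h2 : s ≤ n * d := hdeg E n hE ▸ Submodule.finrank_le _
  have hb1 : (t : ℝ) * n ≤ (d : ℝ) * n * ((n : ℝ) - 1) := by
    have : (t : ℝ) ≤ r * d := by exact_mod_cast h1
    have : (r : ℝ) + 1 ≤ n := by exact_mod_cast hrn
    have : (r : ℝ) * d ≤ ((n : ℝ) - 1) * d := mul_le_mul_of_nonneg_right (by linarith) (Nat.cast_nonneg _)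
    nlinarith [(Nat.cast_nonneg n : (0 : ℝ) ≤ n)]
  have hb2 : (s : ℝ) * r ≤ (d : ℝ) * n * ((n : ℝ) - 1) := by
    have : (s : ℝ) ≤ n * d := by exact_mod_cast h2
    have : (r : ℝ) + 1 ≤ n := by exact_mod_cast hrn
    have : (s : ℝ) * r ≤ (n : ℝ) * d * ((n : ℝ) - 1) :=
      mul_le_mul (by assumption) (by linarith) (Nat.cast_nonneg _) (by positivity)
    linarith
  have hM : (0 : ℝ) < (d : ℝ) * n * ((n : ℝ) - 1) := by
    have : (2 : ℝ) ≤ n := by exact_mod_cast (show 2 ≤ n by omega)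
    have : (0 : ℝ) < d := by exact_mod_cast hd
    exact mul_pos (mul_pos this (by linarith)) (by linarith)
  have hb : (1 - α) * ((d : ℝ) * n * ((n : ℝ) - 1)) < 1 := by
    have h3 : 1 - α < 1 / ((d : ℝ) * (n : ℝ) * ((n : ℝ) - 1)) := by linarith
    exact (lt_div_iff₀ hM).mp h3
  refine ⟨(dg k E + s) * r - (dg k G + t) * n, (1 - α) * ((s : ℝ) * r - t * n), ?_, ?_, ?_, ?_, rfl⟩
  · nlinarith [mul_nonneg (mul_nonneg (show (0 : ℝ) ≤ 1 - α by linarith) s.cast_nonneg)
      (Nat.cast_nonneg r : (0 : ℝ) ≤ r)]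
  · nlinarith [mul_nonneg (mul_nonneg (show (0 : ℝ) ≤ 1 - α by linarith) t.cast_nonneg)
      (Nat.cast_nonneg n : (0 : ℝ) ≤ n)]
  · rw [GP.gp_eq hG, GP.gp_eq hE, ← ht, ← hs]
    push_cast
    ring
  · rw [GP.gp_eq hG, GP.gp_eq hE, ← ht, ← hs]
    push_cast
    ring

variable {α : ℝ} (hα1 : α < 1) (hα : 1 - 1 / ((d : ℝ) * (n : ℝ) * ((n : ℝ) - 1)) < α) (hd : 0 < d)
include hα1 hα hd

lemma ss_one (h : IsGPSemistable k X I α F₁ n) : IsGPSemistable k X I 1 F₁ n := by
  intro G r i hi hr hG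
  obtain ⟨hGc, -, eG, -⟩ := bundle (k := k) hG
  obtain ⟨hEc, -, eE, -⟩ := bundle (k := k) hE
  have := gr_le_of_mono k i hEc
  rcases lt_or_eq_of_le (show r ≤ n by omega) with h1 | rfl
  · obtain ⟨Z, e, he, -, hZ, hZ', -⟩ := exists_int hI hE F₁ hdeg hα1 hα i h1 hG hr hd
    have := h G r i hi hr hG
    have hgt : (-1 : ℝ) < (Z : ℝ) := by linarith
    have hgt' : (-1 : ℤ) < Z := by exact_mod_cast hgt
    have h0 : (0 : ℝ) ≤ (Z : ℝ) := by exact_mod_cast (show (0 : ℤ) ≤ Z by omega)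
    linarith
  · exact mul_le_mul_of_nonneg_right (mono_le_one hI hE F₁ i hG) (Nat.cast_nonneg _)

lemma st_of_one (h : IsGPStable k X I 1 F₁ n) : IsGPStable k X I α F₁ n := by
  intro G r i hi hr h1 hG
  obtain ⟨Z, e, -, he, hZ, hZ', -⟩ := exists_int hI hE F₁ hdeg hα1 hα i h1 hG hr hd
  have := h G r i hi hr h1 hG
  have hgt : (0 : ℝ) < (Z : ℝ) := by linarith
  have hgt' : (0 : ℤ) < Z := by exact_mod_cast hgt
  have h0 : (1 : ℝ) ≤ (Z : ℝ) := by exact_mod_cast (show (1 : ℤ) ≤ Z by omega)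
  linarith

lemma st_one_of_coprime (hcop : IsCoprime (n : ℤ) (dg k E)) {a : ℕ}
    (ha : Module.finrank k F₁ = a * n) (h : IsGPSemistable k X I 1 F₁ n) :
    IsGPStable k X I 1 F₁ n := by
  intro G r i hi hr h1 hG
  obtain ⟨Z, e, -, -, hZ, -, hZe⟩ := exists_int hI hE F₁ hdeg hα1 hα i h1 hG hr hd
  have := h G r i hi hr hG
  refine lt_of_le_of_ne this fun heq => ?_
  have h0 : Z = 0 := by exact_mod_cast (show (Z : ℝ) = 0 by rw [← hZ, heq, sub_self])
  rw [h0, ha] at hZe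
  have hdvd : (n : ℤ) ∣ (r : ℤ) * dg k E :=
    ⟨dg k G + Module.finrank k (gpInduced k X I i F₁) - a * r, by push_cast at hZe; linarith⟩
  have := Int.le_of_dvd (by exact_mod_cast hr) (hcop.dvd_of_dvd_mul_right hdvd)
  omega

end Groth.Agent.Lib.CurveBundle.GPNum
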