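import Groth.Agent.Lib.CurveBundle.HomDeg
import Groth.Agent.Lib.CurveBundle.TwistDrop
import Groth.Agent.Lib.Curves.RationalPoint

/-!
# Bundles in genus one embed in sums of a line bundle of larger slope
-/

set_option autoImplicit false
universe u

open CategoryTheory Limits AlgebraicGeometry Opposite TopologicalSpace

namespace Groth.Agent.Lib.CurveBundle.GenusOneEmbed

open Groth.Agent.Lib Degree Slope TensorMod.Basic GenusOneSplit Groth.Agent.H34.GlobGen

variable {k : Type u} [Field k] {X : Scheme.{u}} [X.Over (Spec (CommRingCat.of k))]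
  [IsProper (X ↘ Spec (CommRingCat.of k))] [hC : CurveCtx k X]

include hC

omit hC in
include k in
/-- Generation at a closed point from the vanishing of `H¹` of the kernel there. -/
theorem gl_eq_top [IsLocallyNoetherian X] {F : X.Modules} (hF : FlatMod.IsFinLocFree F) {x : X}
    (hx : IsClosed ({x} : Set X))
    (h : Subsingleton (Coh.HH X (kernel (DecShLib.GG.res hx F)) 1)) : Gl F x = ⊤ := by
  have := Curves.GlobalSections.isNoetherian_of_proper k X
  set ι := (Curves.PointIdeal.ptI hx).subschemeι with hι
  have hr : Set.range ι = {x} := by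
    rw [hι, Scheme.IdealSheafData.range_subschemeι, Curves.PointIdeal.support_ptI]
  let u : F ⟶ (Scheme.Modules.pushforward ι).obj ((Scheme.Modules.pullback ι).obj F) :=
    DecShLib.GG.res hx F
  have : Epi u := PushClosed.Unit.epi_unit ι F
  let S : ShortComplex X.Modules := ShortComplex.mk (kernel.ι u) u (kernel.condition u)
  have hS : S.ShortExact := { exact := ShortComplex.exact_kernel u }
  have hsurj := H34.HOne.app_top_surjective hS h
  have hQ : Curv2.IsGloballyGenerated S.X₃ := H34.DefAmple.gg_of_torsion fun z hz =>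
    PushClosed.Unit.subsingleton_stalk_push ι _ fun hzr => hz (by
      rw [hr, Set.mem_singleton_iff] at hzr
      exact hzr.symm ▸ hx)
  obtain ⟨V, n, t, hxV, ht⟩ := exists_local_span hF x
  have hfin : Module.Finite (X.presheaf.stalk x) (F.presheaf.stalk x) :=
    ⟨ht x hxV ▸ Submodule.fg_span (Set.finite_range _)⟩
  refine eq_top_iff.2 (Submodule.le_of_le_smul_of_le_jacobson_bot (I := IsLocalRing.maximalIdeal _)
    hfin.fg_top (IsLocalRing.jacobson_eq_maximalIdeal ⊥ bot_ne_top).ge fun v _ => ?_)
  have hle : Gl S.X₃ x ≤ (Gl F x).map (Modules.StalkModule.stalkMapₗ u x) := by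
    rw [Gl, Submodule.span_le]
    rintro _ ⟨m, rfl⟩
    obtain ⟨m', rfl⟩ := hsurj m
    exact ⟨_, Submodule.subset_span ⟨m', rfl⟩, Modules.StalkModule.stalkMapₗ_germ u _ m'⟩
  obtain ⟨w, hw, hwv⟩ := hle (gl_eq_top_of_gg hQ x ▸ Submodule.mem_top :
    Modules.StalkModule.stalkMapₗ u x v ∈ Gl S.X₃ x)
  have key : ∀ p ∈ Set.range ι, ∀ a, Modules.StalkModule.stalkMapₗ u p a = 0 →
      a ∈ IsLocalRing.maximalIdeal (X.presheaf.stalk p) •
        (⊤ : Submodule (X.presheaf.stalk p) (F.presheaf.stalk p)) := by
    rintro p ⟨z, rfl⟩ a h0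
    exact Submodule.smul_mono_left (IsLocalRing.le_maximalIdeal (RingHom.ker_ne_top _))
      (Cyc.Dev.SchemeCase.stalk_kernel_unit_le ι F z a h0)
  have hvw := key x (hr ▸ rfl) (v - w) (by rw [map_sub, hwv, sub_self])
  have := Submodule.add_mem_sup hw hvw
  rwa [add_sub_cancel] at this

/-- In genus one `H¹(𝓗om(Q, G)) = 0` when `G` does not map to `Q`. -/
theorem h1_hom (h0 : Module.finrank k (Coh.HH X (Coh.structureModule X) 0) = 1)
    (hg : Curv2.genus k X = 1) (hdim : topologicalKrullDim X = 1) {n m : ℕ} {Q G : X.Modules}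
    (hQ : FlatMod.IsFinLocFreeOfRank n Q) (hG : FlatMod.IsFinLocFreeOfRank m G)
    (h : ∀ f : G ⟶ Q, f = 0) : Subsingleton (Coh.HH X (_root_.RefHull.homSh Q G) 1) := by
  let _ := hC.integral
  have := hC.locNoeth
  obtain ⟨hVr, -⟩ := HomDeg.hom_facts (k := k) hQ m G hG
  obtain ⟨hQc, -, -, -⟩ := bundle (k := k) hQ
  obtain ⟨A, hA, hA0⟩ := GenusOneSplit.exists_pos k hdim
  by_contra hne
  obtain ⟨M, p, hp, hM, hM1⟩ := LineQuot.exists_line_quot k hA hA0 _ _ hVr
    (not_subsingleton_iff_nontrivial.mp hne)
  obtain ⟨q, hq⟩ := GenusOneSplit.exists_to_O h0 hg hM hM1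
  have := isIso_bidual hQc hQ
  have hc : curry hQc (p ≫ q) ≫ inv (_root_.RefHull.bidualMap Q) = 0 := h _
  rw [Preadditive.IsIso.comp_right_eq_zero] at hc
  exact hq (by rw [← cancel_epi p, eq_zero_of_curry hQc _ hQ hc, comp_zero])

/-- The ideal of a rational point. -/
theorem point_ideal (hdim : topologicalKrullDim X = 1) (s : Spec (CommRingCat.of k) ⟶ X)
    (hs : s ≫ (X ↘ Spec (CommRingCat.of k)) = 𝟙 _) :
    let _ := hC.integral
    ∃ (x : X) (hx : IsClosed ({x} : Set X)),
      genericPoint X ∉ ((Curves.PointIdeal.ptI hx).support : Set X) ∧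
      PicF.IsInvertible (ClSub.idealMod (Curves.PointIdeal.ptI hx)) ∧
      dg k (ClSub.idealMod (Curves.PointIdeal.ptI hx)) = -1 := by
  intro _
  classical
  let _ := hC.integral
  have := hC.locNoeth
  have := hC.noethSpace
  have hx := Curves.RationalPoint.isClosed_pt s hs
  set x := Curves.RationalPoint.pt s
  let I := Curves.PointIdeal.ptI hx
  -- the point
  have hgen : genericPoint X ∉ (I.support : Set X) := by
    rw [Curves.PointIdeal.support_ptI]
    intro h
    have hu : ({x} : Set X) = Set.univ := by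
      rw [← hx.closure_eq, ← Set.mem_singleton_iff.mp h, genericPoint_closure]
    have : Subsingleton X := ⟨fun a b => by
      have ha : a ∈ ({x} : Set X) := hu ▸ Set.mem_univ a
      have hb : b ∈ ({x} : Set X) := hu ▸ Set.mem_univ b
      exact ha.trans hb.symm⟩
    have : Subsingleton (IrreducibleCloseds X) := ⟨fun A B => IrreducibleCloseds.ext (by
      obtain ⟨a, ha⟩ := A.isIrreducible.nonempty
      obtain ⟨b, hb⟩ := B.isIrreducible.nonempty
      ext z
      exact ⟨fun _ => Subsingleton.elim b z ▸ hb, fun _ => Subsingleton.elim a z ▸ ha⟩)⟩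
    have h0 : topologicalKrullDim X ≤ 0 := Order.krullDim_nonpos_of_subsingleton
    rw [hdim] at h0
    exact absurd h0 (by decide)
  obtain ⟨hOc, hOT, eO, -⟩ := SlopeLine.line (k := k) (PicLoc.isInvertible_structureModule X)
  have hQs : Subsingleton ((ClSub.quotMod I).presheaf.stalk (genericPoint X)) :=
    Curves.Degree.isTorsion_quotMod hgen
  have hQ : Coh.IsCoh (ClSub.quotMod I) := Curves.IdealTwist.isCoh_quot I
  have := ClSub.Quot.epi_toSubscheme I
  have := (ClSub.Quot.idealSeq_shortExact I).mono_f
  obtain ⟨hK, hg', -⟩ := kernel_ses k (ClSub.toSubscheme I) hOc hQ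
  have hgQ : gr k (ClSub.quotMod I) = 0 := by
    let _ : Field (X.presheaf.stalk (genericPoint X)) := inferInstanceAs (Field X.functionField)
    exact Module.finrank_zero_of_subsingleton
  have hb := rank_gr k hK (Rank.isTorsionFree_of_mono (kernel.ι (ClSub.toSubscheme I)) hOT)
  have hg'' : gr k (Coh.structureModule X) =
      gr k (kernel (ClSub.toSubscheme I)) + gr k (ClSub.quotMod I) := hg'
  rw [show gr k (kernel (ClSub.toSubscheme I)) = 1 by omega] at hb
  have hI : PicF.IsInvertible (ClSub.idealMod I) := TensorMod.LocFree.isInvertible_of_rank_one hb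
  have hId : dg k (ClSub.idealMod I) = -1 := by
    rw [dg_eq_deg k (TensorMod.LocFree.of_isInvertible hI),
      Curves.Degree.deg_idealMod hdim.le hI hgen]
    have h1 := (Curves.PointIdeal.hdim_quot_point (k := k) hx).trans
      (Curves.RationalPoint.finrank_residueField s hs)
    rw [h1]
    rfl
  exact ⟨x, hx, hgen, hI, hId⟩

/-- A semistable bundle embeds in copies of a line bundle of larger slope. -/
theorem exists_mono (h0 : Module.finrank k (Coh.HH X (Coh.structureModule X) 0) = 1)
    (hg : Curv2.genus k X = 1) (hdim : topologicalKrullDim X = 1)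
    (s : Spec (CommRingCat.of k) ⟶ X) (hs : s ≫ (X ↘ Spec (CommRingCat.of k)) = 𝟙 _)
    {F L : X.Modules} {r : ℕ} (hr : 0 < r) (hF : FlatMod.IsFinLocFreeOfRank r F) (hss : SS k F)
    (hL : PicF.IsInvertible L) (hd : dg k F < (dg k L - 1) * (r : ℤ)) :
    ∃ (M : ℕ), 0 < M ∧ ∃ (j : F ⟶ ∐ fun _ : Fin M => L), Mono j := by
  classical
  let _ := hC.integral
  have := hC.locNoeth
  have := hC.noethSpace
  obtain ⟨x, hx, hgen, hI, hId⟩ := point_ideal (k := k) hdim s hs
  set I := Curves.PointIdeal.ptI hx
  obtain ⟨hFc, hFT, eF, -⟩ := bundle (k := k) hF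
  obtain ⟨hLc, -, eL, -⟩ := SlopeLine.line (k := k) hL
  -- no homomorphisms from `L (-x)`
  have hL' := TensorMod.Invertible.isInvertible_tensorMod hL hI
  obtain ⟨hL'c, -, eL', -⟩ := SlopeLine.line (k := k) hL'
  obtain ⟨-, dL'⟩ := Twist.gr_dg_twist k hI hLc
  rw [eL, hId] at dL'
  have hL'b := TensorMod.LocFree.of_isInvertible hL'
  have hhom : ∀ f : CohB1.tensorMod L (ClSub.idealMod I) ⟶ F, f = 0 := fun f =>
    hom_eq_zero_of_lt (ss_of_st hL'b (SlopeLine.st_line hL')) hss hL'c hFc hFT (by omega)
      (by rw [eL', eF, dL']; push_cast; linarith) f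
  have h1 := h1_hom h0 hg hdim hF hL'b hhom
  set V := _root_.RefHull.homSh F L
  obtain ⟨hVb, -⟩ := HomDeg.hom_facts (k := k) hF 1 L (TensorMod.LocFree.of_isInvertible hL)
  have := HomSheaf.Basic.isIso_tens (G := L) hFc hI
  have h1' : Subsingleton (Coh.HH X (CohB1.tensorMod V (ClSub.idealMod I)) 1) :=
    (Curves.LES.isoK k (asIso (HomSheaf.Basic.tens F L (ClSub.idealMod I))) 1).toEquiv.subsingleton
  -- generation at `x`
  set res := DecShLib.GG.res hx V
  obtain ⟨hm, hq⟩ := Point.mono_twist k (I := I) hgen hI hVb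
  set u := tmap (𝟙 V) (ClSub.idealModι I) ≫ (rightUnit V).hom with hu
  let v : CohB1.tensorMod V (ClSub.idealMod I) ⟶ kernel res :=
    kernel.lift res u (TwistDrop.twist_res_eq_zero hx V)
  have hv : v ≫ kernel.ι res = u := kernel.lift_ι _ _ _
  haveI : Mono v := mono_of_mono_fac hv
  obtain ⟨hVc, -, eV, -⟩ := bundle (k := k) hVb
  have hc1 := Twist.isCoh hI hVc
  have eg := (Twist.gr_dg_twist k hI hVc).1
  obtain ⟨-, hgu, -⟩ := cokernel_ses k u hc1 hVc
  have hKc : Coh.IsCoh (kernel res) := Vanishing.isCoh_kernel_res hx hVc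
  obtain ⟨hcv, hgv, -⟩ := cokernel_ses k v hc1 hKc
  have hle : gr k (kernel res) ≤ gr k V := gr_le_of_mono k (kernel.ι res) hVc
  have hz : gr k (cokernel v) = 0 := by
    replace hq : gr k (cokernel u) = 0 := hq
    omega
  have hsurj := Curves.Clifford.mapK_surjective_one k hdim.le v
    (isTorsion k (Rank.subsingleton_of_grank_eq_zero hcv hz))
  have hglx := gl_eq_top (k := k) (TensorMod.LocFree.of_rank hVb) hx hsurj.subsingleton
  have hspec : genericPoint X ⤳ x := specializes_iff_mem_closure.mpr (by simp [genericPoint_closure])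
  have hgl := DecShLib.GG.gl_of_specializes (TensorMod.LocFree.of_rank hVb) hspec hglx
  -- the embedding
  have := (hC.good _ hVc).fin₀
  let B := Module.finBasis k (Coh.HH X V 0)
  let n := Module.finrank k (Coh.HH X V 0)
  let φ : Fin n → (F ⟶ L) := fun i =>
    HomSheaf.Basic.topEquiv.symm (Curves.GlobalSections.h0Equiv V (B i))
  let j : F ⟶ ∐ fun _ : Fin n => L := ∑ i, φ i ≫ Sigma.ι (fun _ : Fin n => L) i
  have hj : Mono j := by
    have := hFc.1
    refine Rank.mono_of_generic_injective hFT j ((injective_iff_map_eq_zero _).mpr fun w hw => ?_)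
    have hproj : ∀ l, Modules.StalkModule.stalkMapₗ (φ l) (genericPoint X) w = 0 := by
      intro l
      let π : (∐ fun _ : Fin n => L) ⟶ L := Sigma.desc fun i => if i = l then 𝟙 _ else 0
      have : j ≫ π = φ l := by
        simp only [j, π, Preadditive.sum_comp, Category.assoc]
        rw [Finset.sum_eq_single l]
        · simp
        · intro i _ hi
          simp [hi]
        · simp
      rw [← this, Modules.StalkModule.stalkMapₗ_comp, LinearMap.comp_apply, hw, map_zero]
    have hall : ∀ θ, _root_.RefHull.evalStalk F L (genericPoint X) θ w = 0 := by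
      intro θ
      have hθ : θ ∈ Gl V (genericPoint X) := hgl ▸ Submodule.mem_top
      induction hθ using Submodule.span_induction with
      | mem θ hθ =>
        obtain ⟨t, rfl⟩ := hθ
        let ev : Coh.HH X V 0 →+ L.presheaf.stalk (genericPoint X) :=
          { toFun := fun z => _root_.RefHull.evalStalk F L (genericPoint X)
              (V.presheaf.germ ⊤ (genericPoint X) trivial (Curves.GlobalSections.h0Equiv V z)) w
            map_zero' := (congrArg (fun t => _root_.RefHull.evalStalk F L (genericPoint X)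
                (V.presheaf.germ ⊤ (genericPoint X) trivial t) w) (map_zero _)).trans (by
              erw [map_zero, map_zero]; rfl)
            map_add' := fun a b => by
              erw [map_add, map_add, map_add]; rfl }
        suffices ∀ z, ev z = 0 by
          obtain ⟨z, rfl⟩ := (Curves.GlobalSections.h0Equiv V).surjective t
          exact this z
        intro z
        rw [← B.sum_repr z, map_sum]
        refine Finset.sum_eq_zero fun i _ => ?_
        change _root_.RefHull.evalStalk F L (genericPoint X)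
          (V.presheaf.germ ⊤ (genericPoint X) trivial
            (Curves.GlobalSections.h0Equiv V (Coh.toGlobal (X ↘ Spec (CommRingCat.of k)) (B.repr z i) • B i))) w = 0
        rw [Curves.GlobalSections.h0Equiv_smul]
        erw [Modules.StalkModule.germ_smul (M := V) (U := ⊤) (x := genericPoint X) trivial]
        rw [map_smul, LinearMap.smul_apply, _root_.RefHull.evalStalk_germ]
        refine smul_eq_zero_of_right _ ?_
        rw [← HomSheaf.Basic.topEquiv.apply_symm_apply (Curves.GlobalSections.h0Equiv V (B i))]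
        exact hproj i
      | zero => rw [map_zero]; rfl
      | add a b _ _ ha hb => rw [map_add, LinearMap.add_apply, ha, hb, add_zero]
      | smul c a _ ha => rw [map_smul, LinearMap.smul_apply, ha, smul_zero]
    obtain ⟨b⟩ := Coherent.exists_basis_stalk hF (genericPoint X)
    obtain ⟨bL⟩ := Coherent.exists_basis_stalk (TensorMod.LocFree.of_isInvertible hL) (genericPoint X)
    apply b.repr.injective
    rw [map_zero]
    ext i
    obtain ⟨θ, hθ⟩ := (RefHull.HomSh.evalStalk_bijective (F := F) (G := L) hFc (genericPoint X)).2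
      ((b.coord i).smulRight (bL 0))
    have h2 := hall θ
    rw [hθ] at h2
    have h3 := congrArg (fun y => bL.repr y 0) h2
    simpa using h3
  refine ⟨n, Nat.pos_of_ne_zero fun hn0 => ?_, j, hj⟩
  have : IsEmpty (Fin n) := by rw [hn0]; infer_instance
  have hz0 : IsZero F := by
    rw [IsZero.iff_id_eq_zero, ← cancel_mono j, zero_comp, Category.id_comp]
    exact Finset.sum_of_isEmpty _
  have := gr_of_isZero k hz0
  omega

omit [IsProper (X ↘ Spec (CommRingCat.of k))] in
/-- A sheaf mapping jointly injectively to a semistable bundle has at most its slope. -/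
theorem slope_le_of_family {E : X.Modules} {e : ℕ} (he : 0 < e) (hE : FlatMod.IsFinLocFreeOfRank e E)
    (hss : SS k E) :
    ∀ (n : ℕ) (G : X.Modules), Coh.IsCoh G → TorSh.IsTorsionFree G → ∀ ψ : Fin n → (G ⟶ E),
      (∀ (H : X.Modules) (a : H ⟶ G), (∀ l, a ≫ ψ l = 0) → a = 0) →
      dg k G * (e : ℤ) ≤ dg k E * (gr k G : ℤ) := by
  let _ := hC.integral
  have := hC.locNoeth
  obtain ⟨hEc, hET, eE, -⟩ := bundle (k := k) hE
  intro n
  induction n with
  | zero =>
    intro G hG hT ψ hj
    have hz : IsZero G := (IsZero.iff_id_eq_zero G).mpr (hj G (𝟙 G) fun l => l.elim0)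
    rw [dg_of_isZero k hz hG, gr_of_isZero k hz]
    simp
  | succ n ih =>
    intro G hG hT ψ hj
    obtain ⟨J, p, i, _, _, hpi, hJ, hK, hg, hd⟩ := exists_image k (ψ 0) hG hEc
    have h2 := hss J i inferInstance hJ
    rw [eE] at h2
    have h3 := ih (kernel (ψ 0)) hK (Rank.isTorsionFree_of_mono (kernel.ι (ψ 0)) hT)
      (fun l => kernel.ι (ψ 0) ≫ ψ l.succ) fun H a ha => by
        rw [← cancel_mono (kernel.ι (ψ 0)), zero_comp]
        refine hj H _ fun l => ?_
        refine Fin.cases ?_ (fun l => ?_) l
        · rw [Category.assoc, kernel.condition, comp_zero]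
        · rw [Category.assoc]; exact ha l
    rw [hd, hg]
    push_cast
    linarith

/-- Subsheaves of a tensor product with a bundle embedded in copies of a line bundle. -/
theorem slope_tensor_le {F F' L G : X.Modules} {r s t M : ℕ} (hF : FlatMod.IsFinLocFreeOfRank r F)
    (hs : 0 < s) (hF' : FlatMod.IsFinLocFreeOfRank s F') (hss : SS k F') (hL : PicF.IsInvertible L)
    (j : F ⟶ ∐ fun _ : Fin M => L) [Mono j] (hG : FlatMod.IsFinLocFreeOfRank t G)
    (i : G ⟶ CohB1.tensorMod F F') [Mono i] :
    dg k G * (s : ℤ) ≤ (dg k F' + (s : ℤ) * dg k L) * (t : ℤ) := by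
  classical
  let _ := hC.integral
  have := hC.locNoeth
  obtain ⟨hF'c, -, eF', -⟩ := bundle (k := k) hF'
  obtain ⟨hGc, hGT, eG, -⟩ := bundle (k := k) hG
  have hb : FlatMod.IsFinLocFreeOfRank s (CohB1.tensorMod F' L) := by
    simpa using TensorMod.LocFree.rank_tensorMod hF' (TensorMod.LocFree.of_isInvertible hL)
  let π : Fin M → ((∐ fun _ : Fin M => L) ⟶ L) := fun l =>
    Sigma.desc fun i => if i = l then 𝟙 _ else 0
  let ψ : Fin M → (G ⟶ CohB1.tensorMod F' L) := fun l =>
    i ≫ tmap (j ≫ π l) (𝟙 F') ≫ (comm L F').hom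
  have h := slope_le_of_family (k := k) hs hb (Sections.ss_twist hL hF'c hss) M G hGc hGT ψ
    fun H a ha => by
      rw [← cancel_mono i, zero_comp]
      have hTb := TensorMod.LocFree.isFinLocFree_tensorMod
        (TensorMod.LocFree.of_rank hF) (TensorMod.LocFree.of_rank hF')
      have := Coherent.isQCoh hTb
      refine Rank.eq_zero_of_generic ?_ (a ≫ i) ?_
      · exact Coherent.isTorsionFree (TensorMod.LocFree.isFinLocFree_tensorMod
          (TensorMod.LocFree.of_rank hF) (TensorMod.LocFree.of_rank hF'))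
      let η := genericPoint X
      let _ : Field (X.presheaf.stalk η) := inferInstanceAs (Field X.functionField)
      -- a left inverse of `j` at the generic point
      have hid : 𝟙 (∐ fun _ : Fin M => L) = ∑ l, π l ≫ Sigma.ι (fun _ : Fin M => L) l := by
        refine Sigma.hom_ext _ _ fun i => ?_
        rw [Category.comp_id, Preadditive.comp_sum, Finset.sum_eq_single i]
        · simp [π]
        · intro l _ hl
          simp [π, Ne.symm hl]
        · simp
      obtain ⟨g, hg⟩ := LinearMap.exists_leftInverse_of_injective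
        (Modules.StalkModule.stalkMapₗ j η) (LinearMap.ker_eq_bot.mpr
          ((Modules.StalkModule.mono_iff_stalkMapₗ_injective j).mp inferInstance η))
      let add : (F ⟶ ∐ fun _ : Fin M => L) →+
          (F.presheaf.stalk η →ₗ[X.presheaf.stalk η] (∐ fun _ : Fin M => L).presheaf.stalk η) :=
        { toFun := fun φ => Modules.StalkModule.stalkMapₗ φ η
          map_zero' := Modules.StalkModule.stalkMapₗ_zero η
          map_add' := fun φ φ' => Modules.StalkModule.stalkMapₗ_add φ φ' η }
      have hsum : LinearMap.id = ∑ l, (g.comp (Modules.StalkModule.stalkMapₗ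
          (Sigma.ι (fun _ : Fin M => L) l) η)).comp (Modules.StalkModule.stalkMapₗ (j ≫ π l) η) := by
        have h1 : Modules.StalkModule.stalkMapₗ j η = ∑ l, add ((j ≫ π l) ≫ Sigma.ι (fun _ : Fin M => L) l) := by
          rw [← map_sum]
          change _ = Modules.StalkModule.stalkMapₗ _ η
          congr 1
          calc j = j ≫ 𝟙 _ := (Category.comp_id j).symm
            _ = _ := by rw [hid, Preadditive.comp_sum]; simp only [Category.assoc]
        rw [← hg, h1]
        refine LinearMap.ext fun v => ?_
        simp only [LinearMap.comp_apply, LinearMap.sum_apply, map_sum]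
        refine Finset.sum_congr rfl fun l _ => congrArg g ?_
        exact LinearMap.congr_fun (Modules.StalkModule.stalkMapₗ_comp _ _ η) v
      refine LinearMap.ext fun z => ?_
      set w := Modules.StalkModule.stalkMapₗ (a ≫ i) η z
      have hw : ∀ l, Modules.StalkModule.stalkMapₗ (tmap (j ≫ π l) (𝟙 F')) η w = 0 := by
        intro l
        have h1 : (a ≫ i) ≫ tmap (j ≫ π l) (𝟙 F') = 0 := by
          rw [← cancel_mono (comm L F').hom, zero_comp, ← ha l]
          simp [ψ]
        rw [← LinearMap.comp_apply, ← Modules.StalkModule.stalkMapₗ_comp, h1,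
          Modules.StalkModule.stalkMapₗ_zero, LinearMap.zero_apply]
      let T := RefHull.Tensor.tStalk F F' η
      apply T.injective
      rw [LinearMap.zero_apply, map_zero]
      have hT : ∀ l, LinearMap.rTensor _ (Modules.StalkModule.stalkMapₗ (j ≫ π l) η) (T w) = 0 := by
        intro l
        obtain ⟨v, hv⟩ : ∃ v, T w = v := ⟨_, rfl⟩
        have hw' := hw l
        rw [← T.symm_apply_apply w, hv] at hw'
        rw [hv]
        apply (RefHull.Tensor.tStalk L F' η).symm.injective
        rw [map_zero, ← hw']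
        clear hw' hv
        induction v using TensorProduct.induction_on with
        | zero => simp
        | tmul p q =>
          rw [LinearMap.rTensor_tmul]
          refine Eq.symm ((HomSheaf.Basic.stalkMap_tmap (j ≫ π l) (𝟙 F') η p q).trans ?_)
          exact congrArg (fun q' => RefHull.Tensor.pair η _ q')
            (LinearMap.congr_fun (Modules.StalkModule.stalkMapₗ_id η) q)
        | add p q hp hq => simp only [map_add, hp, hq]
      calc T w = LinearMap.rTensor _ LinearMap.id (T w) := by rw [LinearMap.rTensor_id]; rfl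
        _ = 0 := by
          rw [hsum, ← LinearMap.coe_rTensorHom, map_sum, LinearMap.sum_apply]
          refine Finset.sum_eq_zero fun l _ => ?_
          rw [LinearMap.coe_rTensorHom, LinearMap.rTensor_comp, LinearMap.comp_apply, hT l, map_zero]
  obtain ⟨g', d'⟩ := Twist.gr_dg_twist k hL hF'c
  rw [d', eF', eG] at h
  exact h

end Groth.Agent.Lib.CurveBundle.GenusOneEmbed
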