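import Groth.Agent.Lib.CurveBundle.EvalKernel

/-!
# Semistable bundles of every rank and degree in genus one
-/

set_option autoImplicit false
universe u

open CategoryTheory Limits AlgebraicGeometry Opposite TopologicalSpace

namespace Groth.Agent.Lib.CurveBundle.GenusOneExists

open Groth.Agent.Lib Degree Slope TensorMod.Basic

variable (k : Type u) [Field k] [IsAlgClosed k] {X : Scheme.{u}} [X.Over (Spec (CommRingCat.of k))]
  [IsProper (X ↘ Spec (CommRingCat.of k))] [IsIntegral X] [hC : CurveCtx k X]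

include hC

/-- Semistable bundles of every rank and degree. -/
theorem exists_ss (hdim : topologicalKrullDim X = 1)
    (h0 : Module.finrank k (Coh.HH X (Coh.structureModule X) 0) = 1)
    (hg : Curv2.genus k X = 1) :
    ∀ (r : ℕ), 0 < r → ∀ d : ℤ, ∃ F : X.Modules,
      FlatMod.IsFinLocFreeOfRank r F ∧ dg k F = d ∧ SS k F := by
  obtain ⟨A, hA, hA1⟩ := Vanishing.exists_pos_ctx (k := k) hdim
  intro r
  induction r using Nat.strong_induction_on with
  | _ r ih =>
  intro hr d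
  -- twist by a line bundle
  suffices ∀ e : ℤ, (r : ℤ) ∣ d - e → (∃ F : X.Modules,
      FlatMod.IsFinLocFreeOfRank r F ∧ dg k F = e ∧ SS k F) → ∃ F : X.Modules,
      FlatMod.IsFinLocFreeOfRank r F ∧ dg k F = d ∧ SS k F by
    -- `-D ≡ d` with `r < D ≤ 2 r`
    let t : ℤ := (-d - (r : ℤ) - 1) % (r : ℤ)
    have hr' : (0 : ℤ) < r := by exact_mod_cast hr
    have ht0 : 0 ≤ t := Int.emod_nonneg _ (by omega)
    have htr : t < r := Int.emod_lt_of_pos _ hr'
    obtain ⟨n, hn⟩ : ∃ n : ℕ, (n : ℤ) = t + 1 := ⟨(t + 1).toNat, by omega⟩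
    have hdvd : (r : ℤ) ∣ d - -((n : ℤ) + r) := by
      refine ⟨-((-d - (r : ℤ) - 1) / (r : ℤ)), ?_⟩
      have := Int.emod_add_mul_ediv (-d - (r : ℤ) - 1) (r : ℤ)
      rw [hn]
      linarith
    rcases (show n ≤ r by omega).lt_or_eq with hlt | rfl
    · obtain ⟨F, hF, hFd, hFs⟩ := ih n hlt (by omega) ((n : ℤ) + r)
      obtain ⟨K, hK, hKd, hKs⟩ := EvalKernel.exists_kernel k hA (by omega) h0 hg hdim
        (D := n + r) (show 0 < n by omega) (by omega) hF (by rw [hFd]; push_cast; rfl) hFs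
      rw [Nat.add_sub_cancel_left] at hK
      refine this _ hdvd ⟨K, hK, ?_, hKs⟩
      rw [hKd]; push_cast; rfl
    · refine this 0 ?_ ⟨_, TensorMod.LocFree.isFinLocFree_freeMod X n,
        (EvalKernel.free_facts k n).1, (EvalKernel.free_facts k n).2⟩
      obtain ⟨c, hc⟩ := hdvd
      exact ⟨c - 2, by linarith⟩
  intro e ⟨c, hc⟩ ⟨F, hF, hFd, hFs⟩
  obtain ⟨N, hN, hNd⟩ := RankTwoExt.exists_deg (k := k) hA hA1 c
  obtain ⟨hFc, -, eF, -⟩ := bundle (k := k) hF
  refine ⟨CohB1.tensorMod F N,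
    by simpa using TensorMod.LocFree.rank_tensorMod hF (TensorMod.LocFree.of_isInvertible hN), ?_,
    Sections.ss_twist hN hFc hFs⟩
  rw [(Twist.gr_dg_twist k hN hFc).2, hFd, eF, hNd]
  linarith

end Groth.Agent.Lib.CurveBundle.GenusOneExists
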