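import Groth.Agent.Lib.CurveBundle.SlopeSES
import Mathlib.Data.Nat.Factorial.Basic

/-!
# The maximal destabilising subsheaf
-/

set_option autoImplicit false
universe u

open CategoryTheory Limits AlgebraicGeometry TopologicalSpace

namespace Groth.Agent.Lib.CurveBundle.SlopeMax

open Groth.Agent.Lib Degree Slope

variable {k : Type u} [Field k] {X : Scheme.{u}} [X.Over (Spec (CommRingCat.of k))]
  [hC : CurveCtx k X] {E : X.Modules}

include hC

/-- A subsheaf of maximal slope, and of maximal rank among those. -/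
theorem exists_max (hEc : Coh.IsCoh E) (hET : TorSh.IsTorsionFree E) (hr : 0 < gr k E) :
    ∃ (G : X.Modules) (i : G ⟶ E), Mono i ∧ Coh.IsCoh G ∧ 0 < gr k G ∧
      (∀ (H : X.Modules) (j : H ⟶ E), Mono j → Coh.IsCoh H →
        dg k H * (gr k G : ℤ) ≤ dg k G * (gr k H : ℤ)) ∧
      (∀ (H : X.Modules) (j : H ⟶ E), Mono j → Coh.IsCoh H →
        dg k H * (gr k G : ℤ) = dg k G * (gr k H : ℤ) → gr k H ≤ gr k G) := by
  obtain ⟨N, hN⟩ := exists_bound k hEc
  let R : ℕ := (gr k E).factorial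
  have hdvd : ∀ n, 0 < n → n ≤ gr k E → (n : ℤ) * ((R / n : ℕ) : ℤ) = R := fun n h0 hle => by
    exact_mod_cast Nat.mul_div_cancel' (Nat.dvd_factorial h0 hle)
  let S : ℤ → Prop := fun v => ∃ (G : X.Modules) (i : G ⟶ E), Mono i ∧ Coh.IsCoh G ∧ 0 < gr k G ∧
    v = dg k G * ((R / gr k G : ℕ) : ℤ) * (gr k E + 1) + gr k G
  have hb : ∀ v, S v → v ≤ |N| * R * (gr k E + 1) + gr k E := by
    rintro v ⟨G, i, hi, hG, h0, rfl⟩
    have hle := gr_le_of_mono k i hEc
    have h1 : dg k G * ((R / gr k G : ℕ) : ℤ) ≤ |N| * R :=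
      (mul_le_mul_of_nonneg_right ((hN G i hi hG).trans (le_abs_self N)) (Int.natCast_nonneg _)).trans
        (mul_le_mul_of_nonneg_left (by exact_mod_cast Nat.div_le_self _ _) (abs_nonneg _))
    have h2 : (gr k G : ℤ) ≤ gr k E := by exact_mod_cast hle
    have := mul_le_mul_of_nonneg_right h1 (show (0 : ℤ) ≤ gr k E + 1 by positivity)
    linarith
  obtain ⟨_, ⟨G, i, hi, hG, h0, rfl⟩, hmax⟩ :=
    Int.exists_greatest_of_bdd ⟨_, hb⟩ ⟨_, E, 𝟙 E, inferInstance, hEc, hr, rfl⟩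
  have hle := gr_le_of_mono k i hEc
  have key : ∀ (H : X.Modules) (j : H ⟶ E), Mono j → Coh.IsCoh H → 0 < gr k H →
      dg k H * (gr k G : ℤ) ≤ dg k G * (gr k H : ℤ) ∧
      (dg k H * (gr k G : ℤ) = dg k G * (gr k H : ℤ) → gr k H ≤ gr k G) := by
    intro H j hj hH hH0
    have hle' := gr_le_of_mono k j hEc
    have h := hmax _ ⟨H, j, hj, hH, hH0, rfl⟩
    have e1 : dg k H * ((R / gr k H : ℕ) : ℤ) * (gr k H * gr k G) = dg k H * gr k G * R := by
      rw [← hdvd _ hH0 hle']; ring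
    have e2 : dg k G * ((R / gr k G : ℕ) : ℤ) * (gr k H * gr k G) = dg k G * gr k H * R := by
      rw [← hdvd _ h0 hle]; ring
    have hR : (0 : ℤ) < R := by exact_mod_cast Nat.factorial_pos _
    have hp : (0 : ℤ) < gr k H * gr k G := by positivity
    have hG' : (gr k G : ℤ) ≤ gr k E := by exact_mod_cast hle
    constructor
    · refine le_of_mul_le_mul_right ?_ hR
      rw [← e1, ← e2]
      refine mul_le_mul_of_nonneg_right ?_ hp.le
      by_contra! hlt
      nlinarith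
    · intro he
      have : dg k H * ((R / gr k H : ℕ) : ℤ) = dg k G * ((R / gr k G : ℕ) : ℤ) :=
        mul_right_cancel₀ hp.ne' (by rw [e1, e2, he])
      rw [this] at h
      omega
  refine ⟨G, i, hi, hG, h0, fun H j hj hH => ?_, fun H j hj hH => ?_⟩
  · rcases Nat.eq_zero_or_pos (gr k H) with hz | hz
    · simp [(sub_zero_rank j hH hET hz).2, hz]
    · exact (key H j hj hH hz).1
  · rcases Nat.eq_zero_or_pos (gr k H) with hz | hz
    · exact fun _ => by omega
    · exact (key H j hj hH hz).2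

/-- A subsheaf of maximal slope and rank: the quotient has smaller slopes. -/
lemma drop_of_max {G : X.Modules} (i : G ⟶ E) [Mono i] (hEc : Coh.IsCoh E) (hG : Coh.IsCoh G)
    (h1 : ∀ (H : X.Modules) (j : H ⟶ E), Mono j → Coh.IsCoh H →
      dg k H * (gr k G : ℤ) ≤ dg k G * (gr k H : ℤ))
    (h2 : ∀ (H : X.Modules) (j : H ⟶ E), Mono j → Coh.IsCoh H →
      dg k H * (gr k G : ℤ) = dg k G * (gr k H : ℤ) → gr k H ≤ gr k G)
    {Q : X.Modules} (q : Q ⟶ cokernel i) [Mono q] (hQ : Coh.IsCoh Q) (hQ0 : 0 < gr k Q) :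
    dg k Q * (gr k G : ℤ) < dg k G * (gr k Q : ℤ) := by
  obtain ⟨hc, g₁, d₁⟩ := cokernel_ses k i hG hEc
  obtain ⟨-, g₂, d₂⟩ := kernel_ses k (cokernel.π i) hEc hc
  obtain ⟨P, e, he, hP, hg, hd⟩ := SlopeSES.preimage (k := k) (cokernel.π i) q hEc hc hQ
  have hgK : gr k (kernel (cokernel.π i)) = gr k G := by omega
  have hdK : dg k (kernel (cokernel.π i)) = dg k G := by omega
  rw [hgK] at hg
  rw [hdK] at hd
  have h := h1 P e he hP
  rcases h.lt_or_eq with hlt | heq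
  · rw [hd, hg, Nat.cast_add, add_mul, mul_add] at hlt
    linarith
  · have := h2 P e he hP heq
    omega

/-- A subsheaf with maximal slope and dropping quotient slopes receives all others with them. -/
lemma factors {G G' : X.Modules} (i : G ⟶ E) [Mono i] (i' : G' ⟶ E) [Mono i']
    (hEc : Coh.IsCoh E) (hET : TorSh.IsTorsionFree E) (hG : Coh.IsCoh G) (hG' : Coh.IsCoh G')
    (h0 : 0 < gr k G)
    (h1 : ∀ (H : X.Modules) (j : H ⟶ E), Mono j → Coh.IsCoh H →
      dg k H * (gr k G : ℤ) ≤ dg k G * (gr k H : ℤ))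
    (hdrop : ∀ (Q : X.Modules) (q : Q ⟶ cokernel i), Mono q → Coh.IsCoh Q →
      TorSh.IsTorsionFree Q → 0 < gr k Q → dg k Q * (gr k G : ℤ) < dg k G * (gr k Q : ℤ))
    (hμ : dg k G' * (gr k G : ℤ) = dg k G * (gr k G' : ℤ)) :
    ∃ a : G' ⟶ G, a ≫ i = i' := by
  let _ := hC.integral
  have := hC.locNoeth
  -- the quotient is torsion-free
  have hTc : TorSh.IsTorsionFree (cokernel i) := by
    obtain ⟨S, j, a, _, _, haj, hS, hgr, hT, -⟩ := Saturation.exists_saturation i hG hEc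
    have hgr' : gr k S = gr k G := hgr
    have h := h1 S j ‹_› hS
    rw [hgr'] at h
    have hd : dg k G = dg k S := le_antisymm (dg_le_of_mono k a hG hS hgr'.symm)
      (le_of_mul_le_mul_right h (by exact_mod_cast h0))
    have := isIso_of_mono k a hG hS hgr'.symm hd
    exact Rank.isTorsionFree_of_mono
      (cokernelIsoOfEq haj.symm ≪≫ cokernelEpiComp a j).hom hT
  have hc := CohBasics.Closure.isCoh_cokernel i hG.1 hEc
  let u := i' ≫ cokernel.π i
  obtain ⟨I, p, j, hp, hj, hpj, hI, hK, hg, hd⟩ := exists_image k u hG' hc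
  have hu : u = 0 := by
    refine eq_zero_of_image k p j hpj hI hTc (Nat.eq_zero_of_not_pos fun hI0 => ?_)
    have a1 := hdrop I j hj hI (Rank.isTorsionFree_of_mono j hTc) hI0
    have a2 := h1 _ (kernel.ι u ≫ i') (mono_comp _ _) hK
    rw [hd, hg, Nat.cast_add, add_mul, mul_add] at hμ
    linarith
  exact ⟨Abelian.monoLift i i' hu, Abelian.monoLift_comp i i' hu⟩

/-- Uniqueness of the maximal destabilising subsheaf. -/
lemma unique {G G' : X.Modules} (i : G ⟶ E) [Mono i] (i' : G' ⟶ E) [Mono i']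
    (hEc : Coh.IsCoh E) (hET : TorSh.IsTorsionFree E) (hG : Coh.IsCoh G) (hG' : Coh.IsCoh G')
    (h0 : 0 < gr k G) (h0' : 0 < gr k G')
    (h1 : ∀ (H : X.Modules) (j : H ⟶ E), Mono j → Coh.IsCoh H →
      dg k H * (gr k G : ℤ) ≤ dg k G * (gr k H : ℤ))
    (h1' : ∀ (H : X.Modules) (j : H ⟶ E), Mono j → Coh.IsCoh H →
      dg k H * (gr k G' : ℤ) ≤ dg k G' * (gr k H : ℤ))
    (hdrop : ∀ (Q : X.Modules) (q : Q ⟶ cokernel i), Mono q → Coh.IsCoh Q →
      TorSh.IsTorsionFree Q → 0 < gr k Q → dg k Q * (gr k G : ℤ) < dg k G * (gr k Q : ℤ))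
    (hdrop' : ∀ (Q : X.Modules) (q : Q ⟶ cokernel i'), Mono q → Coh.IsCoh Q →
      TorSh.IsTorsionFree Q → 0 < gr k Q → dg k Q * (gr k G' : ℤ) < dg k G' * (gr k Q : ℤ)) :
    ∃ e : G ≅ G', e.hom ≫ i' = i := by
  have hμ : dg k G' * (gr k G : ℤ) = dg k G * (gr k G' : ℤ) :=
    le_antisymm (h1 G' i' ‹_› hG') (h1' G i ‹_› hG)
  obtain ⟨a, ha⟩ := factors i i' hEc hET hG hG' h0 h1 hdrop hμ
  obtain ⟨b, hb⟩ := factors i' i hEc hET hG' hG h0' h1' hdrop' hμ.symm
  exact ⟨⟨b, a, by rw [← cancel_mono i, Category.assoc, ha, hb, Category.id_comp],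
    by rw [← cancel_mono i', Category.assoc, hb, ha, Category.id_comp]⟩, hb⟩

end Groth.Agent.Lib.CurveBundle.SlopeMax
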