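import Groth.Agent.Lib.CurveBundle.LineQuot
import Groth.Agent.Lib.CurveBundle.Point
import Groth.Agent.Lib.DecSh.GG

/-!
# Vanishing and global generation for semistable bundles of large slope
-/

set_option autoImplicit false
universe u

open CategoryTheory Limits AlgebraicGeometry Opposite TopologicalSpace

namespace Groth.Agent.Lib.CurveBundle.Vanishing

open Groth.Agent.Lib Degree Slope TensorMod.Basic TensorMod.Dual

variable {k : Type u} [Field k] {X : Scheme.{u}} [X.Over (Spec (CommRingCat.of k))]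
  [hC : CurveCtx k X] {E : X.Modules} {r : ℕ}

include hC

/-- Line quotients of a semistable bundle. -/
lemma quot_line (hE : FlatMod.IsFinLocFreeOfRank r E) (h : SS k E) {M : X.Modules} (p : E ⟶ M)
    [Epi p] (hM : PicF.IsInvertible M) : dg k E ≤ dg k M * (r : ℤ) := by
  obtain ⟨hEc, -, eE, -⟩ := bundle (k := k) hE
  obtain ⟨hMc, -, eM, -⟩ := SlopeLine.line (k := k) hM
  simpa [eE, eM] using quot_ge h hEc hMc p

/-- Line quotients of a stable bundle of higher rank. -/
lemma quot_line_strict (hr : 2 ≤ r) (hE : FlatMod.IsFinLocFreeOfRank r E) (h : ST k E)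
    {M : X.Modules} (p : E ⟶ M) [Epi p] (hM : PicF.IsInvertible M) :
    dg k E < dg k M * (r : ℤ) := by
  obtain ⟨hEc, -, eE, -⟩ := bundle (k := k) hE
  obtain ⟨hMc, -, eM, -⟩ := SlopeLine.line (k := k) hM
  obtain ⟨hK, hg, hd⟩ := kernel_ses k p hEc hMc
  have := h _ (kernel.ι p) inferInstance hK (by omega) (by omega)
  rw [hd, eE, show (gr k (kernel p) : ℤ) = (r : ℤ) - 1 by omega] at this
  rw [hd]
  linarith

/-- A quotient of `E ⊗ N` is one of `E`, twisted. -/
lemma exists_untwist {N M : X.Modules} (hN : PicF.IsInvertible N)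
    (p : CohB1.tensorMod E N ⟶ M) [Epi p] (hM : PicF.IsInvertible M) :
    ∃ (M' : X.Modules) (q : E ⟶ M'), Epi q ∧ PicF.IsInvertible M' ∧ dg k M' = dg k M - dg k N := by
  have hN' : PicF.IsInvertible (dual N) := TensorMod.Invertible.isInvertible_dual hN
  have := Twist.isEquivalence hN'
  let e : CohB1.tensorMod (CohB1.tensorMod E N) (dual N) ≅ E :=
    assoc E N (dual N) ≪≫ tensorIso (Iso.refl _) (TensorMod.Invertible.tensorDualIso hN) ≪≫ rightUnit E
  have : Epi (tmap p (𝟙 (dual N))) := inferInstanceAs (Epi ((tensorBy (dual N)).map p))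
  refine ⟨CohB1.tensorMod M (dual N), e.inv ≫ tmap p (𝟙 _), epi_comp _ _,
    TensorMod.Invertible.isInvertible_tensorMod hM hN', ?_⟩
  obtain ⟨hMc, -, eM, -⟩ := SlopeLine.line (k := k) hM
  obtain ⟨-, d⟩ := Twist.gr_dg_twist k hN' hMc
  rw [d, eM, H0Crit.dg_dual hN]
  push_cast
  ring

section Proper

variable [IsProper (X ↘ Spec (CommRingCat.of k))] {A : X.Modules} (hA : PicF.IsInvertible A)
  (hA0 : 0 < dg k A) (h0 : Module.finrank k (Coh.HH X (Coh.structureModule X) 0) = 1)

include hA hA0 h0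

/-- `H¹ = 0` for semistable bundles of slope above `2g - 2`. -/
theorem h1_ss (hE : FlatMod.IsFinLocFreeOfRank r E) (h : SS k E)
    (hd : (r : ℤ) * (2 * (Curv2.genus k X : ℤ) - 2) < dg k E) : Subsingleton (Coh.HH X E 1) :=
  LineQuot.subsingleton_h1 hA hA0 h0 hE fun M p _ hM => by
    have := quot_line hE h p hM
    exact lt_of_mul_lt_mul_right (a := (r : ℤ)) (by linarith) (Int.natCast_nonneg r)

/-- `H¹ = 0` for stable bundles of rank at least two and slope at least `2g - 2`. -/
theorem h1_st (hr : 2 ≤ r) (hE : FlatMod.IsFinLocFreeOfRank r E) (h : ST k E)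
    (hd : (r : ℤ) * (2 * (Curv2.genus k X : ℤ) - 2) ≤ dg k E) : Subsingleton (Coh.HH X E 1) :=
  LineQuot.subsingleton_h1 hA hA0 h0 hE fun M p _ hM => by
    have := quot_line_strict hr hE h p hM
    exact lt_of_mul_lt_mul_right (a := (r : ℤ)) (by linarith) (Int.natCast_nonneg r)

/-- `H¹` of a twist of a bundle with bounded subsheaves. -/
theorem h1_twist (hr : 0 < r) (hE : FlatMod.IsFinLocFreeOfRank r E) {C : ℤ}
    (hB : ∀ (G : X.Modules) (i : G ⟶ E), Mono i → Coh.IsCoh G → 0 < gr k G →
      dg k G * (r : ℤ) ≤ (dg k E + (r : ℤ) * C) * (gr k G : ℤ))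
    {N : X.Modules} (hN : PicF.IsInvertible N)
    (hd : (r : ℤ) * ((r : ℤ) - 1) * C + (r : ℤ) * (2 * (Curv2.genus k X : ℤ) - 2) <
      dg k E + (r : ℤ) * dg k N) : Subsingleton (Coh.HH X (CohB1.tensorMod E N) 1) := by
  have hEN : FlatMod.IsFinLocFreeOfRank r (CohB1.tensorMod E N) := by
    simpa using TensorMod.LocFree.rank_tensorMod hE (TensorMod.LocFree.of_isInvertible hN)
  refine LineQuot.subsingleton_h1 hA hA0 h0 hEN fun M p _ hM => ?_
  obtain ⟨M', q, hq, hM', hMd⟩ := exists_untwist (k := k) hN p hM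
  obtain ⟨hEc, hET, eE, -⟩ := bundle (k := k) hE
  obtain ⟨hMc, -, eM, -⟩ := SlopeLine.line (k := k) hM'
  obtain ⟨hK, hg, hd'⟩ := kernel_ses k q hEc hMc
  have hk : (gr k (kernel q) : ℤ) = (r : ℤ) - 1 := by omega
  have key : dg k (kernel q) * (r : ℤ) ≤ (dg k E + (r : ℤ) * C) * ((r : ℤ) - 1) := by
    rcases Nat.eq_zero_or_pos (gr k (kernel q)) with h | h
    · rw [(sub_zero_rank (k := k) (kernel.ι q) hK hET h).2,
        show (r : ℤ) - 1 = 0 by omega]
      simp
    · exact hk ▸ hB _ (kernel.ι q) inferInstance hK h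
  refine lt_of_mul_lt_mul_right (a := (r : ℤ)) ?_ (Int.natCast_nonneg r)
  rw [show dg k M = dg k M' + dg k N by omega]
  nlinarith

end Proper

omit hC [X.Over (Spec (CommRingCat.of k))] in
/-- Functions vanishing on a closed subscheme kill sections pushed from it. -/
lemma smul_push_eq_zero {Z : Scheme.{u}} (f : Z ⟶ X) (M : Z.Modules) {U : X.Opens} {a : Γ(X, U)}
    (ha : f.app U a = 0) (w : Γ((Scheme.Modules.pushforward f).obj M, U)) : a • w = 0 := by
  let _ : Module Γ(Z, f ⁻¹ᵁ U) Γ(M, f ⁻¹ᵁ U) := inferInstance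
  show f.app U a • (show Γ(M, f ⁻¹ᵁ U) from w) = (0 : Γ(M, f ⁻¹ᵁ U))
  rw [ha, zero_smul]

omit hC in
lemma isCoh_kernel_res [IsLocallyNoetherian X] {x : X} (hx : IsClosed ({x} : Set X))
    (hE : Coh.IsCoh E) : Coh.IsCoh (kernel (DecShLib.GG.res hx E)) := by
  have := hE.1
  let ι := (Curves.PointIdeal.ptI hx).subschemeι
  have : IsLocallyNoetherian (Curves.PointIdeal.ptI hx).subscheme :=
    LocallyOfFiniteType.isLocallyNoetherian ι
  have hQ : Coh.IsCoh ((Scheme.Modules.pushforward ι).obj ((Scheme.Modules.pullback ι).obj E)) :=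
    Cyc.Dev.SchemeEquiv.isCoh_push ι (Cyc.FP.Stalk.isCoh_pullback ι hE)
  exact CohBasics.Closure.isCoh_kernel (DecShLib.GG.res hx E) hE hQ.1

/-- Global generation from the vanishing of `H¹` after twisting down by points. -/
theorem globallyGenerated_ctx [IsAlgClosed k] [IsIntegral X] [IsProper (X ↘ Spec (CommRingCat.of k))]
    (hdim : topologicalKrullDim X = 1)
    (hE : FlatMod.IsFinLocFreeOfRank r E)
    (h : ∀ J : X.Modules, PicF.IsInvertible J → Curv2.deg k X J 1 = -1 →
      Subsingleton (Coh.HH X (CohB1.tensorMod E J) 1)) : Curv2.IsGloballyGenerated E := by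
  have := CurveCtx.noethSpace (k := k) (X := X)
  have := CurveCtx.locNoeth (k := k) (X := X)
  refine DecShLib.GG.gg_of_kernels k (TensorMod.LocFree.of_rank hE) fun x hx => ?_
  obtain ⟨hgen, hJ, hJd⟩ := Point.point_facts_ctx k hdim hx
  set I := Curves.PointIdeal.ptI hx
  obtain ⟨hm, hq⟩ := Point.mono_twist k (I := I) hgen hJ hE
  set u := tmap (𝟙 E) (ClSub.idealModι I) ≫ (rightUnit E).hom with hu
  set res := DecShLib.GG.res hx E
  have hw : u ≫ res = 0 := (TensorMod.Free.hom_ext_pairM (g' := u ≫ 0) fun U m n => by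
    let a : Γ(X, U) := (ClSub.idealModι I).app U n
    have ha : I.subschemeι.app U a = 0 := by
      have := congrArg (fun g => g.app U n) (kernel.condition (ClSub.toSubscheme I))
      simp only [Scheme.Modules.Hom.comp_app] at this
      exact this
    let one : Γ(Coh.structureModule X, U) := (1 : Γ(X, U))
    have h1 : (ClSub.idealModι I).app U n = a • one := (mul_one a).symm
    rw [TensorMod.Free.pairM_comp u res, TensorMod.Free.pairM_comp u, hu,
      TensorMod.Free.pairM_tmap_comp, h1,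
      TensorMod.Pullback.pairM_smul_right, Scheme.Modules.Hom.app_smul]
    exact smul_push_eq_zero _ _ ha _).trans comp_zero
  let v : CohB1.tensorMod E (ClSub.idealMod I) ⟶ kernel res := kernel.lift res u hw
  have hv : v ≫ kernel.ι res = u := kernel.lift_ι _ _ _
  haveI : Mono v := mono_of_mono_fac hv
  obtain ⟨hEc, -, eE, -⟩ := bundle (k := k) hE
  have hc1 := Twist.isCoh hJ hEc
  have eg := (Twist.gr_dg_twist k hJ hEc).1
  obtain ⟨-, hgu, -⟩ := cokernel_ses k u hc1 hEc
  have hKc : Coh.IsCoh (kernel res) := isCoh_kernel_res hx hEc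
  obtain ⟨hcv, hgv, -⟩ := cokernel_ses k v hc1 hKc
  have hle : gr k (kernel res) ≤ gr k E := gr_le_of_mono k (kernel.ι res) hEc
  letI := CurveCtx.integral (k := k) (X := X)
  have hz : gr k (cokernel v) = 0 := by
    replace hq : gr k (cokernel u) = 0 := hq
    replace eg : gr k (CohB1.tensorMod E (ClSub.idealMod I)) = r := eg.trans eE
    omega
  have hsurj := Curves.Clifford.mapK_surjective_one k hdim.le v
    (isTorsion k (Rank.subsingleton_of_grank_eq_zero hcv hz))
  have := h _ hJ hJd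
  exact hsurj.subsingleton

omit hC in
/-- Global generation from the vanishing of `H¹` after twisting down by points. -/
theorem globallyGenerated [IsAlgClosed k] [IsIntegral X] [IsProper (X ↘ Spec (CommRingCat.of k))]
    [Smooth (X ↘ Spec (CommRingCat.of k))] (hdim : topologicalKrullDim X = 1)
    (hE : FlatMod.IsFinLocFreeOfRank r E)
    (h : ∀ J : X.Modules, PicF.IsInvertible J → Curv2.deg k X J 1 = -1 →
      Subsingleton (Coh.HH X (CohB1.tensorMod E J) 1)) : Curv2.IsGloballyGenerated E :=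
  have := Ctx.ofIntegral k hdim
  globallyGenerated_ctx hdim hE h

/-- An invertible module of degree one. -/
theorem exists_pos_ctx [IsAlgClosed k] [IsIntegral X] [IsProper (X ↘ Spec (CommRingCat.of k))]
    (hdim : topologicalKrullDim X = 1) : ∃ A : X.Modules, PicF.IsInvertible A ∧ dg k A = 1 := by
  have : CompactSpace X := QuasiCompact.compactSpace_of_compactSpace (X ↘ Spec (CommRingCat.of k))
  obtain ⟨x, -, hx⟩ := IsClosed.exists_closed_singleton (S := (Set.univ : Set X)) isClosed_univ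
    Set.univ_nonempty
  obtain ⟨-, hJ, hJd⟩ := Point.point_facts_ctx k hdim hx
  refine ⟨_, TensorMod.Invertible.isInvertible_dual hJ, ?_⟩
  rw [H0Crit.dg_dual hJ, dg_eq_deg k (TensorMod.LocFree.of_isInvertible hJ), hJd]
  rfl

omit hC in
/-- An invertible module of degree one. -/
theorem exists_pos [IsAlgClosed k] [IsIntegral X] [IsProper (X ↘ Spec (CommRingCat.of k))]
    [Smooth (X ↘ Spec (CommRingCat.of k))] (hdim : topologicalKrullDim X = 1) :
    ∃ A : X.Modules, PicF.IsInvertible A ∧ @dg k _ X _ (Ctx.ofIntegral k hdim) A = 1 :=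
  have := Ctx.ofIntegral k hdim
  exists_pos_ctx hdim

end Groth.Agent.Lib.CurveBundle.Vanishing
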