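import Groth.Agent.Lib.CurveBundle.RankTwoExt
import Groth.Agent.Lib.CurveBundle.Vanishing
import Groth.Agent.Lib.CurveBundle.SlopeMax
import Groth.Agent.Lib.HomSheaf.Basic
import Groth.Agent.Lib.RefHull.HomSh
import Groth.Agent.H78.Faithful.HomLocFree
import Groth.Agent.H34.HOne

/-!
# Extensions in genus one; indecomposable bundles are semistable
-/

set_option autoImplicit false
universe u

open CategoryTheory Limits AlgebraicGeometry Opposite TopologicalSpace

namespace Groth.Agent.Lib.CurveBundle.GenusOneSplit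

noncomputable section

open Groth.Agent.Lib Degree Slope TensorMod.Basic TensorMod.Dual

variable {X : Scheme.{u}} {M N G Q : X.Modules}

/-- Postcomposition on sections of the sheaf Hom. -/
def postFun (f : M ⟶ N) (Q : X.Modules) (U : X.Opens) :
    Γ(_root_.RefHull.homSh Q M, U) →+ Γ(_root_.RefHull.homSh Q N, U) where
  toFun g := ⟨fun y => (_root_.RefHull.stalkMapₗ f y.1).comp (g.1 y), fun V i m x => by
    obtain ⟨W, hxW, j, n, hn⟩ := _root_.RefHull.isLocSect_of_mem g V i m x
    exact ⟨W, hxW, j, f.app W n, fun y => by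
      rw [LinearMap.comp_apply, hn y, _root_.RefHull.stalkMapₗ_germ]⟩⟩
  map_zero' := Subtype.ext <| funext fun _ => LinearMap.comp_zero _
  map_add' _ _ := Subtype.ext <| funext fun _ => LinearMap.comp_add _ _ _

/-- Postcomposition by a morphism. -/
def post (f : M ⟶ N) (Q : X.Modules) : _root_.RefHull.homSh Q M ⟶ _root_.RefHull.homSh Q N :=
  ⟨PresheafOfModules.homMk
    { app := fun U => AddCommGrpCat.ofHom (postFun f Q U.unop)
      naturality := fun {U V} i => rfl }
    (fun U r g => Subtype.ext <| funext fun _ => LinearMap.comp_smul _ _ _)⟩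

lemma evalStalk_post (f : M ⟶ N) (Q : X.Modules) (x : X)
    (v : (_root_.RefHull.homSh Q M).presheaf.stalk x) :
    _root_.RefHull.evalStalk Q N x (_root_.RefHull.stalkMapₗ (post f Q) x v) =
      (_root_.RefHull.stalkMapₗ f x).comp (_root_.RefHull.evalStalk Q M x v) := by
  obtain ⟨U, hx, g, rfl⟩ := TopCat.Presheaf.exists_germ_eq (_root_.RefHull.homSh Q M).presheaf v
  rw [_root_.RefHull.stalkMapₗ_germ, _root_.RefHull.evalStalk_germ, _root_.RefHull.evalStalk_germ]
  rfl

lemma post_app_topEquiv (f : M ⟶ N) (φ : Q ⟶ M) :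
    (post f Q).app ⊤ (HomSheaf.Basic.topEquiv φ) = HomSheaf.Basic.topEquiv (φ ≫ f) :=
  Subtype.ext <| funext fun y => LinearMap.ext fun v => (RefHull.Colim.stalkMap_comp φ f y.1 v).symm

/-- `𝓗om(Q, -)` is exact for a bundle `Q`. -/
theorem shortExact_post [IsLocallyNoetherian X] {S : ShortComplex X.Modules} (hS : S.ShortExact)
    {n : ℕ} (hQ : FlatMod.IsFinLocFreeOfRank n Q) (w : post S.f Q ≫ post S.g Q = 0) :
    (ShortComplex.mk (post S.f Q) (post S.g Q) w).ShortExact := by
  have hQc := Coherent.isCoh (TensorMod.LocFree.of_rank hQ)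
  rw [Modules.Stalk.shortExact_iff_stalk]
  intro x
  obtain ⟨hinj, hex, hsurj⟩ := Rank.stalk_exact hS x
  obtain ⟨b⟩ := Coherent.exists_basis_stalk hQ x
  have := Module.Projective.of_basis b
  have e1 := RefHull.HomSh.evalStalk_bijective (F := Q) (G := S.X₁) hQc x
  have e2 := RefHull.HomSh.evalStalk_bijective (F := Q) (G := S.X₂) hQc x
  have e3 := RefHull.HomSh.evalStalk_bijective (F := Q) (G := S.X₃) hQc x
  refine { exact := (ShortComplex.ab_exact_iff_function_exact _).2 ?_,
           mono_f := (AddCommGrpCat.mono_iff_injective _).2 ?_,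
           epi_g := (AddCommGrpCat.epi_iff_surjective _).2 ?_ }
  · show Function.Exact (_root_.RefHull.stalkMapₗ (post S.f Q) x)
      (_root_.RefHull.stalkMapₗ (post S.g Q) x)
    refine fun v => ⟨fun hv => ?_, ?_⟩
    · have h1 : (_root_.RefHull.stalkMapₗ S.g x).comp (_root_.RefHull.evalStalk Q S.X₂ x v) = 0 := by
        rw [← evalStalk_post, hv, map_zero]
      obtain ⟨φ, hφ⟩ := Module.projective_lifting_property
        ((_root_.RefHull.stalkMapₗ S.f x).rangeRestrict)
        ((_root_.RefHull.evalStalk Q S.X₂ x v).codRestrict _ fun q =>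
          (hex _).mp (LinearMap.congr_fun h1 q)) (LinearMap.surjective_rangeRestrict _)
      obtain ⟨u, rfl⟩ := e1.2 φ
      refine ⟨u, e2.1 ?_⟩
      rw [evalStalk_post]
      exact LinearMap.ext fun q => congrArg Subtype.val (LinearMap.congr_fun hφ q)
    · rintro ⟨u, rfl⟩
      refine e3.1 ?_
      rw [evalStalk_post, evalStalk_post, map_zero, ← LinearMap.comp_assoc,
        show (_root_.RefHull.stalkMapₗ S.g x).comp (_root_.RefHull.stalkMapₗ S.f x) = 0 from
          LinearMap.ext fun y => hex.apply_apply_eq_zero y, LinearMap.zero_comp]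
  · show Function.Injective (_root_.RefHull.stalkMapₗ (post S.f Q) x)
    intro u u' h
    refine e1.1 (LinearMap.ext fun q => hinj ?_)
    have := LinearMap.congr_fun (congrArg (_root_.RefHull.evalStalk Q S.X₂ x) h) q
    rwa [evalStalk_post, evalStalk_post] at this
  · show Function.Surjective (_root_.RefHull.stalkMapₗ (post S.g Q) x)
    intro v
    obtain ⟨φ, hφ⟩ := Module.projective_lifting_property (Modules.StalkModule.stalkMapₗ S.g x)
      (_root_.RefHull.evalStalk Q S.X₃ x v) hsurj
    obtain ⟨u, rfl⟩ := e2.2 φ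
    refine ⟨u, e3.1 ?_⟩
    rw [evalStalk_post]
    exact hφ

lemma post_comp_eq_zero [IsLocallyNoetherian X] (hQ : Coh.IsCoh Q) {P : X.Modules} (f : M ⟶ N)
    (g : N ⟶ P) (h : f ≫ g = 0) : post f Q ≫ post g Q = 0 := by
  refine Modules.StalkModule.hom_ext_stalkMapₗ fun x => LinearMap.ext fun v =>
    (RefHull.HomSh.evalStalk_bijective (F := Q) (G := P) hQ x).1 ?_
  refine (congrArg _ (RefHull.Colim.stalkMap_comp _ _ x v)).trans ?_
  rw [evalStalk_post, evalStalk_post, Modules.StalkModule.stalkMapₗ_zero, LinearMap.zero_apply,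
    map_zero]
  refine LinearMap.ext fun q => ?_
  refine (RefHull.Colim.stalkMap_comp f g x _).symm.trans ?_
  rw [h]
  exact LinearMap.congr_fun (Modules.StalkModule.stalkMapₗ_zero x) _

section Curry

variable [IsLocallyNoetherian X] (hQ : Coh.IsCoh Q)
  (p : _root_.RefHull.homSh Q G ⟶ Coh.structureModule X)

/-- The stalk of the structure module read in the local ring, linearly. -/
noncomputable def toR (x : X) :
    (Coh.structureModule X).presheaf.stalk x →ₗ[X.presheaf.stalk x] X.presheaf.stalk x where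
  toFun v := Modules.FreeStalk.unitStalkToRing x v
  map_add' := map_add _
  map_smul' a v := Modules.FreeStalk.unitStalkToRing_smul x a v

/-- The inverse of evaluation. -/
noncomputable def evInv (x : X) : (_root_.RefHull.StalkHom Q G x) →ₗ[X.presheaf.stalk x]
    (_root_.RefHull.homSh Q G).presheaf.stalk x :=
  (LinearEquiv.ofBijective _ (RefHull.HomSh.evalStalk_bijective (F := Q) (G := G) hQ x)).symm.toLinearMap

/-- The functional on `Q^∨` attached to an element of `G`. -/
noncomputable def curryAt (y : X) (v : G.presheaf.stalk y) :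
    _root_.RefHull.StalkHom (_root_.RefHull.dual Q) (Coh.structureModule X) y :=
  ((_root_.RefHull.stalkMapₗ p y) ∘ₗ evInv hQ y) ∘ₗ
    ((LinearMap.llcomp _ _ _ _ ((LinearMap.toSpanSingleton _ _ v).comp (toR y))) ∘ₗ
      _root_.RefHull.evalStalk Q (Coh.structureModule X) y)

lemma curryAt_apply (y : X) (v : G.presheaf.stalk y)
    (a : (_root_.RefHull.dual Q).presheaf.stalk y) :
    curryAt hQ p y v a = _root_.RefHull.stalkMapₗ p y (evInv hQ y
      (((LinearMap.toSpanSingleton _ _ v).comp (toR y)).comp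
        (_root_.RefHull.evalStalk Q (Coh.structureModule X) y a))) := rfl

omit [IsLocallyNoetherian X] in
lemma sing_add {y : X} {A : Type u} [AddCommGroup A] [Module (X.presheaf.stalk y) A]
    (v v' : G.presheaf.stalk y) (f : A →ₗ[X.presheaf.stalk y] X.presheaf.stalk y) :
    (LinearMap.toSpanSingleton _ _ (v + v')).comp f =
      (LinearMap.toSpanSingleton _ _ v).comp f + (LinearMap.toSpanSingleton _ _ v').comp f :=
  LinearMap.ext fun a => smul_add (f a) v v'

omit [IsLocallyNoetherian X] in
lemma sing_smul {y : X} {A : Type u} [AddCommGroup A] [Module (X.presheaf.stalk y) A]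
    (r : X.presheaf.stalk y) (v : G.presheaf.stalk y) (f : A →ₗ[X.presheaf.stalk y] X.presheaf.stalk y) :
    (LinearMap.toSpanSingleton _ _ (r • v)).comp f = r • (LinearMap.toSpanSingleton _ _ v).comp f :=
  LinearMap.ext fun a => smul_comm (f a) r v

/-- The section `λ ⊗ g` of `𝓗om(Q, G)`. -/
noncomputable def smulSec {U : X.Opens} (l : Γ(_root_.RefHull.dual Q, U)) (g : Γ(G, U)) :
    Γ(_root_.RefHull.homSh Q G, U) :=
  ⟨fun y => ((LinearMap.toSpanSingleton _ _ (G.presheaf.germ U y.1 y.2 g)).comp (toR y.1)).comp (l.1 y),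
    fun V i m x => by
      obtain ⟨W, hxW, j, n, hn⟩ := _root_.RefHull.isLocSect_of_mem l V i m x
      refine ⟨W, hxW, j, (show Γ(X, W) from n) • G.presheaf.map (j ≫ i).op g, fun y => ?_⟩
      simp only [LinearMap.comp_apply, LinearMap.toSpanSingleton_apply]
      rw [hn y, Modules.StalkModule.germ_smul y.2]
      congr 1
      · exact Modules.FreeStalk.unitStalkToRing_germ y.2 n
      · exact (TopCat.Presheaf.germ_res_apply G.presheaf (j ≫ i) y.1 y.2 g).symm⟩

/-- The curried map `G ⟶ Q^∨^∨` on sections. -/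
noncomputable def curryFun (U : X.Opens) : Γ(G, U) →+ Γ(_root_.RefHull.ddual Q, U) where
  toFun g := ⟨fun y => curryAt hQ p y.1 (G.presheaf.germ U y.1 y.2 g), fun V i l x => by
    refine ⟨V, x.2, 𝟙 V, p.app V (smulSec l (G.presheaf.map i.op g)), fun y => ?_⟩
    rw [← _root_.RefHull.stalkMapₗ_germ]
    refine congrArg (_root_.RefHull.stalkMapₗ p y.1) ?_
    refine (RefHull.HomSh.evalStalk_bijective (F := Q) (G := G) hQ y.1).1 ?_
    refine ((LinearEquiv.ofBijective (_root_.RefHull.evalStalk Q G y.1)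
      (RefHull.HomSh.evalStalk_bijective (F := Q) (G := G) hQ y.1)).apply_symm_apply _).trans ?_
    rw [_root_.RefHull.evalStalk_germ]
    change ((LinearMap.toSpanSingleton _ _ (G.presheaf.germ U y.1 _ g)).comp (toR y.1)).comp
      (_root_.RefHull.evalStalk Q (Coh.structureModule X) y.1 _) = _
    rw [_root_.RefHull.evalStalk_germ]
    change _ = ((LinearMap.toSpanSingleton _ _
      (G.presheaf.germ V y.1 y.2 (G.presheaf.map i.op g))).comp (toR y.1)).comp _
    rw [TopCat.Presheaf.germ_res_apply]⟩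
  map_zero' := Subtype.ext <| funext fun y => LinearMap.ext fun a => by
    simp [curryAt_apply]
    rfl
  map_add' g g' := Subtype.ext <| funext fun y => LinearMap.ext fun a => by
    change curryAt hQ p y.1 _ a = curryAt hQ p y.1 _ a + curryAt hQ p y.1 _ a
    rw [map_add]
    simp only [curryAt_apply, sing_add, LinearMap.add_comp, map_add]

/-- The curried map. -/
noncomputable def curry : G ⟶ _root_.RefHull.ddual Q :=
  ⟨PresheafOfModules.homMk
    { app := fun U => AddCommGrpCat.ofHom (curryFun hQ p U.unop)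
      naturality := fun {U V} i => by
        ext g
        refine Subtype.ext (funext fun y => ?_)
        exact congrArg (curryAt hQ p y.1) (TopCat.Presheaf.germ_res_apply G.presheaf i.unop y.1 y.2 g) }
    (fun U r g => Subtype.ext <| funext fun y => by
      have h : G.presheaf.germ U.unop y.1 y.2 (r • g) =
          X.presheaf.germ U.unop y.1 y.2 r • G.presheaf.germ U.unop y.1 y.2 g :=
        Modules.StalkModule.germ_smul y.2 r g
      change curryAt hQ p y.1 _ = X.presheaf.germ U.unop y.1 y.2 r • curryAt hQ p y.1 _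
      refine (congrArg (curryAt hQ p y.1) h).trans (LinearMap.ext fun a => ?_)
      rw [LinearMap.smul_apply, curryAt_apply, curryAt_apply, sing_smul, LinearMap.smul_comp,
        map_smul, map_smul])⟩

omit [IsLocallyNoetherian X] in
/-- A map killing all `λ ⊗ v` on a free stalk vanishes. -/
lemma eq_zero_of_rankOne {R A B C : Type*} [CommRing R] [AddCommGroup A] [Module R A]
    [AddCommGroup B] [Module R B] [AddCommGroup C] [Module R C] {n : ℕ} (b : Module.Basis (Fin n) R A)
    (f : (A →ₗ[R] B) →ₗ[R] C) (h : ∀ (l : A →ₗ[R] R) (v : B), f (l.smulRight v) = 0)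
    (φ : A →ₗ[R] B) : f φ = 0 := by
  rw [show φ = ∑ i, (b.coord i).smulRight (φ (b i)) from LinearMap.ext fun a => by
    refine (congrArg φ (b.sum_repr a)).symm.trans ?_
    rw [map_sum φ, LinearMap.sum_apply]
    exact Finset.sum_congr rfl fun i _ => by simp, map_sum]
  exact Finset.sum_eq_zero fun i _ => h _ _

omit [IsLocallyNoetherian X] in
lemma toR_bijective (x : X) : Function.Bijective (toR (X := X) x) := by
  refine ⟨fun a a' h => ?_, fun r => ?_⟩
  · obtain ⟨U, hU, m, rfl⟩ := TopCat.Presheaf.exists_germ_eq (Coh.structureModule X).presheaf a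
    obtain ⟨V, hV, m', rfl⟩ := TopCat.Presheaf.exists_germ_eq (Coh.structureModule X).presheaf a'
    have h' : X.presheaf.germ U x hU m = X.presheaf.germ V x hV m' :=
      (Modules.FreeStalk.unitStalkToRing_germ hU m).symm.trans
        (h.trans (Modules.FreeStalk.unitStalkToRing_germ hV m'))
    obtain ⟨W, hW, iU, iV, hWe⟩ := TopCat.Presheaf.germ_eq X.presheaf x hU hV m m' h'
    rw [← TopCat.Presheaf.germ_res_apply (Coh.structureModule X).presheaf iU x hW m,
      ← TopCat.Presheaf.germ_res_apply (Coh.structureModule X).presheaf iV x hW m']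
    exact congrArg _ hWe
  · obtain ⟨U, hU, m, rfl⟩ := TopCat.Presheaf.exists_germ_eq X.presheaf r
    exact ⟨_, Modules.FreeStalk.unitStalkToRing_germ hU m⟩

theorem eq_zero_of_curry {n : ℕ} (hQn : FlatMod.IsFinLocFreeOfRank n Q) (h : curry hQ p = 0) :
    p = 0 := by
  refine Modules.StalkModule.hom_ext_stalkMapₗ fun x => LinearMap.ext fun w => ?_
  obtain ⟨b⟩ := Coherent.exists_basis_stalk hQn x
  have hA := RefHull.HomSh.evalStalk_bijective (F := Q) (G := Coh.structureModule X) hQ x
  have key : ∀ φ, _root_.RefHull.stalkMapₗ p x (evInv hQ x φ) = 0 := by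
    refine fun φ => eq_zero_of_rankOne b
      ((_root_.RefHull.stalkMapₗ p x) ∘ₗ evInv hQ x) (fun l v => ?_) φ
    obtain ⟨U, hU, g, rfl⟩ := TopCat.Presheaf.exists_germ_eq G.presheaf v
    let eR := LinearEquiv.ofBijective (toR x) (toR_bijective x)
    obtain ⟨a, ha⟩ := hA.2 (eR.symm.toLinearMap ∘ₗ l)
    have h0 : (curryFun hQ p U g).1 ⟨x, hU⟩ = 0 :=
      congrArg (fun s : Γ(_root_.RefHull.ddual Q, U) => s.1 ⟨x, hU⟩)
        (congrArg (fun φ : G ⟶ _root_.RefHull.ddual Q => φ.app U g) h)
    refine Eq.trans ?_ (LinearMap.congr_fun h0 a)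
    change _ = ((_root_.RefHull.stalkMapₗ p x) ∘ₗ evInv hQ x)
      (((LinearMap.toSpanSingleton _ _ _).comp (toR x)).comp _)
    rw [ha]
    congr 1
    ext q
    change l q • G.presheaf.germ U x hU g = eR (eR.symm (l q)) • G.presheaf.germ U x hU g
    rw [LinearEquiv.apply_symm_apply]
  rw [Modules.StalkModule.stalkMapₗ_zero, LinearMap.zero_apply]
  refine Eq.trans ?_ (key (_root_.RefHull.evalStalk Q G x w))
  exact congrArg (_root_.RefHull.stalkMapₗ p x) (LinearEquiv.symm_apply_apply
    (LinearEquiv.ofBijective _ (RefHull.HomSh.evalStalk_bijective (F := Q) (G := G) hQ x)) w).symm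

include hQ in
/-- Bundles are reflexive. -/
theorem isIso_bidual {n : ℕ} (hQn : FlatMod.IsFinLocFreeOfRank n Q) :
    IsIso (_root_.RefHull.bidualMap Q) := by
  refine (Modules.StalkModule.isIso_iff_stalkMapₗ_bijective _).2 fun x => ?_
  obtain ⟨b⟩ := Coherent.exists_basis_stalk hQn x
  have hA := RefHull.HomSh.evalStalk_bijective (F := Q) (G := Coh.structureModule X) hQ x
  have hd : Coh.IsCoh (_root_.RefHull.dual Q) := Coherent.isCoh
    (H78.Faithful.HomLocFree.isFinLocFree_homSh (TensorMod.LocFree.of_rank hQn)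
      (TensorMod.LocFree.of_rank (TensorMod.LocFree.of_isInvertible (PicLoc.isInvertible_structureModule X))))
  have hB := RefHull.HomSh.evalStalk_bijective (F := _root_.RefHull.dual Q)
    (G := Coh.structureModule X) hd x
  refine (Function.Bijective.of_comp_iff' hB _).1 ?_
  have hc : ∀ v, _root_.RefHull.evalStalk (_root_.RefHull.dual Q) (Coh.structureModule X) x
      (Modules.StalkModule.stalkMapₗ (_root_.RefHull.bidualMap Q) x v) =
      _root_.RefHull.bidualAt Q x v := by
    intro v
    obtain ⟨U, hU, m, rfl⟩ := TopCat.Presheaf.exists_germ_eq Q.presheaf v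
    rw [Modules.StalkModule.stalkMapₗ_germ, _root_.RefHull.evalStalk_germ]
    rfl
  rw [show _ ∘ _ = _ from funext hc]
  let eR := LinearEquiv.ofBijective (toR x) (toR_bijective x)
  let eA := LinearEquiv.ofBijective _ hA
  haveI := Module.Free.of_basis b
  haveI := Module.Finite.of_basis b
  let Φ := (Module.evalEquiv (X.presheaf.stalk x) (Q.presheaf.stalk x)) ≪≫ₗ
    LinearEquiv.arrowCongr ((eA ≪≫ₗ LinearEquiv.arrowCongr (LinearEquiv.refl _ _) eR).symm)
      eR.symm
  convert Φ.bijective using 1
  ext v θ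
  change _ = eR.symm (Module.Dual.eval _ _ v (eR ∘ₗ _root_.RefHull.evalStalk Q _ x θ ∘ₗ LinearMap.id))
  change _ = eR.symm (eR (_root_.RefHull.evalStalk Q _ x θ v))
  rw [LinearEquiv.symm_apply_apply]
  rfl

end Curry

variable (k : Type u) [Field k] [X.Over (Spec (CommRingCat.of k))]
  [IsProper (X ↘ Spec (CommRingCat.of k))] [hC : CurveCtx k X]

include hC

/-- A line bundle of positive degree, over any field. -/
theorem exists_pos (hdim : topologicalKrullDim X = 1) :
    ∃ A : X.Modules, PicF.IsInvertible A ∧ 0 < dg k A := by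
  let _ := hC.integral
  have := hC.locNoeth
  have := hC.noethSpace
  have : CompactSpace X := QuasiCompact.compactSpace_of_compactSpace (X ↘ Spec (CommRingCat.of k))
  obtain ⟨x, -, hx⟩ := IsClosed.exists_closed_singleton (S := (Set.univ : Set X)) isClosed_univ
    Set.univ_nonempty
  let I := Curves.PointIdeal.ptI hx
  have hgen : genericPoint X ∉ (I.support : Set X) := by
    rw [Curves.PointIdeal.support_ptI]
    intro h
    have hu : ({x} : Set X) = Set.univ := by
      rw [← hx.closure_eq, ← Set.mem_singleton_iff.mp h, genericPoint_closure]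
    have : Subsingleton X := ⟨fun a b => by
      have ha : a ∈ ({x} : Set X) := hu ▸ Set.mem_univ a
      have hb : b ∈ ({x} : Set X) := hu ▸ Set.mem_univ b
      exact ha.trans hb.symm⟩
    have : Subsingleton (IrreducibleCloseds X) := ⟨fun A B => IrreducibleCloseds.ext (by
      obtain ⟨a, ha⟩ := A.isIrreducible.nonempty
      obtain ⟨b, hb⟩ := B.isIrreducible.nonempty
      ext z
      exact ⟨fun _ => Subsingleton.elim b z ▸ hb, fun _ => Subsingleton.elim a z ▸ ha⟩)⟩
    have h0 : topologicalKrullDim X ≤ 0 := Order.krullDim_nonpos_of_subsingleton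
    rw [hdim] at h0
    exact absurd h0 (by decide)
  have hses := ClSub.Quot.idealSeq_shortExact I
  obtain ⟨hOc, hOT, eO, -⟩ := SlopeLine.line (k := k) (PicLoc.isInvertible_structureModule X)
  have := hses.mono_f
  have hQs : Subsingleton ((ClSub.quotMod I).presheaf.stalk (genericPoint X)) :=
    Curves.Degree.isTorsion_quotMod hgen
  have hQ : Coh.IsCoh (ClSub.quotMod I) := Curves.IdealTwist.isCoh_quot I
  have := ClSub.Quot.epi_toSubscheme I
  obtain ⟨hK, hg, -⟩ := kernel_ses k (ClSub.toSubscheme I) hOc hQ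
  have hgQ : gr k (ClSub.quotMod I) = 0 := by
    let _ : Field (X.presheaf.stalk (genericPoint X)) := inferInstanceAs (Field X.functionField)
    exact Module.finrank_zero_of_subsingleton
  have hb := rank_gr k hK (Rank.isTorsionFree_of_mono (kernel.ι (ClSub.toSubscheme I)) hOT)
  have hg' : gr k (Coh.structureModule X) =
      gr k (kernel (ClSub.toSubscheme I)) + gr k (ClSub.quotMod I) := hg
  rw [show gr k (kernel (ClSub.toSubscheme I)) = 1 by omega] at hb
  have hinv : PicF.IsInvertible (ClSub.idealMod I) := TensorMod.LocFree.isInvertible_of_rank_one hb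
  refine ⟨_, TensorMod.Invertible.isInvertible_dual hinv, ?_⟩
  rw [H0Crit.dg_dual hinv, dg_eq_deg k (TensorMod.LocFree.of_isInvertible hinv),
    Curves.Degree.deg_idealMod hdim.le hinv hgen]
  rw [neg_neg, Int.natCast_pos]
  by_contra h0
  have := (hC.good _ hQ).fin₀
  have hs : Subsingleton (Coh.HH X (ClSub.quotMod I) 0) := Module.finrank_zero_iff.mp (by
    change Curves.Euler.hdim k X (ClSub.quotMod I) 0 = 0
    omega)
  have hs' : Subsingleton Γ(I.subscheme, ⊤) :=
    (Curves.GlobalSections.h0Equiv (ClSub.quotMod I)).symm.toEquiv.subsingleton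
  obtain ⟨z, -⟩ : x ∈ Set.range I.subschemeι := by
    rw [Scheme.IdealSheafData.range_subschemeι, Curves.PointIdeal.support_ptI]
    rfl
  have : Nonempty (⊤ : I.subscheme.Opens) := ⟨⟨z, trivial⟩⟩
  exact not_subsingleton Γ(I.subscheme, ⊤) hs'

variable {k} (h0 : Module.finrank k (Coh.HH X (Coh.structureModule X) 0) = 1)
  (hg : Curv2.genus k X = 1)

include h0 hg

/-- In genus one a line bundle with `H¹` maps nonzero to `O`. -/
theorem exists_to_O {M : X.Modules} (hM : PicF.IsInvertible M) (h1 : Nontrivial (Coh.HH X M 1)) :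
    ∃ q : M ⟶ Coh.structureModule X, q ≠ 0 := by
  let _ := hC.integral
  have hO : Curv2.euler k X (Coh.structureModule X) = 0 := by
    have hO := (hC.good _ (SlopeLine.line (k := k) (PicLoc.isInvertible_structureModule X)).1).euler
    have h1 : Curves.Euler.hdim k X (Coh.structureModule X) 1 = 1 := hg
    have h0' : Curves.Euler.hdim k X (Coh.structureModule X) 0 = 1 := h0
    omega
  have hd := Curves.Clifford.deg_le_of_nontrivial_one k hC.dim_le h0 hM h1
  rw [← dg_eq_deg k (TensorMod.LocFree.of_isInvertible hM), hg] at hd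
  obtain ⟨hMc, -, eM, -⟩ := SlopeLine.line (k := k) hM
  have he : ∀ L : X.Modules, dg k L = Curv2.euler k X L := fun L => by
    rw [dg, hO, mul_zero, sub_zero]
  rcases (show dg k M ≤ 0 by push_cast at hd; linarith).lt_or_eq with hlt | heq
  · have hM' := TensorMod.Invertible.isInvertible_dual hM
    have hc := (SlopeLine.line (k := k) hM').1
    have := (hC.good _ hc).euler
    have hd' := H0Crit.dg_dual (k := k) hM
    rw [he, he] at hd'
    rw [he] at hlt
    have hn : Nontrivial (Coh.HH X (dual M) 0) := by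
      have := (hC.good _ hc).fin₀
      refine Module.nontrivial_of_finrank_pos (R := k) ?_
      change 0 < Curves.Euler.hdim k X (dual M) 0
      omega
    obtain ⟨w, hw⟩ := Curves.Positivity.exists_section_of_nontrivial hn
    have := Twist.isEquivalence hM
    let e : CohB1.tensorMod (dual M) M ≅ Coh.structureModule X :=
      comm _ _ ≪≫ TensorMod.Invertible.tensorDualIso hM
    refine ⟨(leftUnit M).inv ≫ tmap w (𝟙 M) ≫ e.hom, fun h => hw ?_⟩
    simp only [Preadditive.IsIso.comp_left_eq_zero, Preadditive.IsIso.comp_right_eq_zero] at h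
    refine (tensorBy M).map_injective (X := Coh.structureModule X) (Y := dual M) (a₁ := w) (a₂ := 0) ?_
    exact h.trans (TensorMod.Integral.tmap_zero_left _ _ M).symm
  · have := (hC.good _ hMc).euler
    rw [he] at heq
    have := (hC.good _ hMc).fin₁
    have hp : 0 < Curves.Euler.hdim k X M 1 := Module.finrank_pos
    have hn : Nontrivial (Coh.HH X M 0) := by
      have := (hC.good _ hMc).fin₀
      refine Module.nontrivial_of_finrank_pos (R := k) ?_
      change 0 < Curves.Euler.hdim k X M 0
      omega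
    obtain ⟨e⟩ := RankTwoExt.iso_structure (k := k) hM (by rw [he, heq]) hn
    refine ⟨e.hom, fun h => ?_⟩
    have hz : 𝟙 M = 0 := by rw [← e.hom_inv_id, h, zero_comp]
    exact absurd (gr_of_isZero k ((IsZero.iff_id_eq_zero M).mpr hz)) (by omega)

/-- In genus one an extension of `Q` by `G` splits if there is no map from `G` to `Q`. -/
theorem isSplitEpi (hdim : topologicalKrullDim X = 1) {S : ShortComplex X.Modules} (hS : S.ShortExact)
    {n m : ℕ} (hQ : FlatMod.IsFinLocFreeOfRank n S.X₃) (hG : FlatMod.IsFinLocFreeOfRank m S.X₁)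
    (h : ∀ f : S.X₁ ⟶ S.X₃, f = 0) : IsSplitEpi S.g := by
  let _ := hC.integral
  have := hC.locNoeth
  have hQc := Coherent.isCoh (TensorMod.LocFree.of_rank hQ)
  have hV := H78.Faithful.HomLocFree.isFinLocFree_homSh (TensorMod.LocFree.of_rank hQ)
    (TensorMod.LocFree.of_rank hG)
  have hVr := rank_gr k (Coherent.isCoh hV) (Coherent.isTorsionFree hV)
  obtain ⟨A, hA, hA0⟩ := exists_pos k hdim
  have h1 : Subsingleton (Coh.HH X (_root_.RefHull.homSh S.X₃ S.X₁) 1) := by
    by_contra hne
    obtain ⟨M, p, hp, hM, hM1⟩ := LineQuot.exists_line_quot k hA hA0 _ _ hVr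
      (not_subsingleton_iff_nontrivial.mp hne)
    obtain ⟨q, hq⟩ := exists_to_O h0 hg hM hM1
    have := isIso_bidual hQc hQ
    have hc : curry hQc (p ≫ q) ≫ inv (_root_.RefHull.bidualMap S.X₃) = 0 := h _
    rw [Preadditive.IsIso.comp_right_eq_zero] at hc
    exact hq (by rw [← cancel_epi p, eq_zero_of_curry hQc _ hQ hc, comp_zero])
  have w : post S.f S.X₃ ≫ post S.g S.X₃ = 0 := post_comp_eq_zero hQc S.f S.g S.zero
  obtain ⟨t, ht⟩ := H34.HOne.app_top_surjective (shortExact_post hS hQ w) h1
    (HomSheaf.Basic.topEquiv (𝟙 S.X₃))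
  refine IsSplitEpi.mk' ⟨HomSheaf.Basic.topEquiv.symm t, HomSheaf.Basic.topEquiv.injective ?_⟩
  rw [← post_app_topEquiv, Equiv.apply_symm_apply]
  exact ht

/-- In genus one an indecomposable bundle is semistable. -/
theorem ss_of_indecomposable (hdim : topologicalKrullDim X = 1) {E : X.Modules} {r : ℕ} (hr : 0 < r)
    (hE : FlatMod.IsFinLocFreeOfRank r E)
    (hind : ∀ E₁ E₂ : X.Modules, Nonempty (E ≅ E₁ ⊞ E₂) → IsZero E₁ ∨ IsZero E₂) : SS k E := by
  let _ := hC.integral
  have := hC.locNoeth
  obtain ⟨hEc, hET, eE, -⟩ := bundle (k := k) hE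
  obtain ⟨G₀, i₀, hi₀, hG₀, hr₀, hmax₀, hrank₀⟩ := SlopeMax.exists_max (k := k) hEc hET (by omega)
  obtain ⟨G, i, a, hi, ha, -, hG, hgr, hT, hc⟩ := Saturation.exists_saturation i₀ hG₀ hEc
  have hgr' : gr k G = gr k G₀ := hgr
  have hd : dg k G = dg k G₀ := by
    have h' := hmax₀ G i hi hG
    rw [hgr'] at h'
    exact le_antisymm (le_of_mul_le_mul_right h' (by exact_mod_cast hr₀))
      (dg_le_of_mono k a hG₀ hG hgr'.symm)
  rw [← hgr'] at hr₀ hrank₀ hmax₀
  rw [← hd] at hrank₀ hmax₀
  have hSS : SS k G := fun H j _ hH => hmax₀ H (j ≫ i) (mono_comp _ _) hH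
  rcases (gr_le_of_mono k i hEc).lt_or_eq with hlt | heq
  swap
  · intro H j _ hH
    rcases Nat.eq_zero_or_pos (gr k H) with hz | hz
    · simp [(sub_zero_rank (k := k) j hH hET hz).2, hz]
    have h1 := hmax₀ H j ‹_› hH
    have h2 := dg_le_of_mono k i hG hEc heq
    rw [heq] at h1
    exact h1.trans (mul_le_mul_of_nonneg_right h2 (Int.natCast_nonneg _))
  exfalso
  obtain ⟨hQc, hgQ, -⟩ := cokernel_ses k i hG hEc
  let S := ShortComplex.mk i (cokernel.π i) (cokernel.condition i)
  have hS : S.ShortExact := { exact := ShortComplex.exact_cokernel i }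
  have hsplit := isSplitEpi h0 hg hdim (S := S) hS (rank_gr k hQc hT) (sub_bundle (k := k) i hG hET).1
    fun f => by
      obtain ⟨I, p, j, _, hj, hpj, hI, -, -, -, hle⟩ := exists_image_ss hSS hG hQc f
      refine eq_zero_of_image k p j hpj hI hT (Nat.eq_zero_of_not_pos fun hI0 => ?_)
      exact absurd (SlopeMax.drop_of_max i hEc hG hmax₀ hrank₀ j hI hI0) (not_lt.mpr hle)
  obtain ⟨⟨s⟩⟩ := hsplit
  rcases hind _ _ ⟨(ShortComplex.Splitting.ofExactOfSection S hS.exact s.section_ s.id hi).isoBinaryBiproduct⟩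
    with hz | hz
  · have : gr k G = 0 := gr_of_isZero k hz
    omega
  · have : gr k (cokernel i) = 0 := gr_of_isZero k hz
    omega

end

end Groth.Agent.Lib.CurveBundle.GenusOneSplit
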