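import Groth.Agent.Lib.CurveBundle.EvalKernel
import Groth.Agent.Lib.CurveBundle.TwistDrop
import Mathlib.LinearAlgebra.Matrix.ToLinearEquiv
import Mathlib.LinearAlgebra.Matrix.NonsingularInverse

/-!
# Stable bundles in genus one have coprime rank and degree
-/

set_option autoImplicit false
universe u

open CategoryTheory Limits AlgebraicGeometry Opposite TopologicalSpace

namespace Groth.Agent.Lib.CurveBundle.GenusOneStable

open Groth.Agent.Lib Degree Slope TensorMod.Basic Curves.GlobalSections Modules.Free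

variable (k : Type u) [Field k] [IsAlgClosed k] {X : Scheme.{u}} [X.Over (Spec (CommRingCat.of k))]
  [IsProper (X ↘ Spec (CommRingCat.of k))] [IsIntegral X] [hC : CurveCtx k X]
  {A : X.Modules} (hA : PicF.IsInvertible A) (hA0 : 0 < dg k A)
  (h0 : Module.finrank k (Coh.HH X (Coh.structureModule X) 0) = 1)
  (hg : Curv2.genus k X = 1) (hdim : topologicalKrullDim X = 1)

include hC hA hA0 h0 hg hdim

/-- Sections of a bundle whose subsheaves have slope below `D / R`, where `R < D`. -/
theorem h0_bound_strict {D R : ℤ} (hR : 0 ≤ R) (hRD : R < D) {n : ℕ} (hn : 0 < n) {H : X.Modules}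
    (hH : FlatMod.IsFinLocFreeOfRank n H)
    (hS : ∀ (G : X.Modules) (i : G ⟶ H), Mono i → Coh.IsCoh G → 0 < gr k G →
      dg k G * R < D * (gr k G : ℤ)) :
    (Curves.Euler.hdim k X H 0 : ℤ) * R < D * (n : ℤ) := by
  obtain ⟨hHc, hHT, eH, -⟩ := bundle (k := k) hH
  rcases subsingleton_or_nontrivial (Coh.HH X H 1) with h1 | h1
  · have := hS H (𝟙 H) inferInstance hHc (by omega)
    rw [eH, dg, EvalKernel.euler_structure k h0 hg, mul_zero, sub_zero] at this
    rwa [H0Crit.h0_eq (k := k) hHc h1]
  obtain ⟨M, p, hp, hM, hM1⟩ := LineQuot.exists_line_quot k hA hA0 n H hH h1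
  have hMd := Curves.Clifford.deg_le_of_nontrivial_one k hC.dim_le h0 hM hM1
  rw [← dg_eq_deg k (TensorMod.LocFree.of_isInvertible hM), hg] at hMd
  obtain ⟨hMc, -, eM, -⟩ := SlopeLine.line (k := k) hM
  obtain ⟨hK, hgK, -⟩ := kernel_ses k p hHc hMc
  obtain ⟨hKb, -⟩ := sub_bundle (k := k) (kernel.ι p) hK hHT
  have h2 := EvalKernel.h0_bound k hA hA0 h0 hg hdim hR hRD.le _ (kernel p) hKb fun G i hi hG => by
    rcases Nat.eq_zero_or_pos (gr k G) with hz | hz
    · simp [(sub_zero_rank (k := k) (i ≫ kernel.ι p) hG hHT hz).2, hz]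
    · exact (hS G (i ≫ kernel.ι p) (mono_comp _ _) hG hz).le
  have : CompactSpace X := QuasiCompact.compactSpace_of_compactSpace (X ↘ Spec (CommRingCat.of k))
  obtain ⟨x, -, hx⟩ := IsClosed.exists_closed_singleton (S := (Set.univ : Set X)) isClosed_univ
    Set.univ_nonempty
  obtain ⟨hI, hJ, hJd⟩ := Point.point_facts_ctx k hdim hx
  rw [← dg_eq_deg k (TensorMod.LocFree.of_isInvertible hJ)] at hJd
  have h3 := H0Crit.h0_le hI hJ hJd 1 _ (TensorMod.LocFree.of_isInvertible hM)
    (H0Crit.lb_invertible hM (by push_cast at hMd ⊢; linarith))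
  have hS' : (ShortComplex.mk (kernel.ι p) p (kernel.condition p)).ShortExact :=
    { exact := ShortComplex.exact_kernel p }
  have := (hC.good _ hK).fin₀
  have := (hC.good _ hMc).fin₀
  have h4 : (Curves.Euler.hdim k X H 0 : ℤ) ≤
      Curves.Euler.hdim k X (kernel p) 0 + Curves.Euler.hdim k X M 0 := by
    exact_mod_cast Curves.Euler.hdim_zero_le_add (k := k) hS'
  have h5 : ((gr k (kernel p) : ℕ) : ℤ) = n - 1 := by omega
  rw [h5] at h2
  push_cast at h3
  nlinarith

/-- The evaluation kernel of a stable bundle of slope above one is stable. -/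
theorem exists_kernel {F : X.Modules} {R D : ℕ}
    (hR : 0 < R) (hRD : R < D) (hF : FlatMod.IsFinLocFreeOfRank R F) (hFd : dg k F = D)
    (hst : ST k F) :
    ∃ K : X.Modules, FlatMod.IsFinLocFreeOfRank (D - R) K ∧ dg k K = -(D : ℤ) ∧ ST k K := by
  obtain ⟨hFc, hFT, eF, -⟩ := bundle (k := k) hF
  have hss := ss_of_st hF hst
  obtain ⟨K, hK, hKd, hsub⟩ :=
    EvalKernel.exists_kernel_data k hA hA0 h0 hg hdim hR hRD hF hFd hss
  refine ⟨K, hK, hKd, fun G i hi hG hG0 hG1 => ?_⟩
  rw [(bundle (k := k) hK).2.2.1] at hG1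
  obtain ⟨w, J, e, _, hJ, hgJ, hind, hwG⟩ := hsub G i hi hG
  obtain ⟨hJb, -⟩ := sub_bundle (k := k) e hJ hFT
  rw [hKd, (bundle (k := k) hK).2.2.1]
  have hgJ' : (gr k J : ℤ) + gr k G ≤ w := by exact_mod_cast hgJ
  have hgG : (0 : ℤ) < gr k G := by exact_mod_cast hG0
  have hgG1 : (gr k G : ℤ) < (D : ℤ) - R := by omega
  have hR' : (0 : ℤ) < R := by exact_mod_cast hR
  push_cast [Nat.cast_sub hRD.le]
  have hD' : (0 : ℤ) < (D : ℤ) - R := by omega
  rcases (gr_le_of_mono k e hFc).lt_or_eq with hlt | heq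
  · rcases Nat.eq_zero_or_pos (gr k J) with hz | hz
    · have hJz := sub_zero_rank (k := k) e hJ hFT hz
      have : Subsingleton (Coh.HH X J 0) :=
        @AddCommGrpCat.subsingleton_of_isZero (AddCommGrpCat.of (Coh.HH X J 0))
          (((Sheaf.functorH (Opens.grothendieckTopology X) 0)).map_isZero
            (Functor.map_isZero (SheafOfModules.toSheaf X.ringCatSheaf) hJz.1))
      have : Curves.Euler.hdim k X J 0 = 0 := Module.finrank_zero_of_subsingleton
      omega
    have hJh := h0_bound_strict k hA hA0 h0 hg hdim (D := D) (R := R) hR'.le (by omega) hz hJb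
      fun H a _ hH hH0 => by
        have hle := gr_le_of_mono k a hJ
        have := hst H (a ≫ e) (mono_comp _ _) hH hH0 (by omega)
        rwa [hFd, eF] at this
    nlinarith [mul_le_mul_of_nonneg_right hind hR'.le, mul_le_mul_of_nonneg_right hwG hD'.le]
  · rw [heq, eF] at hgJ'
    nlinarith [mul_le_mul_of_nonneg_right hwG hD'.le, mul_lt_mul_of_pos_left hgG1 hR']

omit hdim in
/-- The germ of a section spanning a line subbundle is not in `m F`. -/
lemma not_mem_of_split {F L : X.Modules} {r : ℕ} (hF : FlatMod.IsFinLocFreeOfRank r F)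
    (hL : PicF.IsInvertible L) (j : L ⟶ F) [Mono j] (hT : TorSh.IsTorsionFree (cokernel j))
    (a : Coh.structureModule X ⟶ L) [IsIso a] (x : X) :
    Modules.StalkModule.stalkMapₗ (a ≫ j) x
        ((Coh.structureModule X).presheaf.germ ⊤ x trivial (1 : Γ(X, ⊤))) ∉
      IsLocalRing.maximalIdeal (X.presheaf.stalk x) •
        (⊤ : Submodule (X.presheaf.stalk x) (F.presheaf.stalk x)) := by
  intro hmem
  obtain ⟨hFc, -, -, -⟩ := bundle (k := k) hF
  obtain ⟨hLc, -, -, -⟩ := SlopeLine.line (k := k) hL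
  obtain ⟨hQc, -, -⟩ := cokernel_ses k j hLc hFc
  obtain ⟨bQ⟩ := Coherent.exists_basis_stalk (rank_gr k hQc hT) x
  have := Module.Projective.of_basis bQ
  have hS : (ShortComplex.mk j (cokernel.π j) (cokernel.condition j)).ShortExact :=
    { exact := ShortComplex.exact_cokernel j }
  obtain ⟨hinj, hex, hsurj⟩ := Rank.stalk_exact hS x
  dsimp only at hinj hex hsurj
  obtain ⟨s, hs⟩ := Module.projective_lifting_property
    (Modules.StalkModule.stalkMapₗ (cokernel.π j) x) LinearMap.id hsurj
  let d : F.presheaf.stalk x →ₗ[X.presheaf.stalk x] F.presheaf.stalk x :=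
    LinearMap.id - s.comp (Modules.StalkModule.stalkMapₗ (cokernel.π j) x)
  have hd : ∀ w, d w ∈ LinearMap.range (Modules.StalkModule.stalkMapₗ j x) := fun w =>
    (hex (d w)).1 (by
      show Modules.StalkModule.stalkMapₗ (cokernel.π j) x
        (w - s (Modules.StalkModule.stalkMapₗ (cokernel.π j) x w)) = 0
      rw [map_sub, show Modules.StalkModule.stalkMapₗ (cokernel.π j) x
        (s (Modules.StalkModule.stalkMapₗ (cokernel.π j) x w)) =
          Modules.StalkModule.stalkMapₗ (cokernel.π j) x w from LinearMap.congr_fun hs _, sub_self])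
  let ψ : F.presheaf.stalk x →ₗ[X.presheaf.stalk x] L.presheaf.stalk x :=
    (LinearEquiv.ofInjective _ hinj).symm.toLinearMap ∘ₗ d.codRestrict _ hd
  set u := Modules.StalkModule.stalkMapₗ a x
    ((Coh.structureModule X).presheaf.germ ⊤ x trivial (1 : Γ(X, ⊤))) with hu
  have hψ : ψ (Modules.StalkModule.stalkMapₗ j x u) = u := by
    refine (LinearEquiv.symm_apply_eq _).mpr (Subtype.ext ?_)
    show Modules.StalkModule.stalkMapₗ j x u -
      s (Modules.StalkModule.stalkMapₗ (cokernel.π j) x (Modules.StalkModule.stalkMapₗ j x u)) =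
        Modules.StalkModule.stalkMapₗ j x u
    rw [hex.apply_apply_eq_zero, map_zero, sub_zero]
  rw [Modules.StalkModule.stalkMapₗ_comp, LinearMap.comp_apply, ← hu] at hmem
  have hm : u ∈ IsLocalRing.maximalIdeal (X.presheaf.stalk x) •
      (⊤ : Submodule (X.presheaf.stalk x) (L.presheaf.stalk x)) := by
    have := Submodule.mem_map_of_mem (f := ψ) hmem
    rw [hψ, Submodule.map_smul''] at this
    exact Submodule.smul_mono le_rfl le_top this
  -- `u` generates
  obtain ⟨bL⟩ := Coherent.exists_basis_stalk (TensorMod.LocFree.of_isInvertible hL) x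
  have hs' : Function.Surjective (Modules.StalkModule.stalkMapₗ a x) :=
    ((Modules.StalkModule.isIso_iff_stalkMapₗ_bijective a).mp inferInstance x).2
  obtain ⟨c, hc⟩ := TwistDrop.exists_smul_one a hs' (bL 0)
  rw [← Modules.StalkModule.stalkMapₗ_germ a (U := ⊤) trivial, ← hu] at hc
  have hall : ∀ v ∈ IsLocalRing.maximalIdeal (X.presheaf.stalk x) •
      (⊤ : Submodule (X.presheaf.stalk x) (L.presheaf.stalk x)),
      bL.repr v 0 ∈ IsLocalRing.maximalIdeal (X.presheaf.stalk x) := fun v hv => by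
    refine Submodule.smul_induction_on hv (fun r hr y _ => ?_) fun y z hy hz => ?_
    · rw [map_smul, Finsupp.smul_apply, smul_eq_mul]
      exact Ideal.mul_mem_right _ _ hr
    · rw [map_add, Finsupp.add_apply]
      exact add_mem hy hz
  have h1 := hall _ (Submodule.smul_mem _ c hm)
  rw [← hc, Module.Basis.repr_self, Finsupp.single_eq_same] at h1
  exact (IsLocalRing.maximalIdeal.isMaximal _).ne_top ((Ideal.eq_top_iff_one _).mpr h1)

/-- No stable bundle of rank at least two has slope one. -/
theorem not_slope_one {F : X.Modules} {r : ℕ} (hr : 2 ≤ r) (hF : FlatMod.IsFinLocFreeOfRank r F)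
    (hFd : dg k F = r) (hst : ST k F) : False := by
  classical
  have := hC.noethSpace
  have := hC.locNoeth
  obtain ⟨hFc, hFT, eF, -⟩ := bundle (k := k) hF
  have hss := ss_of_st hF hst
  have hh0 : Module.finrank k (Coh.HH X F 0) = r := by
    have h1 := H0Crit.h0_eq (k := k) hFc (Vanishing.h1_ss hA hA0 h0 hF hss (by
      rw [hFd, hg]; push_cast; omega))
    rw [dg, EvalKernel.euler_structure k h0 hg, mul_zero, sub_zero] at hFd
    rw [hFd] at h1
    exact_mod_cast h1
  have := (hC.good _ hFc).fin₀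
  letI := secModule k F
  let b := (Module.finBasisOfFinrankEq k (Coh.HH X F 0) hh0).map (h0Linear k F)
  let p : FlatMod.freeMod X r ⟶ F := freeHom fun i => b i
  obtain ⟨hfc, hfT, efree, -⟩ := bundle (k := k) (TensorMod.LocFree.isFinLocFree_freeMod X r)
  obtain ⟨I, q, e, _, _, hqe, hI, hK, hgI, -⟩ := exists_image k p hfc hFc
  -- the evaluation is injective
  obtain ⟨hIb, -⟩ := sub_bundle (k := k) e hI hFT
  have hI0 : r ≤ Curves.Euler.hdim k X I 0 := by
    have := (hC.good _ hI).fin₀
    letI := secModule k I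
    haveI := Module.Finite.equiv (h0Linear k I)
    have hli : LinearIndependent k fun i => (show (I.val.obj (op ⊤) : Type u) from q.app ⊤ (gen X i)) := by
      rw [Fintype.linearIndependent_iff]
      intro c hc
      refine Fintype.linearIndependent_iff.mp b.linearIndependent c ?_
      let ea : (I.val.obj (op ⊤) : Type u) →+ (F.val.obj (op ⊤) : Type u) := (e.app ⊤).hom
      refine Eq.trans ?_ ((congrArg ea hc).trans ea.map_zero)
      rw [map_sum ea]
      refine Finset.sum_congr rfl fun i _ => ?_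
      refine Eq.trans ?_ (Scheme.Modules.Hom.app_smul e _ _).symm
      congr 1
      change _ = (q ≫ e).app ⊤ (gen X i)
      rw [hqe, freeHom_app_gen]
    have := hli.fintype_card_le_finrank
    rwa [Fintype.card_fin, ← (h0Linear k I).finrank_eq] at this
  have hIh := EvalKernel.h0_bound k hA hA0 h0 hg hdim (D := 1) (R := 1) zero_le_one le_rfl _ I hIb
    fun H a _ hH => by
      have := hss H (a ≫ e) (mono_comp _ _) hH
      rw [hFd, eF] at this
      rw [mul_one, one_mul]
      exact le_of_mul_le_mul_right (by linarith [mul_comm (r : ℤ) (gr k H : ℤ)])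
        (show (0 : ℤ) < r by omega)
  have hIr : gr k I = r := by
    have := gr_le_of_mono k e hFc
    rw [one_mul, mul_one] at hIh
    omega
  have hK0 := sub_zero_rank (k := k) (kernel.ι p) hK hfT (by omega)
  have : Mono p := Preadditive.mono_of_kernel_zero (hK0.1.eq_of_src _ _)
  -- a point where it drops
  obtain ⟨hQ, hgQ, hdQ⟩ := cokernel_ses k p hfc hFc
  have hgQ0 : Rank.grank (cokernel p) = 0 := by
    have : gr k (cokernel p) = 0 := by omega
    exact this
  obtain ⟨x, hxQ⟩ : (CohB1.support (cokernel p)).Nonempty := by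
    by_contra hne
    rw [Set.not_nonempty_iff_eq_empty] at hne
    have hz : ∀ x : X, Subsingleton ((cokernel p).presheaf.stalk x) := fun x => by
      by_contra h
      exact (Set.eq_empty_iff_forall_notMem.mp hne x) h
    have := dg_of_isZero k ((IsZero.iff_id_eq_zero _).mpr
      (Modules.StalkModule.hom_ext_stalkMapₗ fun x => LinearMap.ext fun v => @Subsingleton.elim _ (hz x) _ _)) hQ
    rw [(EvalKernel.free_facts k r).1] at hdQ
    omega
  have hx : IsClosed ({x} : Set X) := (Twist.finite_support hC.dim_le hQ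
    fun h => h (Rank.subsingleton_of_grank_eq_zero hQ hgQ0)).2 x hxQ
  obtain ⟨B⟩ := Coherent.exists_basis_stalk hF x
  let ev : Fin r → F.presheaf.stalk x := fun i => F.presheaf.germ ⊤ x trivial (b i)
  let M : Matrix (Fin r) (Fin r) (X.presheaf.stalk x) := Matrix.of fun i j => B.repr (ev j) i
  have hdet : (X.residue x) M.det = 0 := by
    by_contra h
    have hu : IsUnit M.det := IsLocalRing.notMem_maximalIdeal.mp fun hm =>
      h ((IsLocalRing.residue_eq_zero_iff _).mpr hm)
    refine hxQ ?_
    have hs : Function.Surjective (Modules.StalkModule.stalkMapₗ p x) := by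
      intro v
      obtain ⟨c, hc⟩ := (Matrix.mulVec_surjective_iff_isUnit.mpr
        ((Matrix.isUnit_iff_isUnit_det M).mpr hu)) (fun i => B.repr v i)
      refine ⟨∑ j, c j • (FlatMod.freeMod X r).presheaf.germ ⊤ x trivial (gen X j), B.repr.injective ?_⟩
      ext i
      rw [← congrFun hc i, map_sum, map_sum, Finsupp.finset_sum_apply]
      simp only [Matrix.mulVec, dotProduct, M, Matrix.of_apply, map_smul, Finsupp.smul_apply,
        smul_eq_mul]
      refine Finset.sum_congr rfl fun j _ => ?_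
      rw [freeHom_stalk_germ, mul_comm]
    have hS : (ShortComplex.mk p (cokernel.π p) (cokernel.condition p)).ShortExact :=
      { exact := ShortComplex.exact_cokernel p }
    obtain ⟨-, hex, hsurj⟩ := Rank.stalk_exact hS x
    exact subsingleton_of_forall_eq 0 fun w => by
      obtain ⟨v, rfl⟩ := hsurj w
      obtain ⟨z, rfl⟩ := hs v
      exact hex.apply_apply_eq_zero z
  rw [RingHom.map_det] at hdet
  obtain ⟨v, hv0, hv⟩ := Matrix.exists_mulVec_eq_zero_iff.mpr hdet
  choose c hc using fun i => Curves.NegFiltration.exists_const (k := k) hC.dim_le hx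
    (Function.surjInv (X.residue_surjective x) (v i))
  have hc' : ∀ i, v i = X.residue x (X.presheaf.germ ⊤ x trivial (EndAlg.cst X k (c i))) := fun i => by
    rw [← Function.surjInv_eq (X.residue_surjective x) (v i), hc i]
    rfl
  -- the section vanishing at `x`
  let t : Γ(F, ⊤) := ∑ i, EndAlg.cst X k (c i) • (show Γ(F, ⊤) from b i)
  have ht0 : t ≠ 0 := fun ht => hv0 (funext fun i => by
    rw [hc', Fintype.linearIndependent_iff.mp b.linearIndependent c ht i, map_zero, map_zero,
      map_zero]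
    rfl)
  have htm : F.presheaf.germ ⊤ x trivial t ∈ IsLocalRing.maximalIdeal (X.presheaf.stalk x) •
      (⊤ : Submodule (X.presheaf.stalk x) (F.presheaf.stalk x)) := by
    rw [← B.sum_repr (F.presheaf.germ ⊤ x trivial t)]
    refine Submodule.sum_mem _ fun i _ => Submodule.smul_mem_smul ?_ trivial
    refine (IsLocalRing.residue_eq_zero_iff _).mp ?_
    refine Eq.trans ?_ (congrFun hv i)
    simp only [t, map_sum, Finsupp.finset_sum_apply, Matrix.mulVec, dotProduct]
    refine Finset.sum_congr rfl fun j _ => ?_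
    rw [Modules.StalkModule.germ_smul, map_smul, Finsupp.smul_apply, smul_eq_mul, map_mul, mul_comm,
      hc' j]
    rfl
  have hOi := PicLoc.isInvertible_structureModule X
  obtain ⟨hOc, hOT, eO, -⟩ := SlopeLine.line (k := k) hOi
  have hσ : Curves.Clifford.σ F t ≠ 0 := fun h => ht0 (Curves.Clifford.σ_eq_zero h)
  obtain ⟨J, q', j', _, _, hqj, hJ, hK', hg', -⟩ := exists_image k (Curves.Clifford.σ F t) hOc hFc
  have hJ0 : gr k J ≠ 0 := fun h0 => hσ (eq_zero_of_image k q' j' hqj hJ hFT h0)
  have : Mono (Curves.Clifford.σ F t) := Preadditive.mono_of_kernel_zero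
    ((sub_zero_rank (k := k) (kernel.ι _) hK' hOT (by omega)).1.eq_of_src _ _)
  obtain ⟨L, j, a, _, _, haj, hL, hgr, hT, -⟩ :=
    Saturation.exists_saturation (Curves.Clifford.σ F t) hOc hFc
  have hgr' : gr k L = 1 := hgr.trans eO
  have hd1 := dg_le_of_mono k a hOc hL (eO.trans hgr'.symm)
  rw [H0Crit.dg_structure] at hd1
  have hd2 := hst L j ‹_› hL (by omega) (by omega)
  rw [hgr', hFd, eF] at hd2
  push_cast at hd2
  rw [mul_one] at hd2
  have hd3 : dg k L < 1 := lt_of_mul_lt_mul_right (by linarith) (Int.natCast_nonneg r)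
  have hLb := (sub_bundle (k := k) j hL hFT).1
  rw [hgr'] at hLb
  have hLi := TensorMod.LocFree.isInvertible_of_rank_one hLb
  have := SlopeLine.isIso_of_mono (k := k) hOi hLi a (by rw [H0Crit.dg_structure]; omega)
  refine not_mem_of_split k hA hA0 h0 hg hF hLi j hT a x ?_
  rw [haj, Modules.StalkModule.stalkMapₗ_germ, Curves.Clifford.σ_one]
  exact htm

/-- Stable bundles in genus one have coprime degree and rank. -/
theorem coprime (hA1 : dg k A = 1) :
    ∀ (r : ℕ), 0 < r → ∀ F : X.Modules, FlatMod.IsFinLocFreeOfRank r F → ST k F →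
      Int.gcd (dg k F) (r : ℤ) = 1 := by
  intro r
  induction r using Nat.strong_induction_on with
  | _ r ih =>
  intro hr F hF hst
  rcases (show 1 ≤ r from hr).lt_or_eq with hr2 | rfl
  swap
  · exact Int.gcd_one_right _
  obtain ⟨hFc, -, eF, -⟩ := bundle (k := k) hF
  let d := dg k F
  let t : ℤ := (d - (r : ℤ) - 1) % (r : ℤ)
  let s : ℤ := (d - (r : ℤ) - 1) / (r : ℤ)
  have hr' : (0 : ℤ) < r := by exact_mod_cast hr
  have ht0 : 0 ≤ t := Int.emod_nonneg _ (by omega)
  have htr : t < r := Int.emod_lt_of_pos _ hr'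
  have hts := Int.emod_add_mul_ediv (d - (r : ℤ) - 1) (r : ℤ)
  obtain ⟨n, hn⟩ : ∃ n : ℕ, (n : ℤ) = t + 1 := ⟨(t + 1).toNat, by omega⟩
  have hgcd : ∀ c : ℤ, Int.gcd (d + (r : ℤ) * c) r = Int.gcd d r := fun c => by
    rw [mul_comm]; exact Int.gcd_add_mul_right_left ..
  -- twisting keeps stability
  have htw : ∀ c : ℤ, ∃ F' : X.Modules, FlatMod.IsFinLocFreeOfRank r F' ∧
      dg k F' = d + (r : ℤ) * c ∧ ST k F' := fun c => by
    obtain ⟨N, hN, hNd⟩ := RankTwoExt.exists_deg (k := k) hA hA1 c
    refine ⟨CohB1.tensorMod F N,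
      by simpa using TensorMod.LocFree.rank_tensorMod hF (TensorMod.LocFree.of_isInvertible hN),
      by rw [(Twist.gr_dg_twist k hN hFc).2, eF, hNd], ?_⟩
    intro H i _ hH h0' h1
    have hN' := TensorMod.Invertible.isInvertible_dual hN
    have := Twist.isEquivalence hN'
    let e : CohB1.tensorMod (CohB1.tensorMod F N) (TensorMod.Dual.dual N) ≅ F :=
      assoc F N _ ≪≫ tensorIso (Iso.refl _) (TensorMod.Invertible.tensorDualIso hN) ≪≫ rightUnit F
    have : Mono (tmap i (𝟙 (TensorMod.Dual.dual N))) :=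
      inferInstanceAs (Mono ((tensorBy (TensorMod.Dual.dual N)).map i))
    obtain ⟨g1, d1⟩ := Twist.gr_dg_twist k hN' hH
    obtain ⟨g3, d3⟩ := Twist.gr_dg_twist k hN hFc
    have h := hst _ (tmap i (𝟙 _) ≫ e.hom) (mono_comp _ _) (Twist.isCoh hN' hH) (by omega)
      (by omega)
    rw [d1, g1, H0Crit.dg_dual hN] at h
    rw [d3, g3]
    linarith
  rcases (show n ≤ r by omega).lt_or_eq with hlt | heq
  · obtain ⟨F', hF', hFd', hst'⟩ := htw (-s)
    have hd' : dg k F' = ((n + r : ℕ) : ℤ) := by
      rw [hFd']; push_cast; rw [hn]; linarith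
    obtain ⟨K, hK, hKd, hKs⟩ := exists_kernel k hA hA0 h0 hg hdim hr (by omega) hF' hd' hst'
    rw [Nat.add_sub_cancel] at hK
    have := ih n hlt (by omega) K hK hKs
    rw [hKd, Int.neg_gcd, Nat.cast_add, Int.gcd_self_add_left, Int.gcd_comm] at this
    rw [← hgcd (-s), ← hFd', hd', Nat.cast_add, Int.gcd_add_self_left]
    exact this
  · obtain ⟨F', hF', hFd', hst'⟩ := htw (-s - 1)
    exact (not_slope_one k hA hA0 h0 hg hdim hr2 hF'
      (by rw [hFd']; linarith [show ((n : ℕ) : ℤ) = r by exact_mod_cast heq]) hst').elim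

end Groth.Agent.Lib.CurveBundle.GenusOneStable
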