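import Groth.Agent.Lib.CurveBundle.SlopeSES

/-!
# Line subbundles and extensions by line bundles
-/

set_option autoImplicit false
universe u

open CategoryTheory Limits AlgebraicGeometry TopologicalSpace

namespace Groth.Agent.Lib.CurveBundle.SlopeLine

open Groth.Agent.Lib Degree Slope

variable {k : Type u} [Field k] {X : Scheme.{u}} [X.Over (Spec (CommRingCat.of k))]
  [hC : CurveCtx k X]

include hC

lemma line {L : X.Modules} (hL : PicF.IsInvertible L) :
    Coh.IsCoh L ∧ TorSh.IsTorsionFree L ∧ gr k L = 1 ∧ Curv2.deg k X L 1 = dg k L :=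
  bundle (k := k) (TensorMod.LocFree.of_isInvertible hL)

/-- A nonzero map of line bundles is injective and raises the degree. -/
lemma of_ne_zero {M N : X.Modules} (hM : PicF.IsInvertible M) (hN : PicF.IsInvertible N) (f : M ⟶ N)
    (hf : f ≠ 0) : Mono f ∧ dg k M ≤ dg k N := by
  obtain ⟨hMc, hMT, eM, -⟩ := line (k := k) hM
  obtain ⟨hNc, hNT, eN, -⟩ := line (k := k) hN
  obtain ⟨I, p, j, hp, hj, hpj, hI, hK, hg, hd⟩ := exists_image k f hMc hNc
  have h0 : gr k I ≠ 0 := fun h => hf (eq_zero_of_image k p j hpj hI hNT h)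
  have : Mono f := Preadditive.mono_of_kernel_zero
    ((sub_zero_rank (k := k) (kernel.ι f) hK hMT (by omega)).1.eq_of_src _ _)
  exact ⟨this, dg_le_of_mono k f hMc hNc (by omega)⟩

lemma isIso_of_mono {M N : X.Modules} (hM : PicF.IsInvertible M) (hN : PicF.IsInvertible N)
    (f : M ⟶ N) [Mono f] (hd : dg k M = dg k N) : IsIso f := by
  obtain ⟨hMc, -, eM, -⟩ := line (k := k) hM
  obtain ⟨hNc, -, eN, -⟩ := line (k := k) hN
  exact Degree.isIso_of_mono k f hMc hNc (by omega) hd

/-- Degree of a line quotient of a rank two bundle. -/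
lemma dg_cokernel {E M : X.Modules} (hE : FlatMod.IsFinLocFreeOfRank 2 E)
    (hM : PicF.IsInvertible M) (i : M ⟶ E) [Mono i] :
    Curv2.deg k X E 2 = dg k M + dg k (cokernel i) := by
  obtain ⟨hMc, -, -, -⟩ := line (k := k) hM
  obtain ⟨hEc, -, -, edE⟩ := bundle (k := k) hE
  obtain ⟨-, -, hd⟩ := cokernel_ses k i hMc hEc
  omega

/-- The destabilising line subbundle is unique. -/
theorem eq_of_destab {E M M' : X.Modules} (hE : FlatMod.IsFinLocFreeOfRank 2 E)
    (hM : PicF.IsInvertible M) (hM' : PicF.IsInvertible M') (i : M ⟶ E) (i' : M' ⟶ E) [Mono i]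
    [Mono i'] (hq : PicF.IsInvertible (cokernel i)) (hq' : PicF.IsInvertible (cokernel i'))
    (hd : Curv2.deg k X E 2 < 2 * Curv2.deg k X M 1)
    (hd' : Curv2.deg k X E 2 < 2 * Curv2.deg k X M' 1) :
    ∃ φ : M ≅ M', φ.hom ≫ i' = i := by
  obtain ⟨-, -, -, edM⟩ := line (k := k) hM
  obtain ⟨-, -, -, edM'⟩ := line (k := k) hM'
  have e := dg_cokernel (k := k) hE hM i
  have e' := dg_cokernel (k := k) hE hM' i'
  have h : i ≫ cokernel.π i' = 0 := by
    by_contra h
    linarith [(of_ne_zero (k := k) hM hq' _ h).2]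
  have h' : i' ≫ cokernel.π i = 0 := by
    by_contra h
    linarith [(of_ne_zero (k := k) hM' hq _ h).2]
  let a := Abelian.monoLift i' i h
  let b := Abelian.monoLift i i' h'
  exact ⟨⟨a, b, by rw [← cancel_mono i, Category.assoc, Abelian.monoLift_comp,
      Abelian.monoLift_comp, Category.id_comp],
    by rw [← cancel_mono i', Category.assoc, Abelian.monoLift_comp, Abelian.monoLift_comp,
      Category.id_comp]⟩, Abelian.monoLift_comp i' i h⟩

/-- Line subbundles of half the degree give the same graded module. -/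
theorem graded_iso {E L L' : X.Modules} (hE : FlatMod.IsFinLocFreeOfRank 2 E)
    (hL : PicF.IsInvertible L) (hL' : PicF.IsInvertible L') (i : L ⟶ E) (i' : L' ⟶ E) [Mono i]
    [Mono i'] (hq : PicF.IsInvertible (cokernel i)) (hq' : PicF.IsInvertible (cokernel i'))
    (hd : 2 * Curv2.deg k X L 1 = Curv2.deg k X E 2)
    (hd' : 2 * Curv2.deg k X L' 1 = Curv2.deg k X E 2) :
    Nonempty (L ⊞ cokernel i ≅ L' ⊞ cokernel i') := by
  obtain ⟨-, -, -, edL⟩ := line (k := k) hL
  obtain ⟨-, -, -, edL'⟩ := line (k := k) hL'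
  have e := dg_cokernel (k := k) hE hL i
  have e' := dg_cokernel (k := k) hE hL' i'
  by_cases h : i ≫ cokernel.π i' = 0
  · let a := Abelian.monoLift i' i h
    have ha : a ≫ i' = i := Abelian.monoLift_comp i' i h
    have : Mono a := mono_of_mono_fac ha
    have := isIso_of_mono (k := k) hL hL' a (by omega)
    exact ⟨biprod.mapIso (asIso a) (cokernelIsoOfEq ha.symm ≪≫ cokernelEpiComp a i')⟩
  · obtain ⟨_, -⟩ := of_ne_zero (k := k) hL hq' _ h
    have := isIso_of_mono (k := k) hL hq' (i ≫ cokernel.π i') (by omega)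
    have h' : i' ≫ cokernel.π i ≠ 0 := fun h0 => by
      let b := Abelian.monoLift i i' h0
      have hb : b ≫ i = i' := Abelian.monoLift_comp i i' h0
      have : Mono b := mono_of_mono_fac hb
      have := isIso_of_mono (k := k) hL' hL b (by omega)
      refine h ?_
      rw [← cancel_epi b, ← Category.assoc, hb, cokernel.condition, comp_zero]
    obtain ⟨_, -⟩ := of_ne_zero (k := k) hL' hq _ h'
    have := isIso_of_mono (k := k) hL' hq (i' ≫ cokernel.π i) (by omega)
    exact ⟨biprod.mapIso (asIso (i ≫ cokernel.π i')) (asIso (i' ≫ cokernel.π i)).symm ≪≫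
      biprod.braiding _ _⟩

/-- A line subbundle of an extension is the sub or has degree at most that of the quotient. -/
theorem line_in_extension (S : ShortComplex X.Modules) (hS : S.ShortExact)
    (hL : PicF.IsInvertible S.X₁) (hM : PicF.IsInvertible S.X₃) (N : X.Modules)
    (hN : PicF.IsInvertible N) (j : N ⟶ S.X₂) [Mono j] (hq : PicF.IsInvertible (cokernel j)) :
    (∃ φ : N ≅ S.X₁, φ.hom ≫ S.f = j) ∨ Curv2.deg k X N 1 ≤ Curv2.deg k X S.X₃ 1 := by
  let _ := hC.integral
  obtain ⟨-, -, -, edN⟩ := line (k := k) hN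
  obtain ⟨-, -, -, edM⟩ := line (k := k) hM
  have := hS.mono_f
  by_cases h : j ≫ S.g = 0
  · left
    let a : N ⟶ S.X₁ := hS.fIsKernel.lift (KernelFork.ofι j h)
    have ha : a ≫ S.f = j := hS.fIsKernel.fac (KernelFork.ofι j h) WalkingParallelPair.zero
    have hv : S.f ≫ cokernel.π j = 0 := by
      by_contra hv
      obtain ⟨_, -⟩ := of_ne_zero (k := k) hL hq _ hv
      have h2 : a = 0 := by
        rw [← cancel_mono (S.f ≫ cokernel.π j), ← Category.assoc, ha, cokernel.condition, zero_comp]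
      have h3 : j = 0 := by rw [← ha, h2, zero_comp]
      refine Indec.not_isZero_of_rank (Nat.one_pos) (TensorMod.LocFree.of_isInvertible hN) ?_
      rw [IsZero.iff_id_eq_zero, ← cancel_mono j, h3, comp_zero, comp_zero]
    let b := Abelian.monoLift j S.f hv
    have hb : b ≫ j = S.f := Abelian.monoLift_comp j S.f hv
    exact ⟨⟨a, b, by rw [← cancel_mono j, Category.assoc, hb, ha, Category.id_comp],
      by rw [← cancel_mono S.f, Category.assoc, ha, hb, Category.id_comp]⟩, ha⟩
  · right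
    linarith [(of_ne_zero (k := k) hN hM _ h).2]

lemma st_line {L : X.Modules} (hL : PicF.IsInvertible L) : ST k L := by
  intro G i _ _ h0 h1
  rw [(line (k := k) hL).2.2.1] at h1
  omega

/-- Non-split extensions of line bundles of decreasing degree are simple. -/
theorem simple_extension [IsAlgClosed k] [IsProper (X ↘ Spec (CommRingCat.of k))]
    (S : ShortComplex X.Modules) (hS : S.ShortExact)
    (hL : PicF.IsInvertible S.X₁) (hM : PicF.IsInvertible S.X₃)
    (hdeg : Curv2.deg k X S.X₃ 1 < Curv2.deg k X S.X₁ 1)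
    (hhom : ∀ g : S.X₃ ⟶ S.X₁, g = 0) (hns : ¬ IsSplitEpi S.g) (φ : S.X₂ ⟶ S.X₂) :
    ∃ c : k, φ = EndAlg.scal S.X₂ (EndAlg.cst X k c) := by
  obtain ⟨-, -, -, edL⟩ := line (k := k) hL
  obtain ⟨-, -, -, edM⟩ := line (k := k) hM
  have := hS.mono_f
  have := hS.epi_g
  have h : (S.f ≫ φ) ≫ S.g = 0 := by
    by_contra h
    linarith [(of_ne_zero (k := k) hL hM _ h).2]
  let a : S.X₁ ⟶ S.X₁ := hS.fIsKernel.lift (KernelFork.ofι (S.f ≫ φ) h)
  have ha : a ≫ S.f = S.f ≫ φ :=
    hS.fIsKernel.fac (KernelFork.ofι (S.f ≫ φ) h) WalkingParallelPair.zero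
  obtain ⟨c, hc⟩ := exists_scal (k := k) Nat.one_pos (TensorMod.LocFree.of_isInvertible hL)
    (st_line hL) a
  refine ⟨c, sub_eq_zero.mp ?_⟩
  let ψ := φ - EndAlg.scal S.X₂ (EndAlg.cst X k c)
  have hψ : S.f ≫ ψ = 0 := by
    rw [Preadditive.comp_sub, ← ha, hc, EndAlg.scal_comm, sub_self]
  let g : S.X₃ ⟶ S.X₂ := hS.gIsCokernel.desc (CokernelCofork.ofπ ψ hψ)
  have hg : S.g ≫ g = ψ :=
    hS.gIsCokernel.fac (CokernelCofork.ofπ ψ hψ) WalkingParallelPair.one
  obtain ⟨d, hd⟩ := exists_scal (k := k) Nat.one_pos (TensorMod.LocFree.of_isInvertible hM)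
    (st_line hM) (g ≫ S.g)
  have hgg : g ≫ S.g = 0 := by
    by_cases hd0 : d = 0
    · subst hd0
      rw [hd, map_zero]
      exact (EndAlg.scalHom S.X₃).map_zero
    · refine absurd (IsSplitEpi.mk' ⟨EndAlg.scal S.X₃ (EndAlg.cst X k d⁻¹) ≫ g, ?_⟩) hns
      rw [Category.assoc, hd]
      have h1 := (EndAlg.scalHom S.X₃).map_mul (EndAlg.cst X k d) (EndAlg.cst X k d⁻¹)
      rw [← map_mul, mul_inv_cancel₀ hd0, map_one, map_one] at h1
      exact h1.symm
  let e : S.X₃ ⟶ S.X₁ := hS.fIsKernel.lift (KernelFork.ofι g hgg)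
  have he : e ≫ S.f = g := hS.fIsKernel.fac (KernelFork.ofι g hgg) WalkingParallelPair.zero
  show ψ = 0
  rw [← hg, ← he, hhom e, zero_comp, comp_zero]

end Groth.Agent.Lib.CurveBundle.SlopeLine
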