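import Groth.Agent.Lib.CurveBundle.Sections
import Groth.Agent.Lib.CurveBundle.SlopeLine
import Groth.Agent.Lib.Curves.Positivity
import Groth.Agent.H34.HOne
import Groth.Agent.H97.CurvePositivity
import Groth.Agent.H97.CurveAmple
import Groth.Prelude.Def_ShStab
import Groth.Prelude.Def_ModFun

/-!
# Sections of bundles bounded by their line subbundles, `H¹` by their line quotients

If all line subsheaves of a rank `n` bundle have degree `< N`, then `h⁰ ≤ n · N`; if all line
quotients have large degree, `H¹` vanishes. Consequence: semistability on a curve is the comparison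
of `h⁰` after a uniform twist.
-/

set_option autoImplicit false
universe u

open CategoryTheory Limits AlgebraicGeometry TopologicalSpace

namespace Groth.Agent.Lib.CurveBundle.H0Crit

open Groth.Agent.Lib Degree Slope TensorMod.Basic TensorMod.Gen TensorMod.Dual TensorMod.Colimit

variable (k : Type u) [Field k] {X : Scheme.{u}} [X.Over (Spec (CommRingCat.of k))]
  [hC : CurveCtx k X]

include hC

/-- All line subsheaves have degree less than `N`. -/
def LB (G : X.Modules) (N : ℤ) : Prop :=
  ∀ (M : X.Modules) (i : M ⟶ G), Mono i → PicF.IsInvertible M → dg k M < N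

/-- All line quotients have degree at least `c`. -/
def QB (G : X.Modules) (c : ℤ) : Prop :=
  ∀ (Q : X.Modules) (p : G ⟶ Q), Epi p → PicF.IsInvertible Q → c ≤ dg k Q

variable {k}

lemma dg_structure : dg k (Coh.structureModule X) = 0 := by
  rw [dg_eq_deg k (TensorMod.LocFree.of_isInvertible (PicLoc.isInvertible_structureModule X))]
  exact Curves.Degree.deg_structureModule

lemma dg_dual {J : X.Modules} (hJ : PicF.IsInvertible J) : dg k (dual J) = -dg k J := by
  have hJ' := TensorMod.Invertible.isInvertible_dual hJ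
  obtain ⟨hJc, -, eJ, -⟩ := SlopeLine.line (k := k) hJ
  obtain ⟨-, d⟩ := Twist.gr_dg_twist k hJ' hJc
  rw [dg_congr k (TensorMod.Invertible.tensorDualIso hJ), dg_structure, eJ] at d
  push_cast at d
  linarith

lemma lb_tensor {G J : X.Modules} (hJ : PicF.IsInvertible J) {N : ℤ} (h : LB k G N) :
    LB k (CohB1.tensorMod G J) (N + dg k J) := by
  intro M i _ hM
  have hJ' : PicF.IsInvertible (dual J) := TensorMod.Invertible.isInvertible_dual hJ
  have := Twist.isEquivalence hJ'
  let e : CohB1.tensorMod (CohB1.tensorMod G J) (dual J) ≅ G :=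
    assoc G J (dual J) ≪≫ tensorIso (Iso.refl _) (TensorMod.Invertible.tensorDualIso hJ) ≪≫ rightUnit G
  have : Mono (tmap i (𝟙 (dual J))) := inferInstanceAs (Mono ((tensorBy (dual J)).map i))
  have h1 := h _ (tmap i (𝟙 (dual J)) ≫ e.hom) (mono_comp _ _)
    (TensorMod.Invertible.isInvertible_tensorMod hM hJ')
  obtain ⟨hMc, -, eM, -⟩ := SlopeLine.line (k := k) hM
  obtain ⟨-, d⟩ := Twist.gr_dg_twist k hJ' hMc
  rw [d, eM, dg_dual hJ] at h1
  push_cast at h1
  linarith

lemma lb_of_mono {K G : X.Modules} (j : K ⟶ G) [Mono j] {N : ℤ} (h : LB k G N) : LB k K N :=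
  fun M i _ hM => h M (i ≫ j) (mono_comp _ _) hM

lemma lb_invertible {Q : X.Modules} (hQ : PicF.IsInvertible Q) {N : ℤ} (h : dg k Q < N) :
    LB k Q N := fun M i hi hM => by
  obtain ⟨hMc, -, eM, -⟩ := SlopeLine.line (k := k) hM
  obtain ⟨hQc, -, eQ, -⟩ := SlopeLine.line (k := k) hQ
  exact (dg_le_of_mono k i hMc hQc (by omega)).trans_lt h

lemma no_sections {G : X.Modules} {r : ℕ} (hG : FlatMod.IsFinLocFreeOfRank r G) (h : LB k G 0) :
    Subsingleton (Coh.HH X G 0) := by
  let _ := hC.integral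
  obtain ⟨hGc, hT, er, -⟩ := bundle (k := k) hG
  obtain ⟨hOc, hOT, eO, -⟩ := SlopeLine.line (k := k) (PicLoc.isInvertible_structureModule X)
  refine not_nontrivial_iff_subsingleton.mp fun hn => ?_
  obtain ⟨w, hw⟩ := Curves.Positivity.exists_section_of_nontrivial hn
  obtain ⟨J, p, j, hp, hj, hpj, hJ, hK, hg, -⟩ := exists_image k w hOc hGc
  have hJ0 : gr k J ≠ 0 := fun h0 => hw (eq_zero_of_image k p j hpj hJ hT h0)
  have : Mono w := Preadditive.mono_of_kernel_zero
    ((sub_zero_rank (k := k) (kernel.ι w) hK hOT (by omega)).1.eq_of_src _ _)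
  have := h _ w this (PicLoc.isInvertible_structureModule X)
  rw [dg_structure] at this
  omega

/-- `h⁰ ≤ rank · N`. -/
theorem h0_le [IsProper (X ↘ Spec (CommRingCat.of k))] {I : X.IdealSheafData}
    (hI : letI := hC.integral; genericPoint X ∉ (I.support : Set X))
    (hJ : PicF.IsInvertible (ClSub.idealMod I)) (hJd : dg k (ClSub.idealMod I) = -1) {r : ℕ} :
    ∀ (N : ℕ) (G : X.Modules), FlatMod.IsFinLocFreeOfRank r G → LB k G N →
      (Curves.Euler.hdim k X G 0 : ℤ) ≤ (r : ℤ) * N := by
  let _ := hC.integral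
  intro N
  induction N with
  | zero =>
    intro G hG h
    have := no_sections hG (by simpa using h)
    simp [Curves.Euler.hdim, Module.finrank_zero_of_subsingleton]
  | succ N ih =>
    intro G hG h
    have hb : FlatMod.IsFinLocFreeOfRank r (CohB1.tensorMod G (ClSub.idealMod I)) := by
      simpa using TensorMod.LocFree.rank_tensorMod hG (TensorMod.LocFree.of_isInvertible hJ)
    have hl := lb_tensor (k := k) hJ h
    rw [hJd] at hl
    have h1 := ih _ hb (by simpa using hl)
    have h2 := Point.h0_twist k hI hJ hG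
    rw [hJd] at h2
    push_cast
    linarith

/-- The Euler characteristic is at most `rank · N`. -/
theorem euler_le [IsProper (X ↘ Spec (CommRingCat.of k))] {I : X.IdealSheafData}
    (hI : letI := hC.integral; genericPoint X ∉ (I.support : Set X))
    (hJ : PicF.IsInvertible (ClSub.idealMod I)) (hJd : dg k (ClSub.idealMod I) = -1) {r : ℕ} {N : ℤ}
    {G : X.Modules} (hG : FlatMod.IsFinLocFreeOfRank r G) (h : LB k G N) :
    dg k G + (r : ℤ) * Curv2.euler k X (Coh.structureModule X) ≤ (r : ℤ) * N := by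
  let _ := hC.integral
  obtain ⟨m, hm⟩ : ∃ m : ℕ, 0 ≤ N + m := ⟨(-N).toNat, by omega⟩
  have hJ' := TensorMod.Invertible.isInvertible_dual hJ
  have hP := TensorMod.Invertible.isInvertible_tensorPow hJ' m
  have hPd : dg k (CohB1.tensorPow (dual (ClSub.idealMod I)) m) = m := by
    rw [dg_eq_deg k (TensorMod.LocFree.of_isInvertible hP),
      H97.CurvePositivity.deg_tensorPow k hC.dim_le hJ', ← dg_eq_deg k (TensorMod.LocFree.of_isInvertible hJ'),
      dg_dual hJ, hJd]
    ring
  have hb : FlatMod.IsFinLocFreeOfRank r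
      (CohB1.tensorMod G (CohB1.tensorPow (dual (ClSub.idealMod I)) m)) := by
    simpa using TensorMod.LocFree.rank_tensorMod hG (TensorMod.LocFree.of_isInvertible hP)
  obtain ⟨hGc, -, eG, -⟩ := bundle (k := k) hG
  obtain ⟨hHc, -, eH, edH⟩ := bundle (k := k) hb
  obtain ⟨-, d⟩ := Twist.gr_dg_twist k hP hGc
  have hl := lb_tensor (k := k) hP h
  rw [hPd] at hl
  have hle := h0_le hI hJ hJd (N + m).toNat _ hb (by rw [Int.toNat_of_nonneg hm]; exact hl)
  rw [Int.toNat_of_nonneg hm] at hle
  have he := (hC.good _ hHc).euler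
  rw [hPd, eG] at d
  unfold Curv2.deg at edH
  linarith [Int.natCast_nonneg (Curves.Euler.hdim k X
    (CohB1.tensorMod G (CohB1.tensorPow (dual (ClSub.idealMod I)) m)) 1)]

/-- A line subsheaf of largest degree has a bundle as cokernel. -/
theorem exists_max_line {G : X.Modules} {n : ℕ} (hG : FlatMod.IsFinLocFreeOfRank (n + 1) G) :
    ∃ (L : X.Modules) (i : L ⟶ G), Mono i ∧ PicF.IsInvertible L ∧ LB k G (dg k L + 1) ∧
      FlatMod.IsFinLocFreeOfRank n (cokernel i) := by
  let _ := hC.integral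
  have := hC.locNoeth
  have := hC.noethSpace
  obtain ⟨hGc, hT, eG, -⟩ := bundle (k := k) hG
  obtain ⟨hOc, hOT, eO, -⟩ := SlopeLine.line (k := k) (PicLoc.isInvertible_structureModule X)
  obtain ⟨B, hB⟩ := exists_bound k hGc
  obtain ⟨d, ⟨M, i, hi, hM, rfl⟩, hd⟩ := Int.exists_greatest_of_bdd
    (P := fun d => ∃ (M : X.Modules) (i : M ⟶ G), Mono i ∧ PicF.IsInvertible M ∧ dg k M = d)
    ⟨B, fun d ⟨M, i, hi, hM, e⟩ => e ▸ hB M i hi (SlopeLine.line (k := k) hM).1⟩
    (by
      obtain ⟨M, a, -, ha, -, hMc, hM1⟩ := Devissage.exists_line hGc hOc hT hOT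
        (show 0 < gr k G by omega) (show 0 < gr k (Coh.structureModule X) by omega)
      refine ⟨_, M, a, ha, TensorMod.LocFree.isInvertible_of_rank_one ?_, rfl⟩
      have hb := (sub_bundle (k := k) a hMc hT).1
      rwa [show gr k M = 1 from hM1] at hb)
  obtain ⟨hMc, hMT, eM, -⟩ := SlopeLine.line (k := k) hM
  obtain ⟨L, j, a, hj, ha, -, hLc, hLg, hQT, hQc⟩ := Saturation.exists_saturation i hMc hGc
  have eL : gr k L = 1 := hLg.trans eM
  have hL : PicF.IsInvertible L := TensorMod.LocFree.isInvertible_of_rank_one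
    (eL ▸ (sub_bundle (k := k) j hLc hT).1)
  have h1 := dg_le_of_mono k a hMc hLc (by omega)
  obtain ⟨-, hg, -⟩ := cokernel_ses k j hLc hGc
  refine ⟨L, j, hj, hL, fun M' i' hi' hM' => ?_, ?_⟩
  · have := hd _ ⟨M', i', hi', hM', rfl⟩
    omega
  · have hQ := rank_gr k hQc hQT
    rwa [show gr k (cokernel j) = n by omega] at hQ

omit hC in
lemma h1_isZero {Z : X.Modules} (h : IsZero Z) : Subsingleton (Coh.HH X Z 1) :=
  @AddCommGrpCat.subsingleton_of_isZero (AddCommGrpCat.of (Coh.HH X Z 1))
    (((Sheaf.functorH (Opens.grothendieckTopology X) 1)).map_isZero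
      (Functor.map_isZero (SheafOfModules.toSheaf X.ringCatSheaf) h))

/-- Large degree of all line quotients bounds the degree and kills `H¹`. -/
theorem quot_bound [IsProper (X ↘ Spec (CommRingCat.of k))] {I : X.IdealSheafData}
    (hI : letI := hC.integral; genericPoint X ∉ (I.support : Set X))
    (hJ : PicF.IsInvertible (ClSub.idealMod I)) (hJd : dg k (ClSub.idealMod I) = -1) {γ : ℤ}
    (hγ : γ = 1 - Curv2.euler k X (Coh.structureModule X)) (hγ0 : 0 ≤ γ) {c₀ : ℤ}
    (hc₀ : ∀ M : X.Modules, PicF.IsInvertible M → c₀ ≤ dg k M → Subsingleton (Coh.HH X M 1)) :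
    ∀ (n : ℕ) (G : X.Modules) (c : ℤ), FlatMod.IsFinLocFreeOfRank n G → QB k G c →
      (n : ℤ) * (c - 2 * γ * n) ≤ dg k G ∧
        (c₀ + 2 * γ * n ≤ c → Subsingleton (Coh.HH X G 1)) := by
  let _ := hC.integral
  intro n
  induction n with
  | zero =>
    intro G c hG _
    obtain ⟨hGc, hT, eG, -⟩ := bundle (k := k) hG
    have hz := isZero_of_gr k hGc hT eG
    exact ⟨by rw [dg_of_isZero k hz hGc]; simp, fun _ => h1_isZero hz⟩
  | succ n ih =>
    intro G c hG hq
    obtain ⟨hGc, hT, eG, -⟩ := bundle (k := k) hG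
    obtain ⟨L, i, hi, hL, hlb, hQ⟩ := exists_max_line (k := k) hG
    obtain ⟨hLc, -, eL, -⟩ := SlopeLine.line (k := k) hL
    obtain ⟨hQc, -, eQ, -⟩ := bundle (k := k) hQ
    obtain ⟨-, -, hd⟩ := cokernel_ses k i hLc hGc
    obtain ⟨h2, h3⟩ := ih (cokernel i) c hQ fun Q p hp hQi =>
      hq Q (cokernel.π i ≫ p) (epi_comp _ _) hQi
    have h4 := euler_le hI hJ hJd hG hlb
    have hS : (ShortComplex.mk i (cokernel.π i) (cokernel.condition i)).ShortExact :=
      { exact := ShortComplex.exact_cokernel i }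
    have key : c - 2 * γ * (n + 1) ≤ dg k L := by
      rcases Nat.eq_zero_or_pos n with rfl | hn
      · have hGi : PicF.IsInvertible G := TensorMod.LocFree.isInvertible_of_rank_one hG
        have hz := isZero_of_gr k hQc (bundle (k := k) hQ).2.1 eQ
        have h0 := dg_of_isZero k hz hQc
        have := hq G (𝟙 G) inferInstance hGi
        push_cast
        linarith
      · push_cast at h4
        by_contra hlt
        rw [not_le] at hlt
        have hn' : (1 : ℤ) ≤ n := by exact_mod_cast hn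
        have : (n : ℤ) * dg k L ≤ n * (c - 2 * γ * (n + 1) - 1) :=
          mul_le_mul_of_nonneg_left (by omega) (by omega)
        nlinarith [mul_nonneg hγ0 (sub_nonneg.mpr hn')]
    refine ⟨?_, fun hc => H34.HOne.h1_of_shortExact hS (hc₀ L hL ?_) (h3 ?_)⟩
    · push_cast
      nlinarith [mul_nonneg hγ0 (Int.natCast_nonneg n)]
    · push_cast at hc; linarith
    · push_cast at hc; linarith

/-- Sections of subsheaves with a line quotient of small degree. -/
theorem h0_of_quot [IsProper (X ↘ Spec (CommRingCat.of k))] {I : X.IdealSheafData}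
    (hI : letI := hC.integral; genericPoint X ∉ (I.support : Set X))
    (hJ : PicF.IsInvertible (ClSub.idealMod I)) (hJd : dg k (ClSub.idealMod I) = -1) {N c n : ℕ}
    {G Q : X.Modules} (hG : FlatMod.IsFinLocFreeOfRank (n + 1) G) (h : LB k G N) (p : G ⟶ Q) [Epi p]
    (hQ : PicF.IsInvertible Q) (hQd : dg k Q < c) :
    (Curves.Euler.hdim k X G 0 : ℤ) ≤ (n : ℤ) * N + c := by
  let _ := hC.integral
  obtain ⟨hGc, hT, eG, -⟩ := bundle (k := k) hG
  obtain ⟨hQc, -, eQ, -⟩ := SlopeLine.line (k := k) hQ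
  obtain ⟨hK, hg, -⟩ := kernel_ses k p hGc hQc
  have hKb := (sub_bundle (k := k) (kernel.ι p) hK hT).1
  rw [show gr k (kernel p) = n by omega] at hKb
  have h1 := h0_le hI hJ hJd N _ hKb (lb_of_mono (kernel.ι p) h)
  have h2 := h0_le hI hJ hJd c _ (TensorMod.LocFree.of_isInvertible hQ) (lb_invertible hQ hQd)
  have hS : (ShortComplex.mk (kernel.ι p) p (kernel.condition p)).ShortExact :=
    { exact := ShortComplex.exact_kernel p }
  have := (hC.good _ hK).fin₀
  have := (hC.good _ hQc).fin₀
  have := Curves.Euler.hdim_zero_le_add (k := k) hS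
  push_cast at h2
  have : (Curves.Euler.hdim k X G 0 : ℤ) ≤
      Curves.Euler.hdim k X (kernel p) 0 + Curves.Euler.hdim k X Q 0 := by exact_mod_cast this
  linarith

/-- `h⁰ = χ` without `H¹`. -/
lemma h0_eq {G : X.Modules} (hG : Coh.IsCoh G) (h : Subsingleton (Coh.HH X G 1)) :
    (Curves.Euler.hdim k X G 0 : ℤ) = Curv2.euler k X G := by
  have he := (hC.good G hG).euler
  have : Curves.Euler.hdim k X G 1 = 0 := Module.finrank_zero_of_subsingleton
  omega

end Groth.Agent.Lib.CurveBundle.H0Crit
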