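import Groth.Agent.Lib.CurveBundle.Slope
import Groth.Agent.Lib.CurveBundle.Twist

/-!
# Slopes of twisted endomorphisms
-/

set_option autoImplicit false
universe u

open CategoryTheory Limits AlgebraicGeometry TopologicalSpace MonoidalCategory

namespace Groth.Agent.Lib.CurveBundle.Higgs

open Groth.Agent.Lib Degree Slope TensorMod.Basic

variable {X : Scheme.{u}}

/-- The whiskering of the statements is `tmap`. -/
lemma whisker_eq {M N : X.Modules} (j : M ⟶ N) (L : X.Modules) :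
    (CohB1.sheafifyMod X).map (MonoidalCategoryStruct.whiskerRight (C := CohB1.PMod X) j.val
      (CohB1.toPMod L)) = tmap j (𝟙 L) := by
  rw [← MonoidalCategory.tensorHom_id]
  rfl

variable {k : Type u} [Field k] [X.Over (Spec (CommRingCat.of k))] [hC : CurveCtx k X]
  {E : X.Modules} {r : ℕ}

include hC

/-- The inequality of a semistable pair, for a coherent invariant subsheaf. -/
lemma invariant_le {ι : Type*} {L : ι → X.Modules} (hE : FlatMod.IsFinLocFreeOfRank r E)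
    (φ : ∀ i, E ⟶ CohB1.tensorMod E (L i))
    (hss : ∀ (G : X.Modules) (n : ℕ) (j : G ⟶ E), Mono j → 0 < n → FlatMod.IsFinLocFreeOfRank n G →
      (∀ i, ∃ χ : G ⟶ CohB1.tensorMod G (L i), χ ≫ tmap j (𝟙 (L i)) = j ≫ φ i) →
      Curv2.deg k X G n * (r : ℤ) ≤ Curv2.deg k X E r * (n : ℤ))
    {G : X.Modules} (j : G ⟶ E) [Mono j] (hG : Coh.IsCoh G)
    (hinv : ∀ i, ∃ χ : G ⟶ CohB1.tensorMod G (L i), χ ≫ tmap j (𝟙 (L i)) = j ≫ φ i) :
    dg k G * (r : ℤ) ≤ dg k E * (gr k G : ℤ) := by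
  obtain ⟨-, hT, -, edE⟩ := bundle (k := k) hE
  rcases Nat.eq_zero_or_pos (gr k G) with h0 | h0
  · simp [(sub_zero_rank (k := k) j hG hT h0).2, h0]
  · obtain ⟨hb, hd⟩ := sub_bundle (k := k) j hG hT
    have := hss G _ j ‹_› h0 hb hinv
    rwa [hd, edE] at this

/-- Nonzero maps of semistable tuples raise the slope. -/
theorem slope_le {ι : Type*} {L : ι → X.Modules} (hL : ∀ i, PicF.IsInvertible (L i)) {s : ℕ}
    {F : X.Modules} (hE : FlatMod.IsFinLocFreeOfRank r E) (hF : FlatMod.IsFinLocFreeOfRank s F)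
    (φ : ∀ i, E ⟶ CohB1.tensorMod E (L i)) (ψ : ∀ i, F ⟶ CohB1.tensorMod F (L i))
    (hEss : ∀ (G : X.Modules) (n : ℕ) (j : G ⟶ E), Mono j → 0 < n → FlatMod.IsFinLocFreeOfRank n G →
      (∀ i, ∃ χ : G ⟶ CohB1.tensorMod G (L i), χ ≫ tmap j (𝟙 (L i)) = j ≫ φ i) →
      Curv2.deg k X G n * (r : ℤ) ≤ Curv2.deg k X E r * (n : ℤ))
    (hFss : ∀ (G : X.Modules) (n : ℕ) (j : G ⟶ F), Mono j → 0 < n → FlatMod.IsFinLocFreeOfRank n G →
      (∀ i, ∃ χ : G ⟶ CohB1.tensorMod G (L i), χ ≫ tmap j (𝟙 (L i)) = j ≫ ψ i) →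
      Curv2.deg k X G n * (s : ℤ) ≤ Curv2.deg k X F s * (n : ℤ))
    (f : E ⟶ F) (hf : ∀ i, f ≫ ψ i = φ i ≫ tmap f (𝟙 (L i))) (hne : f ≠ 0) :
    Curv2.deg k X E r * (s : ℤ) ≤ Curv2.deg k X F s * (r : ℤ) := by
  obtain ⟨hEc, -, er, edE⟩ := bundle (k := k) hE
  obtain ⟨hFc, hFT, -, edF⟩ := bundle (k := k) hF
  obtain ⟨I, p, j, hp, hj, hpj, hI, hK, hg, hd⟩ := exists_image k f hEc hFc
  let _ := hC.integral
  have hker : ∀ i, ∃ χ : kernel f ⟶ CohB1.tensorMod (kernel f) (L i),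
      χ ≫ tmap (kernel.ι f) (𝟙 (L i)) = kernel.ι f ≫ φ i := fun i => by
    have := Twist.isEquivalence (hL i)
    have : (tensorBy (L i)).Additive := Functor.additive_of_preserves_binary_products _
    have h : (kernel.ι f ≫ φ i) ≫ (tensorBy (L i)).map f = 0 := by
      change (kernel.ι f ≫ φ i) ≫ tmap f (𝟙 (L i)) = 0
      rw [Category.assoc, ← hf i, kernel.condition_assoc, zero_comp]
    have hl := isLimitForkMapOfIsLimit' (tensorBy (L i)) (kernel.condition f) (kernelIsKernel f)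
    exact ⟨hl.lift (KernelFork.ofι _ h), hl.fac (KernelFork.ofι _ h) WalkingParallelPair.zero⟩
  have hIinv : ∀ i, ∃ χ : I ⟶ CohB1.tensorMod I (L i), χ ≫ tmap j (𝟙 (L i)) = j ≫ ψ i := fun i => by
    have := Twist.isEquivalence (hL i)
    have hm : Mono (tmap j (𝟙 (L i))) := (tensorBy (L i)).map_mono j
    have h : kernel.ι p ≫ φ i ≫ tmap p (𝟙 (L i)) = 0 := by
      rw [← cancel_mono (tmap j (𝟙 (L i)))]
      rw [zero_comp, Category.assoc, Category.assoc, ← tmap_comp, Category.comp_id, hpj, ← hf i,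
        ← hpj, Category.assoc, kernel.condition_assoc, zero_comp]
    refine ⟨Abelian.epiDesc p _ h, ?_⟩
    rw [← cancel_epi p, Abelian.comp_epiDesc_assoc, Category.assoc, ← tmap_comp, Category.comp_id,
      hpj, ← hf i, ← hpj, Category.assoc]
  have hI0 : 0 < gr k I := Nat.pos_of_ne_zero fun h0 => hne (eq_zero_of_image k p j hpj hI hFT h0)
  have h1 := invariant_le hE φ hEss (kernel.ι f) hK hker
  have h2 := invariant_le hF ψ hFss j hI hIinv
  have hg' : (r : ℤ) = gr k (kernel f) + gr k I := by exact_mod_cast er ▸ hg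
  have h3 : dg k E * (gr k I : ℤ) ≤ dg k I * (r : ℤ) := by
    simp only [hd, hg', add_mul, mul_add] at h1 ⊢
    linarith
  rw [edE, edF]
  refine le_of_mul_le_mul_right ?_ (show (0 : ℤ) < gr k I by exact_mod_cast hI0)
  calc dg k E * (s : ℤ) * gr k I = dg k E * gr k I * s := by ring
    _ ≤ dg k I * r * s := mul_le_mul_of_nonneg_right h3 (Int.natCast_nonneg _)
    _ = dg k I * s * r := by ring
    _ ≤ dg k F * gr k I * r := mul_le_mul_of_nonneg_right h2 (Int.natCast_nonneg _)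
    _ = _ := by ring

/-- A semistable pair with nonzero twisting map has a twist of nonnegative degree. -/
theorem deg_nonneg {L : X.Modules} (hL : PicF.IsInvertible L) (hr : 0 < r)
    (hE : FlatMod.IsFinLocFreeOfRank r E) (φ : E ⟶ CohB1.tensorMod E L)
    (hss : ∀ (G : X.Modules) (n : ℕ) (j : G ⟶ E) (χ : G ⟶ CohB1.tensorMod G L), Mono j → 0 < n →
      FlatMod.IsFinLocFreeOfRank n G → χ ≫ tmap j (𝟙 L) = j ≫ φ →
      Curv2.deg k X G n * (r : ℤ) ≤ Curv2.deg k X E r * (n : ℤ))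
    (hφ : φ ≠ 0) : 0 ≤ Curv2.deg k X L 1 := by
  let _ := hC.integral
  obtain ⟨hEc, hET, er, -⟩ := bundle (k := k) hE
  have := Twist.isEquivalence hL
  have hL1 := TensorMod.LocFree.of_isInvertible hL
  have hT : TorSh.IsTorsionFree (CohB1.tensorMod E L) :=
    Coherent.isTorsionFree (TensorMod.LocFree.isFinLocFree_tensorMod
      (TensorMod.LocFree.of_rank hE) (TensorMod.LocFree.of_rank hL1))
  have hss' : ∀ (G : X.Modules) (n : ℕ) (j : G ⟶ E), Mono j → 0 < n →
      FlatMod.IsFinLocFreeOfRank n G →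
      (∀ _ : Unit, ∃ χ : G ⟶ CohB1.tensorMod G L, χ ≫ tmap j (𝟙 L) = j ≫ φ) →
      Curv2.deg k X G n * (r : ℤ) ≤ Curv2.deg k X E r * (n : ℤ) :=
    fun G n j hj hn hG h => hss G n j _ hj hn hG (h ()).choose_spec
  obtain ⟨I, p, j, hp, hj, hpj, hI, hK, hg, hd⟩ := exists_image k φ hEc (Twist.isCoh hL hEc)
  have hI0 : 0 < gr k I := Nat.pos_of_ne_zero fun h0 => hφ (eq_zero_of_image k p j hpj hI hT h0)
  -- the kernel is invariant
  have h1 := invariant_le (ι := Unit) (L := fun _ => L) hE (fun _ => φ) hss' (kernel.ι φ) hK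
    fun _ => ⟨0, by rw [zero_comp, kernel.condition]⟩
  -- the untwisted image is invariant
  let J := (tensorBy L).objPreimage I
  let a : CohB1.tensorMod J L ≅ I := (tensorBy L).objObjPreimageIso I
  let j' : J ⟶ E := (tensorBy L).preimage (a.hom ≫ j)
  have hj' : tmap j' (𝟙 L) = a.hom ≫ j := (tensorBy L).map_preimage _
  have : Mono j' := (tensorBy L).mono_of_mono_map
    (show Mono (tmap j' (𝟙 L)) from hj' ▸ mono_comp _ _)
  have hJ : Coh.IsCoh J :=
    CohBasics.Closure.isCoh_of_iso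
      (tensorIso a.symm (Iso.refl _) ≪≫ (Twist.cancelNat (TensorMod.Invertible.tensorDualIso hL)).app J)
      (Twist.isCoh (TensorMod.Invertible.isInvertible_dual hL) hI)
  have h2 := invariant_le (ι := Unit) (L := fun _ => L) hE (fun _ => φ) hss' j' hJ
    fun _ => ⟨j' ≫ p ≫ a.inv, by rw [hj', Category.assoc, Category.assoc, Iso.inv_hom_id_assoc, hpj]⟩
  obtain ⟨eg, ed⟩ := Twist.gr_dg_twist k hL hJ
  rw [gr_congr k a] at eg
  rw [dg_congr k a, ← eg] at ed
  rw [← eg] at h2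
  obtain ⟨-, -, -, edL⟩ := bundle (k := k) hL1
  have hg' : (r : ℤ) = gr k (kernel φ) + gr k I := by exact_mod_cast er ▸ hg
  have h3 : dg k E * (gr k I : ℤ) ≤ dg k I * (r : ℤ) := by
    simp only [hd, hg', add_mul, mul_add] at h1 ⊢
    linarith
  have h4 : 0 ≤ (gr k I : ℤ) * dg k L * (r : ℤ) := by
    rw [ed, add_mul] at h3
    linarith
  rw [edL]
  by_contra! hneg
  have : (gr k I : ℤ) * dg k L * (r : ℤ) < 0 := by
    have h5 : (0 : ℤ) < gr k I := by exact_mod_cast hI0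
    have h6 : (0 : ℤ) < r := by exact_mod_cast hr
    exact mul_neg_of_neg_of_pos (mul_neg_of_pos_of_neg h5 hneg) h6
  omega

end Groth.Agent.Lib.CurveBundle.Higgs
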