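import Groth.Agent.Lib.CurveBundle.HiggsMax

/-!
# Quotients of semistable pairs by invariant subsheaves of the same slope

Saturations of invariant subsheaves are invariant, so an invariant subsheaf of the same slope is a
subbundle, and the quotient pair is semistable of that slope.
-/

set_option autoImplicit false
universe u

open CategoryTheory Limits AlgebraicGeometry TopologicalSpace

namespace Groth.Agent.Lib.CurveBundle.HiggsQuot

open Groth.Agent.Lib Degree Slope TensorMod.Basic HiggsMax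

variable {X : Scheme.{u}} {k : Type u} [Field k] [X.Over (Spec (CommRingCat.of k))]
  [hC : CurveCtx k X]

include hC

/-- A map from a sheaf of rank zero to a torsion-free one is zero. -/
lemma eq_zero_of_gr_zero {M N : X.Modules} (hM : Coh.IsCoh M) (hN : Coh.IsCoh N)
    (hT : TorSh.IsTorsionFree N) (h : gr k M = 0) (f : M ⟶ N) : f = 0 := by
  obtain ⟨I, p, j, _, _, hpj, hI, -, hg, -⟩ := exists_image k f hM hN
  exact eq_zero_of_image k p j hpj hI hT (by omega)

/-- Semistability of a pair, tested on coherent invariant subsheaves. -/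
def PairSS (k : Type u) [Field k] [X.Over (Spec (CommRingCat.of k))] [CurveCtx k X] {E L : X.Modules}
    (φ : E ⟶ CohB1.tensorMod E L) : Prop :=
  ∀ (G : X.Modules) (j : G ⟶ E), Mono j → Coh.IsCoh G → Inv φ j →
    dg k G * (gr k E : ℤ) ≤ dg k E * (gr k G : ℤ)

lemma pairSS_of {E L : X.Modules} {r : ℕ} (hE : FlatMod.IsFinLocFreeOfRank r E)
    (φ : E ⟶ CohB1.tensorMod E L)
    (h : ∀ (G : X.Modules) (s : ℕ) (j : G ⟶ E) (ψ : G ⟶ CohB1.tensorMod G L), Mono j → 0 < s →
      FlatMod.IsFinLocFreeOfRank s G →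
      ψ ≫ (CohB1.sheafifyMod X).map (MonoidalCategoryStruct.whiskerRight (C := CohB1.PMod X) j.val
        (CohB1.toPMod L)) = j ≫ φ →
      Curv2.deg k X G s * (r : ℤ) ≤ Curv2.deg k X E r * (s : ℤ)) : PairSS k φ := by
  intro G j _ hG hinv
  rw [(bundle (k := k) hE).2.2.1]
  exact Higgs.invariant_le (ι := Unit) (L := fun _ => L) hE (fun _ => φ)
    (fun G' n j' hj' hn hG' hi => h G' n j' _ hj' hn hG'
      ((congrArg (_ ≫ ·) (Higgs.whisker_eq j' L)).trans (hi ()).choose_spec))
    j hG fun _ => hinv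

lemma of_pairSS {E L : X.Modules} {r : ℕ} (hE : FlatMod.IsFinLocFreeOfRank r E)
    (φ : E ⟶ CohB1.tensorMod E L) (h : PairSS k φ) (G : X.Modules) (s : ℕ) (j : G ⟶ E)
    (ψ : G ⟶ CohB1.tensorMod G L) (hj : Mono j) (_ : 0 < s) (hG : FlatMod.IsFinLocFreeOfRank s G)
    (hψ : ψ ≫ (CohB1.sheafifyMod X).map (MonoidalCategoryStruct.whiskerRight (C := CohB1.PMod X)
      j.val (CohB1.toPMod L)) = j ≫ φ) :
    Curv2.deg k X G s * (r : ℤ) ≤ Curv2.deg k X E r * (s : ℤ) := by
  obtain ⟨-, -, er, edE⟩ := bundle (k := k) hE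
  obtain ⟨hGc, -, es, edG⟩ := bundle (k := k) hG
  have := h G j hj hGc ⟨ψ, (congrArg (ψ ≫ ·) (Higgs.whisker_eq j L)).symm.trans hψ⟩
  rwa [er, es, ← edE, ← edG] at this

variable {E F L : X.Modules} {r s : ℕ} {φ : E ⟶ CohB1.tensorMod E L}

/-- An invariant subsheaf of the same slope is a subbundle. -/
theorem cokernel_bundle (hL : PicF.IsInvertible L) (hr : 0 < r)
    (hE : FlatMod.IsFinLocFreeOfRank r E) (hF : FlatMod.IsFinLocFreeOfRank s F) (hss : PairSS k φ)
    (i : F ⟶ E) [Mono i] (hi : Inv φ i) (hμ : dg k F * (r : ℤ) = dg k E * (s : ℤ)) :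
    FlatMod.IsFinLocFreeOfRank (r - s) (cokernel i) := by
  let _ := hC.integral
  have := hC.locNoeth
  obtain ⟨hEc, hET, er, -⟩ := bundle (k := k) hE
  obtain ⟨hFc, -, es, -⟩ := bundle (k := k) hF
  obtain ⟨G, j, a, hj, ha, haj, hG, hgr, hT, hQc⟩ := Saturation.exists_saturation i hFc hEc
  have hgr' : gr k G = gr k F := hgr
  obtain ⟨χ, hχ⟩ := hi
  obtain ⟨hc, hgc, -⟩ := cokernel_ses k a hFc hG
  have hQT : TorSh.IsTorsionFree (CohB1.tensorMod (cokernel j) L) :=
    Coherent.isTorsionFree (TensorMod.LocFree.isFinLocFree_tensorMod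
      (TensorMod.LocFree.of_rank (rank_gr k hQc hT))
      (TensorMod.LocFree.of_rank (TensorMod.LocFree.of_isInvertible hL)))
  let u := j ≫ φ ≫ tmap (cokernel.π j) (𝟙 L)
  have hau : a ≫ u = 0 := by
    simp only [u]
    rw [reassoc_of% haj, ← reassoc_of% hχ, ← tmap_comp, ← haj, Category.assoc, cokernel.condition,
      comp_zero, Category.comp_id, TensorMod.Integral.tmap_zero_left, comp_zero]
  have hu : u = 0 := by
    rw [← cokernel.π_desc a u hau,
      eq_zero_of_gr_zero (k := k) hc (Twist.isCoh hL hQc) hQT (by omega) (cokernel.desc a u hau),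
      comp_zero]
  have hS : (ShortComplex.mk j (cokernel.π j) (cokernel.condition j)).ShortExact :=
    { exact := ShortComplex.exact_cokernel j }
  have hTw := Twist.shortExact hL hS
  have hinv : Inv φ j :=
    ⟨hTw.fIsKernel.lift (KernelFork.ofι (j ≫ φ) (by rw [Category.assoc]; exact hu)),
      hTw.fIsKernel.fac _ WalkingParallelPair.zero⟩
  have h1 := hss G j hj hG hinv
  rw [er, hgr', es, ← hμ] at h1
  have hd : dg k F = dg k G := le_antisymm (dg_le_of_mono k a hFc hG hgr'.symm)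
    (le_of_mul_le_mul_right h1 (by exact_mod_cast hr))
  have := isIso_of_mono k a hFc hG hgr'.symm hd
  have e : cokernel i ≅ cokernel j := cokernelIsoOfEq haj.symm ≪≫ cokernelEpiComp a j
  obtain ⟨-, hg, -⟩ := cokernel_ses k j hG hEc
  refine TensorMod.LocFree.rank_of_iso e.symm ?_
  have := rank_gr k hQc hT
  rwa [show gr k (cokernel j) = r - s by omega] at this

/-- The quotient pair is semistable, of the same slope. -/
theorem quot_ss (hL : PicF.IsInvertible L) (hr : 0 < r)
    (hE : FlatMod.IsFinLocFreeOfRank r E) (hF : FlatMod.IsFinLocFreeOfRank s F) (hss : PairSS k φ)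
    (i : F ⟶ E) [Mono i] (hμ : dg k F * (r : ℤ) = dg k E * (s : ℤ))
    (φ' : cokernel i ⟶ CohB1.tensorMod (cokernel i) L)
    (hφ' : cokernel.π i ≫ φ' = φ ≫ tmap (cokernel.π i) (𝟙 L)) : PairSS k φ' := by
  obtain ⟨hEc, -, er, -⟩ := bundle (k := k) hE
  obtain ⟨hFc, -, es, -⟩ := bundle (k := k) hF
  obtain ⟨hQ, g₁, d₁⟩ := cokernel_ses k i hFc hEc
  intro G j _ hG hinv
  obtain ⟨φG, hφG⟩ := exists_descend hL hinv
  obtain ⟨hQ', g₂, d₂⟩ := cokernel_ses k j hG hQ
  obtain ⟨hP, g₃, d₃⟩ := kernel_ses k (cokernel.π i ≫ cokernel.π j) hEc hQ'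
  have hPinv : Inv φ (kernel.ι (cokernel.π i ≫ cokernel.π j)) :=
    inv_kernel hL (ψ := φG) _ (by
      rw [Category.assoc, hφG, ← Category.assoc, hφ', Category.assoc, ← tmap_comp,
        Category.comp_id])
  have h1 := hss _ _ inferInstance hP hPinv
  rw [er] at h1 g₁ g₃
  rw [es] at g₁
  set P := kernel (cokernel.π i ≫ cokernel.π j)
  have ed : dg k P = dg k F + dg k G := by omega
  have eg : gr k P = s + gr k G := by omega
  have hr' : (0 : ℤ) < r := by exact_mod_cast hr
  rw [ed, eg, Nat.cast_add, add_mul, mul_add] at h1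
  refine le_of_mul_le_mul_right ?_ hr'
  have g₁' : (r : ℤ) = s + gr k (cokernel i) := by exact_mod_cast g₁
  have h2 : dg k (cokernel i) * (r : ℤ) = dg k E * (gr k (cokernel i) : ℤ) := by
    rw [show dg k (cokernel i) = dg k E - dg k F by omega, sub_mul, hμ,
      show (gr k (cokernel i) : ℤ) = r - s by omega]
    ring
  calc dg k G * (gr k (cokernel i) : ℤ) * r = dg k G * r * gr k (cokernel i) := by ring
    _ ≤ dg k E * gr k G * gr k (cokernel i) :=
      mul_le_mul_of_nonneg_right (by linarith) (Int.natCast_nonneg _)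
    _ = dg k E * gr k (cokernel i) * gr k G := by ring
    _ = dg k (cokernel i) * r * gr k G := by rw [h2]
    _ = _ := by ring

/-- An invariant subsheaf of the same slope is semistable. -/
theorem sub_ss (hr : 0 < r) (hE : FlatMod.IsFinLocFreeOfRank r E)
    (hF : FlatMod.IsFinLocFreeOfRank s F) (hss : PairSS k φ) (i : F ⟶ E) [Mono i]
    {ψ : F ⟶ CohB1.tensorMod F L} (hψ : ψ ≫ tmap i (𝟙 L) = i ≫ φ)
    (hμ : dg k F * (r : ℤ) = dg k E * (s : ℤ)) : PairSS k ψ := by
  intro G j _ hG hinv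
  have h1 := hss G (j ≫ i) (mono_comp _ _) hG (inv_comp hψ hinv)
  obtain ⟨-, -, er, -⟩ := bundle (k := k) hE
  obtain ⟨-, -, es, -⟩ := bundle (k := k) hF
  rw [er] at h1
  rw [es]
  refine le_of_mul_le_mul_right ?_ (show (0 : ℤ) < r by exact_mod_cast hr)
  calc dg k G * (s : ℤ) * r = dg k G * r * s := by ring
    _ ≤ dg k E * gr k G * s := mul_le_mul_of_nonneg_right h1 (Int.natCast_nonneg _)
    _ = dg k E * s * gr k G := by ring
    _ = dg k F * r * gr k G := by rw [hμ]
    _ = _ := by ring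

/-- Two opposite filtrations with isomorphic graded pieces. -/
theorem telescope (Es Fs : ℕ → X.Modules) (hEs : ∀ i, Coh.IsCoh (Es i)) (hFs : ∀ i, Coh.IsCoh (Fs i))
    (a : ∀ i, Es i ⟶ Es (i + 1)) (b : ∀ i, Fs (i + 1) ⟶ Fs i) [∀ i, Mono (a i)] [∀ i, Mono (b i)]
    (n : ℕ) (h0 : IsZero (Es 0)) (hopp : ∀ i, i < n → Nonempty (cokernel (a i) ≅ cokernel (b i))) :
    ∀ i, i ≤ n → dg k (Es i) + dg k (Fs i) = dg k (Fs 0) := by
  intro i
  induction i with
  | zero => intro _; rw [dg_of_isZero k h0 (hEs 0)]; ring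
  | succ i ih =>
    intro hi
    obtain ⟨-, -, d₁⟩ := cokernel_ses k (a i) (hEs i) (hEs (i + 1))
    obtain ⟨-, -, d₂⟩ := cokernel_ses k (b i) (hFs (i + 1)) (hFs i)
    have := dg_congr k (hopp i (by omega)).some
    have := ih (by omega)
    linarith

end Groth.Agent.Lib.CurveBundle.HiggsQuot
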