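import Groth.Agent.Lib.CurveBundle.Sections
import Groth.Agent.Lib.CurveBundle.Vanishing
import Groth.Agent.Lib.CurveBundle.RankTwoExt
import Groth.Agent.Lib.Curves.NegFiltration

/-!
# Linear duals of subsheaves of free sheaves without sections, in genus one
-/

set_option autoImplicit false
universe u

open CategoryTheory Limits AlgebraicGeometry Opposite TopologicalSpace

namespace Groth.Agent.Lib.CurveBundle.HomLin

open Groth.Agent.Lib Degree Slope TensorMod.Basic TensorMod.Dual

variable (k : Type u) [Field k] {X : Scheme.{u}} [X.Over (Spec (CommRingCat.of k))]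

/-- Morphisms form a vector space over the base field. -/
@[reducible] noncomputable def homModule (M N : X.Modules) : Module k (M ⟶ N) :=
  let φ : k →+* End N := (EndAlg.scalHom N).comp (EndAlg.cst X k)
  { smul := fun c f => f ≫ φ c
    one_smul := fun f => by
      change f ≫ φ 1 = f
      rw [map_one]
      exact Category.comp_id f
    mul_smul := fun a b f => by
      change f ≫ φ (a * b) = (f ≫ φ b) ≫ φ a
      rw [map_mul, End.mul_def, Category.assoc]
    smul_zero := fun _ => zero_comp
    smul_add := fun _ f g => Preadditive.add_comp _ _ _ f g _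
    add_smul := fun a b f => by
      change f ≫ φ (a + b) = f ≫ φ a + f ≫ φ b
      rw [map_add, Preadditive.comp_add]
    zero_smul := fun f => by
      change f ≫ φ 0 = 0
      rw [map_zero, comp_zero] }

lemma smul_def {M N : X.Modules} (c : k) (f : M ⟶ N) :
    letI := homModule k M N
    c • f = f ≫ EndAlg.scal N (EndAlg.cst X k c) := rfl

variable [IsAlgClosed k] [IsProper (X ↘ Spec (CommRingCat.of k))] [hC : CurveCtx k X]

include hC

omit [IsAlgClosed k] in
/-- In genus one a line bundle of negative degree has `-deg` linear forms. -/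
theorem finrank_line_le {A : X.Modules} (hA : PicF.IsInvertible A) (hA0 : 0 < dg k A)
    (h0 : Module.finrank k (Coh.HH X (Coh.structureModule X) 0) = 1)
    (hg : Curv2.genus k X = 1) {I : X.Modules} (hI : PicF.IsInvertible I) (hd : dg k I < 0) :
    letI := homModule k I (Coh.structureModule X)
    FiniteDimensional k (I ⟶ Coh.structureModule X) ∧
      (Module.finrank k (I ⟶ Coh.structureModule X) : ℤ) ≤ -dg k I := by
  letI := homModule k I (Coh.structureModule X)
  have hI' := TensorMod.Invertible.isInvertible_dual hI
  let e := TensorMod.Invertible.tensorDualIso hI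
  haveI := Twist.isEquivalence hI'
  haveI := GP.additive_tensorBy (dual I)
  letI := Curves.GlobalSections.secModule k (dual I)
  let u : (I ⟶ Coh.structureModule X) → (Coh.structureModule X ⟶ dual I) :=
    fun f => e.inv ≫ tmap f (𝟙 (dual I)) ≫ (leftUnit (dual I)).hom
  have hu : ∀ (f : I ⟶ Coh.structureModule X) (r : Γ(X, ⊤)),
      u (f ≫ EndAlg.scal _ r) = u f ≫ EndAlg.scal _ r := fun f r => by
    simp only [u]
    rw [← Category.comp_id (𝟙 (dual I)), tmap_comp, GP.tmap_scal, Category.comp_id]
    simp only [Category.assoc, EndAlg.scal_comm]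
  let L : (I ⟶ Coh.structureModule X) →ₗ[k] ((dual I).val.obj (op ⊤) : Type u) :=
    { toFun := fun f => (u f).app ⊤ (1 : Γ(X, ⊤))
      map_add' := fun f g => by
        have : tmap (f + g) (𝟙 (dual I)) = tmap f (𝟙 _) + tmap g (𝟙 _) := (tensorBy (dual I)).map_add
        simp only [u, this, Preadditive.add_comp, Preadditive.comp_add, Scheme.Modules.Hom.add_app]
        rfl
      map_smul' := fun c f => by
        rw [smul_def, hu, RingHom.id_apply, Scheme.Modules.Hom.comp_app, CategoryTheory.comp_apply,
          EndAlg.scal_app]
        change X.presheaf.map (𝟙 (op ⊤)) _ • _ = _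
        rw [CategoryTheory.Functor.map_id]
        rfl }
  have hL : Function.Injective L := (injective_iff_map_eq_zero L).mpr fun f hf => by
    have h1 : u f = 0 := Modules.Free.unitHom_ext (hf.trans rfl)
    simp only [u, Preadditive.IsIso.comp_left_eq_zero, Preadditive.IsIso.comp_right_eq_zero] at h1
    refine (tensorBy (dual I)).map_injective (X := I) (Y := Coh.structureModule X) (a₁ := f) (a₂ := 0) ?_
    exact h1.trans (TensorMod.Integral.tmap_zero_left _ _ (dual I)).symm
  obtain ⟨hc, -, eI, -⟩ := SlopeLine.line (k := k) hI'
  have hd' : dg k (dual I) = -dg k I := H0Crit.dg_dual hI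
  have h1 : Subsingleton (Coh.HH X (dual I) 1) := Vanishing.h1_ss hA hA0 h0
    (TensorMod.LocFree.of_isInvertible hI')
    (ss_of_st (TensorMod.LocFree.of_isInvertible hI') (SlopeLine.st_line hI'))
    (by rw [hd', hg]; push_cast; linarith)
  have hh := H0Crit.h0_eq (k := k) hc h1
  let F := Curves.GlobalSections.h0Linear k (dual I)
  have := (hC.good _ hc).fin₀
  haveI := Module.Finite.equiv F
  refine ⟨Module.Finite.of_injective L hL, ?_⟩
  have hle := LinearMap.finrank_le_finrank_of_injective hL
  rw [← F.finrank_eq] at hle
  have he : Curv2.euler k X (Coh.structureModule X) = 0 := by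
    have hO := (hC.good _ (SlopeLine.line (k := k) (PicLoc.isInvertible_structureModule X)).1).euler
    have : Curves.Euler.hdim k X (Coh.structureModule X) 1 = 1 := hg
    have h0' : Curves.Euler.hdim k X (Coh.structureModule X) 0 = 1 := h0
    omega
  rw [dg, he, mul_zero, sub_zero] at hd'
  rw [← hd', ← hh]
  exact_mod_cast hle

omit [IsProper (X ↘ Spec (CommRingCat.of k))] in
/-- A subsheaf without sections of a free module has at most `-deg` independent linear forms. -/
theorem finrank_le [IsProper (X ↘ Spec (CommRingCat.of k))] {A : X.Modules}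
    (hA : PicF.IsInvertible A) (hA0 : 0 < dg k A)
    (h0 : Module.finrank k (Coh.HH X (Coh.structureModule X) 0) = 1)
    (hg : Curv2.genus k X = 1) :
    ∀ (r : ℕ) (G : X.Modules), Coh.IsCoh G → gr k G = r → ∀ (m : ℕ) (ι : G ⟶ FlatMod.freeMod X m),
      Mono ι → (∀ s : Γ(G, ⊤), s = 0) →
      letI := homModule k G (Coh.structureModule X)
      FiniteDimensional k (G ⟶ Coh.structureModule X) ∧
        (Module.finrank k (G ⟶ Coh.structureModule X) : ℤ) ≤ -dg k G := by
  let _ := hC.integral
  have := hC.locNoeth
  intro r
  induction r with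
  | zero =>
    intro G hG hr m ι hι _
    have hT := Coherent.isTorsionFree (TensorMod.LocFree.of_rank
      (TensorMod.LocFree.isFinLocFree_freeMod X m))
    obtain ⟨hz, hd⟩ := sub_zero_rank (k := k) ι hG hT hr
    letI := homModule k G (Coh.structureModule X)
    have : Subsingleton (G ⟶ Coh.structureModule X) := ⟨fun f g => hz.eq_of_src f g⟩
    exact ⟨inferInstance, by rw [hd, Module.finrank_zero_of_subsingleton]; simp⟩
  | succ r ih =>
    intro G hG hr m ι hι hs
    obtain ⟨I, q, hq, hI, hd⟩ := Curves.NegFiltration.exists_quot (k := k) hG hs (by omega) m ι hι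
    obtain ⟨hIc, -, eI, -⟩ := SlopeLine.line (k := k) hI
    obtain ⟨hK, hgK, hdK⟩ := kernel_ses k q hG hIc
    obtain ⟨fK, bK⟩ := ih (kernel q) hK (by omega) m (kernel.ι q ≫ ι) inferInstance fun s =>
      ((Modules.Stalk.mono_iff_app_injective (kernel.ι q)).mp inferInstance ⊤)
        ((hs _).trans (map_zero ((kernel.ι q).app ⊤).hom).symm)
    obtain ⟨fI, bI⟩ := finrank_line_le k hA hA0 h0 hg hI hd
    letI := homModule k G (Coh.structureModule X)
    letI := homModule k (kernel q) (Coh.structureModule X)
    letI := homModule k I (Coh.structureModule X)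
    let a : (I ⟶ Coh.structureModule X) →ₗ[k] (G ⟶ Coh.structureModule X) :=
      { toFun := fun f => q ≫ f
        map_add' := fun f g => Preadditive.comp_add _ _ _ _ f g
        map_smul' := fun c f => (Category.assoc q f _).symm }
    let b : (G ⟶ Coh.structureModule X) →ₗ[k] (kernel q ⟶ Coh.structureModule X) :=
      { toFun := fun f => kernel.ι q ≫ f
        map_add' := fun f g => Preadditive.comp_add _ _ _ _ f g
        map_smul' := fun c f => (Category.assoc (kernel.ι q) f _).symm }
    have hex : LinearMap.ker b ≤ LinearMap.range a := fun f hf => by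
      have hS : (ShortComplex.mk (kernel.ι q) q (kernel.condition q)).ShortExact :=
        { exact := ShortComplex.exact_kernel q }
      exact ⟨hS.exact.desc f hf, hS.exact.g_desc f hf⟩
    haveI := fI
    haveI := fK
    haveI : FiniteDimensional k (LinearMap.ker b) :=
      Submodule.finiteDimensional_of_le hex
    haveI : Module.Finite k ((G ⟶ Coh.structureModule X) ⧸ LinearMap.ker b) :=
      Module.Finite.equiv b.quotKerEquivRange.symm
    have hfin : FiniteDimensional k (G ⟶ Coh.structureModule X) :=
      Module.Finite.of_submodule_quotient (LinearMap.ker b)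
    refine ⟨hfin, ?_⟩
    have h1 := b.finrank_range_add_finrank_ker
    have h2 := (Submodule.finrank_mono hex).trans a.finrank_range_le
    have h3 := (LinearMap.range b).finrank_le
    rw [hdK]
    omega

end Groth.Agent.Lib.CurveBundle.HomLin
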