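import Groth.Agent.Lib.CurveBundle.PointGood

/-!
# Pairs of sections of two line bundles
-/

set_option autoImplicit false
set_option linter.style.haveILetI false
set_option linter.unusedSectionVars false
universe u

open CategoryTheory Limits AlgebraicGeometry Opposite TopologicalSpace

noncomputable section

namespace Groth.Agent.Lib.CurveBundle.K0Curve

open Groth.Agent.Lib TensorMod.Basic

section Koszul

variable {Y : Scheme.{u}} {L M : Y.Modules}

/-- The two maps into the tensor product of a pair of sections. -/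
def kp (σs : Coh.structureModule Y ⟶ L) (σt : Coh.structureModule Y ⟶ M) : L ⊞ M ⟶ CohB1.tensorMod L M :=
  biprod.desc ((rightUnit L).inv ≫ tmap (𝟙 L) σt) (-((leftUnit M).inv ≫ tmap σs (𝟙 M)))

/-- The pair of sections. -/
def kv (σs : Coh.structureModule Y ⟶ L) (σt : Coh.structureModule Y ⟶ M) : Coh.structureModule Y ⟶ L ⊞ M :=
  biprod.lift σs (((rightUnit (Coh.structureModule Y)).inv ≫ (leftUnit (Coh.structureModule Y)).hom) ≫ σt)

theorem kv_kp (σs : Coh.structureModule Y ⟶ L) (σt : Coh.structureModule Y ⟶ M) :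
    kv σs σt ≫ kp σs σt = 0 := by
  have h1 : σs ≫ (rightUnit L).inv ≫ tmap (𝟙 L) σt =
      (rightUnit (Coh.structureModule Y)).inv ≫ tmap σs σt := by
    have h' : σs ≫ (rightUnit L).inv = (rightUnit (Coh.structureModule Y)).inv ≫ tmap σs (𝟙 _) := by
      rw [Iso.comp_inv_eq, Category.assoc, rightUnit_natural σs, Iso.inv_hom_id_assoc]
    rw [reassoc_of% h', ← tmap_comp, Category.comp_id, Category.id_comp]
  have h2 : σt ≫ (leftUnit M).inv ≫ tmap σs (𝟙 M) =
      (leftUnit (Coh.structureModule Y)).inv ≫ tmap σs σt := by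
    have h' : σt ≫ (leftUnit M).inv = (leftUnit (Coh.structureModule Y)).inv ≫ tmap (𝟙 _) σt := by
      rw [Iso.comp_inv_eq, Category.assoc, leftUnit_natural σt, Iso.inv_hom_id_assoc]
    rw [reassoc_of% h', ← tmap_comp, Category.comp_id, Category.id_comp]
  rw [kv, kp, biprod.lift_desc, h1, Preadditive.comp_neg, Category.assoc, h2]
  simp

theorem surjective_stalk_of_isIso {A B : Y.Modules} (f : A ⟶ B) [IsIso f] (y : Y) :
    Function.Surjective (Modules.StalkModule.stalkMapₗ f y) :=
  (Modules.StalkModule.epi_iff_stalkMapₗ_surjective f).1 inferInstance y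

theorem epi_kp (hL : PicF.IsInvertible L) (hM : PicF.IsInvertible M)
    (σs : Coh.structureModule Y ⟶ L) (σt : Coh.structureModule Y ⟶ M) [Mono σs] [Mono σt]
    (h : ∀ y ∈ CohB1.support (cokernel σs), Function.Surjective (Modules.StalkModule.stalkMapₗ σt y)) :
    Epi (kp σs σt) := by
  refine (Modules.StalkModule.epi_iff_stalkMapₗ_surjective _).2 fun y w => ?_
  by_cases hy : y ∈ CohB1.support (cokernel σs)
  · have ha : (rightUnit L).inv ≫ tmap (𝟙 L) σt =
        ((rightUnit L).inv ≫ (comm L (Coh.structureModule Y)).hom) ≫ tmap σt (𝟙 L) ≫ (comm L M).inv := by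
      have h0 : tmap (𝟙 L) σt = (comm L (Coh.structureModule Y)).hom ≫ tmap σt (𝟙 L) ≫ (comm L M).inv := by
        rw [← Category.assoc, ← comm_natural (𝟙 L) σt, Category.assoc, Iso.hom_inv_id, Category.comp_id]
      rw [Category.assoc, ← h0]
    have hsa : Function.Surjective (Modules.StalkModule.stalkMapₗ ((rightUnit L).inv ≫ tmap (𝟙 L) σt) y) := by
      rw [ha, Modules.StalkModule.stalkMapₗ_comp, Modules.StalkModule.stalkMapₗ_comp]
      exact ((surjective_stalk_of_isIso (comm L M).inv y).comp (PointGood.surjective_twist hL σt (h y hy))).comp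
        (surjective_stalk_of_isIso ((rightUnit L).inv ≫ (comm L (Coh.structureModule Y)).hom) y)
    obtain ⟨u, rfl⟩ := hsa w
    refine ⟨Modules.StalkModule.stalkMapₗ (biprod.inl : L ⟶ L ⊞ M) y u, ?_⟩
    rw [← LinearMap.comp_apply, ← Modules.StalkModule.stalkMapₗ_comp, kp, biprod.inl_desc]
  · have hsb : Function.Surjective (Modules.StalkModule.stalkMapₗ ((leftUnit M).inv ≫ tmap σs (𝟙 M)) y) := by
      rw [Modules.StalkModule.stalkMapₗ_comp]
      exact (PointGood.surjective_twist hM σs (PointGood.surjective_of_notMem σs hy)).comp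
        (surjective_stalk_of_isIso (leftUnit M).inv y)
    obtain ⟨u, hu⟩ := hsb w
    refine ⟨Modules.StalkModule.stalkMapₗ (-(biprod.inr : M ⟶ L ⊞ M)) y u, ?_⟩
    rw [← LinearMap.comp_apply, ← Modules.StalkModule.stalkMapₗ_comp, kp, Preadditive.neg_comp,
      biprod.inr_desc, neg_neg, hu]

end Koszul

end Groth.Agent.Lib.CurveBundle.K0Curve
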