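import Groth.Agent.Lib.CurveBundle.Vanishing
import Groth.Agent.Lib.CurveBundle.K0Koszul
import Groth.Agent.Lib.Curves.RegPoints
import Groth.Agent.Lib.ExtFilt.Lambda
import Groth.Agent.Lib.FundLocal.DetSES
import Groth.Agent.Lib.FundLocal.ExtPowExists
import Groth.Agent.Lib.TensorMod.Invertible
import Groth.Agent.Lib.Perfect.Top
import Groth.Prelude.Def_SGA6

/-!
# The Grothendieck group of bundles on a curve: rank and determinant
-/

set_option autoImplicit false
set_option linter.style.haveILetI false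
set_option linter.unusedSectionVars false
universe u

open CategoryTheory Limits AlgebraicGeometry Opposite TopologicalSpace

noncomputable section

namespace Groth.Agent.Lib.CurveBundle.K0Curve

open Groth.Agent.Lib Degree Slope TensorMod.Basic TensorMod.Dual


variable {k : Type u} [Field k] [IsAlgClosed k] {X : Scheme.{u}} [X.Over (Spec (CommRingCat.of k))]
  [IsIntegral X] [IsProper (X ↘ Spec (CommRingCat.of k))] [hC : CurveCtx k X]
  (hdim : topologicalKrullDim X = 1)

local notation "O" => Coh.structureModule X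

/-- The class of a bundle. -/
abbrev cv {Y : Scheme.{u}} (M : Y.Modules) : SGA6.Kvb Y :=
  KZero.clSub (fun M : Y.Modules => FlatMod.IsFinLocFree M) M

include hC hdim

/-- Large degree implies global generation. -/
theorem gg_of_deg {L : X.Modules} (hL : PicF.IsInvertible L)
    (hd : 2 * (Curv2.genus k X : ℤ) ≤ dg k L) : Curv2.IsGloballyGenerated L := by
  refine Vanishing.globallyGenerated_ctx (k := k) (r := 1) hdim (TensorMod.LocFree.of_isInvertible hL) fun J hJ hJd => ?_
  have hLJ := TensorMod.Invertible.isInvertible_tensorMod hL hJ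
  obtain ⟨hLc, -, eL, -⟩ := SlopeLine.line (k := k) hL
  obtain ⟨-, -, -, edJ⟩ := SlopeLine.line (k := k) hJ
  obtain ⟨-, d⟩ := Twist.gr_dg_twist k hJ hLc
  obtain ⟨-, -, -, edLJ⟩ := SlopeLine.line (k := k) hLJ
  rw [eL] at d
  refine Curves.Clifford.subsingleton_one_of_deg k hdim.le
    (Curves.GlobalSections.finrank_h0_structure k X) hLJ ?_
  rw [edLJ, d, ← edJ, hJd]
  push_cast
  omega

/-- The kernel of the pair of sections is trivial. -/
theorem nonempty_iso_kernel {L M : X.Modules} (hL : PicF.IsInvertible L) (hM : PicF.IsInvertible M)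
    (σs : O ⟶ L) (σt : O ⟶ M) [Mono σs] [Epi (kp σs σt)] :
    Nonempty (kernel (kp σs σt) ≅ O) := by
  have hOi := PicLoc.isInvertible_structureModule X
  obtain ⟨hLc, -, eL, -⟩ := SlopeLine.line (k := k) hL
  obtain ⟨hMc, -, eM, -⟩ := SlopeLine.line (k := k) hM
  have hT := TensorMod.Invertible.isInvertible_tensorMod hL hM
  obtain ⟨hTc, -, eT, -⟩ := SlopeLine.line (k := k) hT
  obtain ⟨-, dT⟩ := Twist.gr_dg_twist k hM hLc
  have hBf : FlatMod.IsFinLocFree (L ⊞ M) := TensorMod.LocFree.of_iso (biprod.isoCoprod L M).symm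
    (TensorMod.LocFree.isFinLocFree_biprod (TensorMod.LocFree.of_rank (TensorMod.LocFree.of_isInvertible hL))
      (TensorMod.LocFree.of_rank (TensorMod.LocFree.of_isInvertible hM)))
  have hBc := Coherent.isCoh hBf
  have hbs := (ShortComplex.Splitting.ofHasBinaryBiproduct L M).shortExact
  have eB := gr_add (k := k) hbs hBc
  have dB := dg_add (k := k) hbs hLc hBc hMc
  dsimp only at eB dB
  obtain ⟨hKc, eK, dK⟩ := kernel_ses k (kp σs σt) hBc hTc
  have hKT : TorSh.IsTorsionFree (kernel (kp σs σt)) :=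
    Rank.isTorsionFree_of_mono (kernel.ι (kp σs σt)) (Coherent.isTorsionFree hBf)
  have hK1 : gr k (kernel (kp σs σt)) = 1 := by omega
  have hK : PicF.IsInvertible (kernel (kp σs σt)) :=
    TensorMod.LocFree.isInvertible_of_rank_one (hK1 ▸ rank_gr k hKc hKT)
  have hd : dg k O = dg k (kernel (kp σs σt)) := by
    rw [eL, Nat.cast_one, one_mul] at dT
    rw [H0Crit.dg_structure]
    omega
  haveI : Mono (kv σs σt) := mono_of_mono_fac (show kv σs σt ≫ biprod.fst = σs from biprod.lift_fst _ _)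
  haveI : Mono (kernel.lift (kp σs σt) (kv σs σt) (kv_kp σs σt)) :=
    mono_of_mono_fac (kernel.lift_ι _ (kv σs σt) (kv_kp σs σt))
  haveI := SlopeLine.isIso_of_mono (k := k) hOi hK (kernel.lift (kp σs σt) (kv σs σt) (kv_kp σs σt)) hd
  exact ⟨(asIso (kernel.lift (kp σs σt) (kv σs σt) (kv_kp σs σt))).symm⟩

/-- Two globally generated line bundles have sections without common zero. -/
theorem exists_sections {L M : X.Modules} (hL : PicF.IsInvertible L) (hM : PicF.IsInvertible M)
    (gL : Curv2.IsGloballyGenerated L) (gM : Curv2.IsGloballyGenerated M) :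
    ∃ (σs : O ⟶ L) (σt : O ⟶ M), Mono σs ∧ Epi (kp σs σt) := by
  classical
  have := hC.noethSpace
  have := hC.locNoeth
  haveI : Infinite k := IsAlgClosed.instInfinite
  have : CompactSpace X := QuasiCompact.compactSpace_of_compactSpace (X ↘ Spec (CommRingCat.of k))
  obtain ⟨x₀, -, hx₀⟩ := IsClosed.exists_closed_singleton (S := (Set.univ : Set X)) isClosed_univ
    Set.univ_nonempty
  have hOi := PicLoc.isInvertible_structureModule X
  obtain ⟨hOc, -, -, -⟩ := SlopeLine.line (k := k) hOi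
  obtain ⟨hLc, -, -, -⟩ := SlopeLine.line (k := k) hL
  obtain ⟨s, hs⟩ := Curves.PointIdeal.exists_app_ne_zero hx₀ hL gL
  have hσs : Curves.Clifford.σ L s ≠ 0 := fun h => hs (by
    rw [Curves.Clifford.σ_eq_zero h]; exact map_zero _)
  haveI := Curves.Positivity.mono_of_ne_zero hOi hL hσs
  have hQc : Coh.IsCoh (cokernel (Curves.Clifford.σ L s)) := CohBasics.Closure.isCoh_cokernel _ hOc.1 hLc
  have hgen : genericPoint X ∉ CohB1.support (cokernel (Curves.Clifford.σ L s)) := by
    refine not_not.mpr (Curves.Positivity.isTorsion_cokernel hOi hL hσs _ ?_)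
    change closure ({genericPoint X} : Set X) ∈ irreducibleComponents X
    rw [irreducibleComponents_eq_singleton, genericPoint_closure]
    exact Set.mem_singleton _
  obtain ⟨hfin, hcl⟩ := Twist.finite_support hdim.le hQc hgen
  obtain ⟨t, ht⟩ := Curves.RegPoints.exists_section_avoid (k := k) hM gM
    (insert x₀ (CohB1.support (cokernel (Curves.Clifford.σ L s)))) (hfin.insert x₀)
  have hσt : Curves.Clifford.σ M t ≠ 0 := fun h => ht x₀ hx₀ (Set.mem_insert _ _) (by
    rw [Curves.Clifford.σ_eq_zero h]; exact map_zero _)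
  haveI := Curves.Positivity.mono_of_ne_zero hOi hM hσt
  refine ⟨Curves.Clifford.σ L s, Curves.Clifford.σ M t, inferInstance, epi_kp hL hM _ _ fun y hy => ?_⟩
  have h := ((Curves.PointIdeal.span_or_app_eq_zero (hcl y hy) hM t).resolve_right
    (ht y (hcl y hy) (Set.mem_insert_of_mem _ hy))) y specializes_rfl
  rw [← LinearMap.range_eq_top, eq_top_iff, ← h, Submodule.span_le, Set.singleton_subset_iff]
  exact ⟨(O).presheaf.germ ⊤ y trivial (1 : Γ(X, ⊤)),
    (Modules.StalkModule.stalkMapₗ_germ _ (U := ⊤) trivial _).trans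
      (congrArg (M.presheaf.germ ⊤ y trivial) (Curves.Clifford.σ_one M t))⟩

/-- Two globally generated line bundles: `[L] + [M] = [O] + [L ⊗ M]`. -/
theorem cl_add_of_gg {L M : X.Modules} (hL : PicF.IsInvertible L) (hM : PicF.IsInvertible M)
    (gL : Curv2.IsGloballyGenerated L) (gM : Curv2.IsGloballyGenerated M) :
    cv L + cv M = cv (O) + cv (CohB1.tensorMod L M) := by
  obtain ⟨σs, σt, _, _⟩ := exists_sections (k := k) hdim hL hM gL gM
  obtain ⟨e⟩ := nonempty_iso_kernel (k := k) hdim hL hM σs σt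
  have lf : ∀ {N : X.Modules}, PicF.IsInvertible N → FlatMod.IsFinLocFree N :=
    fun hN => TensorMod.LocFree.of_rank (TensorMod.LocFree.of_isInvertible hN)
  have hb : FlatMod.IsFinLocFree (L ⊞ M) := TensorMod.LocFree.of_iso (biprod.isoCoprod _ _).symm
    (TensorMod.LocFree.isFinLocFree_biprod (lf hL) (lf hM))
  have lK : FlatMod.IsFinLocFree (kernel (kp σs σt)) :=
    TensorMod.LocFree.of_iso e.symm ExtFilt.Lambda.isFinLocFree_structure
  have hS : (ShortComplex.mk (kernel.ι (kp σs σt)) (kp σs σt) (kernel.condition _)).ShortExact :=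
    ShortComplex.ShortExact.mk' (ShortComplex.exact_of_f_is_kernel _ (kernelIsKernel (kp σs σt)))
      inferInstance inferInstance
  calc cv L + cv M = cv (L ⊞ M) :=
        (KRes.KSub.rel (P := fun M : X.Modules => FlatMod.IsFinLocFree M)
          (ShortComplex.Splitting.ofHasBinaryBiproduct L M).shortExact (lf hL) hb (lf hM)).symm
    _ = cv (kernel (kp σs σt)) + cv (CohB1.tensorMod L M) :=
        KRes.KSub.rel (P := fun M : X.Modules => FlatMod.IsFinLocFree M) hS lK hb
          (lf (TensorMod.Invertible.isInvertible_tensorMod hL hM))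
    _ = _ := congrArg (· + cv (CohB1.tensorMod L M)) (ExtFilt.Lambda.cl_congr e lK)

/-- Classes of line bundles: `[L] + [M] = [O] + [L ⊗ M]`. -/
theorem cl_add {L M : X.Modules} (hL : PicF.IsInvertible L) (hM : PicF.IsInvertible M) :
    (cv (L)) + (cv (M)) = (cv (O)) + (cv (CohB1.tensorMod L M)) := by
  letI := ExtFilt.Lambda.ring X
  obtain ⟨A₁, hA₁, hA₁d⟩ := Vanishing.exists_pos_ctx (k := k) hdim
  have lf : ∀ {N : X.Modules}, PicF.IsInvertible N → FlatMod.IsFinLocFree N :=
    fun hN => TensorMod.LocFree.of_rank (TensorMod.LocFree.of_isInvertible hN)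
  have hmul : ∀ {E F : X.Modules}, PicF.IsInvertible E → PicF.IsInvertible F →
      (cv (E)) * (cv (F)) = (cv (CohB1.tensorMod E F)) := fun hE hF => ExtFilt.Lambda.mul_cl (lf hE) (lf hF)
  have hLM := TensorMod.Invertible.isInvertible_tensorMod hL hM
  have hOi := PicLoc.isInvertible_structureModule X
  let m : ℕ := (2 * (Curv2.genus k X : ℤ) + |dg k L| + |dg k M| + |dg k (CohB1.tensorMod L M)|).toNat
  obtain ⟨hA, hAd⟩ := H0Twist.dg_pow (k := k) hA₁ m
  rw [hA₁d, mul_one] at hAd
  set A := CohB1.tensorPow A₁ m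
  have hgg : ∀ {N : X.Modules}, PicF.IsInvertible N → -(|dg k L| + |dg k M| + |dg k (CohB1.tensorMod L M)|) ≤ dg k N →
      Curv2.IsGloballyGenerated (CohB1.tensorMod N A) := fun {N} hN hd => by
    refine gg_of_deg (k := k) hdim (TensorMod.Invertible.isInvertible_tensorMod hN hA) ?_
    obtain ⟨hNc, -, eN, -⟩ := SlopeLine.line (k := k) hN
    obtain ⟨-, d⟩ := Twist.gr_dg_twist k hA hNc
    rw [d, eN, hAd]
    have := Int.self_le_toNat (2 * (Curv2.genus k X : ℤ) + |dg k L| + |dg k M| + |dg k (CohB1.tensorMod L M)|)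
    push_cast
    omega
  have rel : ∀ {N N' : X.Modules}, PicF.IsInvertible N → PicF.IsInvertible N' →
      Curv2.IsGloballyGenerated (CohB1.tensorMod N A) → Curv2.IsGloballyGenerated (CohB1.tensorMod N' A) →
      (cv (N)) * (cv (A)) + (cv (N')) * (cv (A)) = 1 + ((cv (N)) * (cv (A))) * ((cv (N')) * (cv (A))) := fun {N N'} hN hN' g g' => by
    have i := TensorMod.Invertible.isInvertible_tensorMod hN hA
    have i' := TensorMod.Invertible.isInvertible_tensorMod hN' hA
    rw [hmul hN hA, hmul hN' hA, hmul i i']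
    exact cl_add_of_gg (k := k) hdim i i' g g'
  have hd : ∀ n : ℤ, n = 0 ∨ n = dg k L ∨ n = dg k M ∨ n = dg k (CohB1.tensorMod L M) →
      -(|dg k L| + |dg k M| + |dg k (CohB1.tensorMod L M)|) ≤ n := by
    intro n hn
    have := abs_nonneg (dg k L)
    have := abs_nonneg (dg k M)
    have := abs_nonneg (dg k (CohB1.tensorMod L M))
    have := neg_abs_le (dg k L)
    have := neg_abs_le (dg k M)
    have := neg_abs_le (dg k (CohB1.tensorMod L M))
    omega
  have e1 := rel hL hM (hgg hL (hd _ (by tauto))) (hgg hM (hd _ (by tauto)))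
  have e2 := rel hOi hLM (hgg hOi (hd _ (Or.inl H0Crit.dg_structure))) (hgg hLM (hd _ (by tauto)))
  rw [← hmul hL hM] at e2 ⊢
  have hu : (cv (A)) * (cv (dual A)) = 1 := by
    rw [hmul hA (TensorMod.Invertible.isInvertible_dual hA)]
    exact ExtFilt.Lambda.cl_congr (TensorMod.Invertible.tensorDualIso hA)
      (TensorMod.LocFree.isFinLocFree_tensorMod (lf hA) (lf (TensorMod.Invertible.isInvertible_dual hA)))
  have h1 : (cv (O)) = (1 : SGA6.Kvb X) := rfl
  rw [h1] at e2 ⊢
  have e3 : ((cv (L)) + (cv (M))) * (cv (A)) = (1 + (cv (L)) * (cv (M))) * (cv (A)) := by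
    linear_combination e1 - e2
  calc (cv (L)) + (cv (M)) = ((cv (L)) + (cv (M))) * (cv (A)) * (cv (dual A)) := by rw [mul_assoc, hu, mul_one]
    _ = (1 + (cv (L)) * (cv (M))) * (cv (A)) * (cv (dual A)) := by rw [e3]
    _ = _ := by rw [mul_assoc, hu, mul_one]

/-- A bundle of positive rank is an extension of a smaller bundle by a line bundle. -/
theorem exists_sub {n : ℕ} {E : X.Modules} (hE : FlatMod.IsFinLocFreeOfRank (n + 1) E) :
    ∃ (G : X.Modules) (j : G ⟶ E), Mono j ∧ PicF.IsInvertible G ∧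
      FlatMod.IsFinLocFreeOfRank n (cokernel j) := by
  have := hC.locNoeth
  obtain ⟨A₁, hA₁, hA₁d⟩ := Vanishing.exists_pos_ctx (k := k) hdim
  obtain ⟨hEc, hET, eE, -⟩ := bundle (k := k) hE
  let χ := Curv2.euler k X O
  let m : ℕ := (|dg k E| + ((n : ℤ) + 1) * |χ| + 1).toNat
  obtain ⟨hA, hAd⟩ := H0Twist.dg_pow (k := k) hA₁ m
  rw [hA₁d, mul_one] at hAd
  set A := CohB1.tensorPow A₁ m
  have hFc := Twist.isCoh hA hEc
  obtain ⟨eF, dF⟩ := Twist.gr_dg_twist k hA hEc
  set F := CohB1.tensorMod E A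
  have eF' := (hC.good _ hFc).euler
  have dF' : dg k F = Curv2.euler k X F - (gr k F : ℤ) * χ := rfl
  rw [eF, eE] at dF'
  rw [eE, hAd] at dF
  push_cast at dF dF'
  have hn : Nontrivial (Coh.HH X F 0) := not_subsingleton_iff_nontrivial.1 fun hs => by
    have h0 : Curves.Euler.hdim k X F 0 = 0 := Module.finrank_zero_of_subsingleton
    rw [h0] at eF'
    have : (m : ℤ) = |dg k E| + ((n : ℤ) + 1) * |χ| + 1 := Int.toNat_of_nonneg (by positivity)
    have := neg_abs_le (dg k E)
    have := neg_abs_le χ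
    have := Int.natCast_nonneg (Curves.Euler.hdim k X F 1)
    have := Int.natCast_nonneg n
    push_cast at eF'
    nlinarith
  obtain ⟨σ₀, hσ₀⟩ := Curves.Positivity.exists_section_of_nontrivial hn
  have hne : σ₀.app ⊤ (1 : Γ(X, ⊤)) ≠ 0 := fun h => hσ₀ (Modules.Free.unitHom_ext (h.trans (by simp)))
  have hAi := TensorMod.Invertible.isInvertible_dual hA
  let φ := LineQuot.sectHom (TensorMod.Invertible.tensorDualIso hA) (σ₀.app ⊤ (1 : Γ(X, ⊤)))
  have hφ : φ ≠ 0 := fun h => hne (LineQuot.sectHom_eq_zero hAi _ h)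
  obtain ⟨hDc, hDT, eD, -⟩ := SlopeLine.line (k := k) hAi
  obtain ⟨I, p, j, hp, hj, hpj, hI, hK, hg, -⟩ := exists_image k φ hDc hEc
  have hI0 : gr k I ≠ 0 := fun h0 => hφ (eq_zero_of_image k p j hpj hI hET h0)
  haveI : Mono φ := Preadditive.mono_of_kernel_zero
    ((sub_zero_rank (k := k) (kernel.ι φ) hK hDT (by omega)).1.eq_of_src _ _)
  obtain ⟨G, i, a, hi, -, -, hG, hGr, hT, hc⟩ := Saturation.exists_saturation φ hDc hEc
  have hGr' : gr k G = 1 := hGr.trans eD
  have hGb := (sub_bundle (k := k) i hG hET).1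
  rw [hGr'] at hGb
  obtain ⟨-, hgc, -⟩ := cokernel_ses k i hG hEc
  have hcb := rank_gr k hc hT
  rw [show gr k (cokernel i) = n by omega] at hcb
  exact ⟨G, i, hi, TensorMod.LocFree.isInvertible_of_rank_one hGb, hcb⟩

/-- Every class is `(n - 1) [O] + [L]`. -/
theorem exists_line_rep : ∀ (n : ℕ) (E : X.Modules), FlatMod.IsFinLocFreeOfRank n E →
    ∃ L : X.Modules, PicF.IsInvertible L ∧ (cv (E)) = ((n : ℤ) - 1) • (cv (O)) + (cv (L))
  | 0, E, hE => ⟨O, PicLoc.isInvertible_structureModule X, by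
      show KZero.clSub (fun M : X.Modules => FlatMod.IsFinLocFree M) E = _
      rw [KRes.KSub.clSub_zero (P := fun M : X.Modules => FlatMod.IsFinLocFree M)
        (Cyc.CH.isZero_of_rank_zero hE) (TensorMod.LocFree.of_rank hE)]
      simp⟩
  | n + 1, E, hE => by
    obtain ⟨G, j, hj, hG, hQ⟩ := exists_sub (k := k) hdim hE
    obtain ⟨L, hL, hcl⟩ := exists_line_rep n _ hQ
    have hS : (ShortComplex.mk j (cokernel.π j) (cokernel.condition j)).ShortExact :=
      { exact := ShortComplex.exact_cokernel j }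
    have h := KRes.KSub.rel (P := fun M : X.Modules => FlatMod.IsFinLocFree M) hS
      (TensorMod.LocFree.of_rank (TensorMod.LocFree.of_isInvertible hG))
      (TensorMod.LocFree.of_rank hE) (TensorMod.LocFree.of_rank hQ)
    refine ⟨_, TensorMod.Invertible.isInvertible_tensorMod hG hL, ?_⟩
    dsimp at h
    change cv E = cv G + cv (cokernel j) at h
    rw [h, hcl, add_left_comm, cl_add (k := k) hdim hG hL]
    push_cast
    module

/-- Rank and determinant on the Grothendieck group. -/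
theorem unique (n m : ℤ) {L L' : X.Modules} (hL : PicF.IsInvertible L) (hL' : PicF.IsInvertible L')
    (h : (n - 1) • (cv (O)) + (cv (L)) = (m - 1) • (cv (O)) + (cv (L'))) : n = m ∧ Nonempty (L ≅ L') := by
  classical
  let rkF : SGA6.Kvb X →+ ℤ := KRes.KSub.lift (fun E => (gr k E : ℤ)) fun S hS h₁ h₂ h₃ => by
    exact_mod_cast gr_add k hS (Coherent.isCoh h₂)
  have hOi := PicLoc.isInvertible_structureModule X
  have lf : ∀ {N : X.Modules}, PicF.IsInvertible N → FlatMod.IsFinLocFree N :=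
    fun hN => TensorMod.LocFree.of_rank (TensorMod.LocFree.of_isInvertible hN)
  have hr : ∀ {N : X.Modules}, PicF.IsInvertible N → rkF (cv (N)) = 1 := fun {N} hN => by
    refine (KRes.KSub.lift_cl _ _ (lf hN)).trans ?_
    exact_mod_cast (SlopeLine.line (k := k) hN).2.2.1
  have hnm := congrArg rkF h
  rw [map_add, map_add, map_zsmul, map_zsmul, hr hOi, hr hL, hr hL'] at hnm
  simp at hnm
  refine ⟨hnm, ?_⟩
  subst hnm
  have hcl := add_left_cancel h
  letI := TensorMod.Invertible.law X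
  have hdet : ∀ E : X.Modules, FlatMod.IsFinLocFree E → ∃ D : X.Modules, PicF.IsInvertible D ∧
      Nonempty (Cyc.CH.DetAtlas (gr k E) E D) := fun E hE => by
    haveI := (Coherent.isCoh hE).1
    have hEr := rank_gr k (Coherent.isCoh hE) (Coherent.isTorsionFree hE)
    obtain ⟨D, hD⟩ := FundLocal.ExtPowExists.exists_isExtPow (E := E) (gr k E)
    obtain ⟨A⟩ := Cyc.CH.nonempty_detAtlas_of_isExtPow hEr hD
    exact ⟨D, A.isInvertible, ⟨A⟩⟩
  let F : X.Modules → Additive (PicLoc.PicSet X) := fun E =>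
    if hE : FlatMod.IsFinLocFree E then
      Additive.ofMul ⟨PicF.cl (hdet E hE).choose, _, rfl, (hdet E hE).choose_spec.1⟩
    else 0
  have hF : ∀ {E D : X.Modules}, FlatMod.IsFinLocFree E → ∀ r, gr k E = r → Cyc.CH.DetAtlas r E D →
      ∀ hD : PicF.IsInvertible D, F E = Additive.ofMul ⟨PicF.cl D, _, rfl, hD⟩ := by
    intro E D hE r hr A hD
    subst hr
    simp only [F, dif_pos hE]
    obtain ⟨B⟩ := (hdet E hE).choose_spec.2
    exact congrArg Additive.ofMul (Subtype.ext (Quot.sound (B.nonempty_iso A)))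
  let detF : SGA6.Kvb X →+ Additive (PicLoc.PicSet X) := KRes.KSub.lift F fun S hS h₁ h₂ h₃ => by
    obtain ⟨D₁, i₁, ⟨A₁⟩⟩ := hdet _ h₁
    obtain ⟨D₃, i₃, ⟨A₃⟩⟩ := hdet _ h₃
    obtain ⟨A₂⟩ := FundLocal.DetSES.nonempty_detAtlas hS (gr_add k hS (Coherent.isCoh h₂)).symm A₁ A₃
    rw [hF h₁ _ rfl A₁ i₁, hF h₃ _ rfl A₃ i₃, hF h₂ _ rfl A₂ (TensorMod.Invertible.isInvertible_tensorMod i₁ i₃)]
    exact congrArg Additive.ofMul (Subtype.ext (Eq.symm (PicGrp.Law.mul_val _ _)))
  have hline : ∀ {N : X.Modules} (hN : PicF.IsInvertible N), detF (cv (N)) = Additive.ofMul ⟨PicF.cl N, _, rfl, hN⟩ := by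
    intro N hN
    refine (KRes.KSub.lift_cl _ _ (lf hN)).trans ?_
    obtain ⟨A⟩ := Cyc.CH.nonempty_detAtlas_of_isExtPow (TensorMod.LocFree.of_isInvertible hN)
      (ExtFilt.Lambda.isExtPow_one N)
    exact hF (lf hN) 1 (SlopeLine.line (k := k) hN).2.2.1 A hN
  have hd := congrArg detF hcl
  rw [hline hL, hline hL'] at hd
  have h2 : PicF.cl L = PicF.cl L' := congrArg Subtype.val (Additive.ofMul.injective hd)
  exact (Equivalence.eqvGen_iff ⟨fun M => ⟨Iso.refl M⟩, fun ⟨e⟩ => ⟨e.symm⟩,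
    fun ⟨e⟩ ⟨f⟩ => ⟨e ≪≫ f⟩⟩).1 (Quot.eqvGen_exact h2)

end Groth.Agent.Lib.CurveBundle.K0Curve
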