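import Groth.Agent.Lib.CurveBundle.BCSplit

/-!
# Indecomposable bundles which split over an extension of the base field
-/

set_option autoImplicit false
set_option linter.style.haveILetI false
universe u

open CategoryTheory CategoryTheory.Limits AlgebraicGeometry Opposite TopologicalSpace Polynomial

noncomputable section

namespace Groth.Agent.Lib.CurveBundle.NonGeom

open Groth.Agent.Lib

variable (k : Type u) [Field k] [Finite k] {X : Scheme.{u}} [X.Over (Spec (CommRingCat.of k))]
  [IsProper (X ↘ Spec (CommRingCat.of k))] [Smooth (X ↘ Spec (CommRingCat.of k))]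
  [GeometricallyIntegral (X ↘ Spec (CommRingCat.of k))]

instance geomConnected : GeometricallyConnected (X ↘ Spec (CommRingCat.of k)) :=
  ⟨fun K _ y Z p q h => by
    have : IrreducibleSpace Z := GeometricallyIrreducible.geometrically_irreducibleSpace y p q h
    infer_instance⟩

/-- The standing facts about the curve. -/
theorem setup (hdim : topologicalKrullDim ↥X = 1) :
    Degree.CurveCtx k X ∧ Function.Surjective (EndAlg.cst X k) :=
  ⟨Ctx.ofConnected k hdim, AutCount.cst_surjective (k := k)⟩

variable (hdim : topologicalKrullDim ↥X = 1) {r : ℕ} (hr : r.Prime) {E : X.Modules}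
  (hE : FlatMod.IsFinLocFreeOfRank r E) (hind : Indec.Indecomposable E)
  (hng : ∃ (K : Type u) (_ : Field K) (_ : Algebra k K) (E₁ E₂ : (Curv2.bc k X K).Modules),
    ¬ IsZero E₁ ∧ ¬ IsZero E₂ ∧ Nonempty ((Scheme.Modules.pullback (Curv2.bcFst k X K)).obj E ≅ E₁ ⊞ E₂))

include hdim hr hE hind hng

/-- The endomorphisms form a field of degree the rank. -/
theorem endField :
    letI := EndAlg.algEnd k E
    letI := (setup k hdim).1.integral
    ∃ f : k[X], f.Monic ∧ Irreducible f ∧ f.natDegree = r ∧ ∃ e : AdjoinRoot f ≃ₐ[k] End E,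
      ∀ P : (X.presheaf.stalk (genericPoint X))[X], P ≠ 0 → P.natDegree < r →
        Function.Injective (Polynomial.aeval
          (EndField.θ k (hC := (setup k hdim).1) E (e (AdjoinRoot.root f))) P) := by
  haveI := (setup k hdim).1
  obtain ⟨K, _, _, E₁, E₂, h₁, h₂, ⟨e⟩⟩ := hng
  letI : (Curv2.bc k X K).Over (Spec (CommRingCat.of K)) := ⟨Curv2.bcSnd k X K⟩
  exact EndField.main k (setup k hdim).2 hr hE hind
    (BCSplit.exists_nonscalar (IsPullback.of_hasPullback _ _) hE hind h₁ h₂ e)

/-- Nonzero endomorphisms are isomorphisms. -/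
theorem isIso_of_ne_zero (a : E ⟶ E) (ha : a ≠ 0) : IsIso a := by
  letI := EndAlg.algEnd k E
  obtain ⟨f, -, hfi, -, e, -⟩ := endField k hdim hr hE hind hng
  haveI : Fact (Irreducible f) := ⟨hfi⟩
  exact BCSplit.isIso_of_ne_zero e.toRingEquiv a ha

/-- The splitting over the extension of degree the rank. -/
theorem split (L : Type u) [Field L] [Algebra k L] (hL : Module.finrank k L = r) :
    ∃ M : Fin r → (Curv2.bc k X L).Modules, (∀ i, PicF.IsInvertible (M i)) ∧
      Nonempty ((Scheme.Modules.pullback (Curv2.bcFst k X L)).obj E ≅ ∐ M) ∧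
      (∀ i j, i ≠ j → ¬ Nonempty (M i ≅ M j)) ∧
      ∀ (i : Fin r) (N : X.Modules), PicF.IsInvertible N →
        ¬ Nonempty (M i ≅ (Scheme.Modules.pullback (Curv2.bcFst k X L)).obj N) := by
  obtain ⟨f, hfm, hfi, hfd, e, -⟩ := endField k hdim hr hE hind hng
  letI : (Curv2.bc k X L).Over (Spec (CommRingCat.of L)) := ⟨Curv2.bcSnd k X L⟩
  haveI := (setup k hdim).1
  have hsq : IsPullback (Curv2.bcFst k X L) (Curv2.bc k X L ↘ Spec (CommRingCat.of L))
      (X ↘ Spec (CommRingCat.of k)) (Spec.map (CommRingCat.ofHom (algebraMap k L))) :=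
    IsPullback.of_hasPullback _ _
  haveI := BCSplit.ctx_of_isPullback hdim hsq
  haveI := QuasiCompact.compactSpace_of_compactSpace (X ↘ Spec (CommRingCat.of k))
  exact BCSplit.split hsq (setup k hdim).2 hr hL hE hind hfm hfi hfd e

/-- A split injection of `π^*E` gives an invertible round trip over the base. -/
theorem exists_round_trip (L : Type u) [Field L] [Algebra k L] {M : X.Modules} (hM : Coh.IsCoh M)
    (u : (Scheme.Modules.pullback (Curv2.bcFst k X L)).obj E ⟶ (Scheme.Modules.pullback (Curv2.bcFst k X L)).obj M)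
    (v : (Scheme.Modules.pullback (Curv2.bcFst k X L)).obj M ⟶ (Scheme.Modules.pullback (Curv2.bcFst k X L)).obj E)
    (huv : u ≫ v = 𝟙 _) : ∃ (a : E ⟶ M) (c : M ⟶ E), IsIso (a ≫ c) := by
  letI : (Curv2.bc k X L).Over (Spec (CommRingCat.of L)) := ⟨Curv2.bcSnd k X L⟩
  haveI := (setup k hdim).1
  have hsq : IsPullback (Curv2.bcFst k X L) (Curv2.bc k X L ↘ Spec (CommRingCat.of L))
      (X ↘ Spec (CommRingCat.of k)) (Spec.map (CommRingCat.ofHom (algebraMap k L))) :=
    IsPullback.of_hasPullback _ _
  letI := (BCSplit.ctx_of_isPullback hdim hsq).integral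
  haveI := QuasiCompact.compactSpace_of_compactSpace (X ↘ Spec (CommRingCat.of k))
  obtain ⟨a, c, hac⟩ := BCSplit.exists_comp_ne_zero hsq (Coherent.isCoh (TensorMod.LocFree.of_rank hE)) hM u v huv
    (Indec.not_isZero_of_rank hr.pos (TensorMod.LocFree.rank_pullback _ hE))
  exact ⟨a, c, isIso_of_ne_zero k hdim hr hE hind hng _ hac⟩

omit hr hE hind hng

set_option maxHeartbeats 2000000 in
/-- In rank two and degree zero there are no maps from or to the trivial line. -/
theorem hom_eq_zero {G : X.Modules} (hG : FlatMod.IsFinLocFreeOfRank 2 G) (hdeg : Curv2.deg k X G 2 = 0)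
    (hind : Indec.Indecomposable G)
    (hng : ∃ (K : Type u) (_ : Field K) (_ : Algebra k K) (E₁ E₂ : (Curv2.bc k X K).Modules),
      ¬ IsZero E₁ ∧ ¬ IsZero E₂ ∧ Nonempty ((Scheme.Modules.pullback (Curv2.bcFst k X K)).obj G ≅ E₁ ⊞ E₂)) :
    (∀ s : Coh.structureModule X ⟶ G, s = 0) ∧ ∀ v : G ⟶ Coh.structureModule X, v = 0 := by
  haveI hC := (setup k hdim).1
  letI := hC.integral
  letI := EndAlg.algEnd k G
  obtain ⟨f, -, -, -, e, hinj⟩ := endField k hdim Nat.prime_two hG hind hng
  let τ : G ⟶ G := e (AdjoinRoot.root f)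
  let φ := Modules.StalkModule.stalkMapₗ τ (genericPoint X)
  letI : Field (X.presheaf.stalk (genericPoint X)) := inferInstanceAs (Field X.functionField)
  have hlin : ∀ (a c : X.presheaf.stalk (genericPoint X)) (w : G.presheaf.stalk (genericPoint X)),
      a • w + c • φ w = 0 → w ≠ 0 → a = 0 ∧ c = 0 := fun a c w h hw => by
    by_contra hne
    have hP : Polynomial.C a + Polynomial.C c * Polynomial.X ≠ 0 := fun h0 => hne
      ⟨by simpa using congrArg (fun P => Polynomial.coeff P 0) h0,
        by simpa using congrArg (fun P => Polynomial.coeff P 1) h0⟩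
    have hd : (Polynomial.C a + Polynomial.C c * Polynomial.X).natDegree < 2 := by
      rw [add_comm]
      exact Nat.lt_succ_of_le Polynomial.natDegree_linear_le
    refine hw (hinj _ hP hd (Eq.trans ?_ (map_zero _).symm))
    rw [map_add, map_mul, Polynomial.aeval_C, Polynomial.aeval_C, Polynomial.aeval_X]
    exact h
  have hOr := TensorMod.LocFree.of_isInvertible (PicLoc.isInvertible_structureModule X)
  obtain ⟨hOc, hOT, hOg, hOd⟩ := Slope.bundle (k := k) hOr
  obtain ⟨hGc, hGT, hGg, hGd⟩ := Slope.bundle (k := k) hG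
  rw [hdeg] at hGd
  have hd0 : Curv2.deg k X (Coh.structureModule X) 1 = 0 := by simp [Curv2.deg]
  rw [hd0] at hOd
  have hlf : FlatMod.IsFinLocFree (Coh.structureModule X ⊞ Coh.structureModule X) :=
    TensorMod.LocFree.of_iso (biprod.isoCoprod _ _).symm
      (TensorMod.LocFree.isFinLocFree_biprod (TensorMod.LocFree.of_rank hOr) (TensorMod.LocFree.of_rank hOr))
  have hBc := Coherent.isCoh hlf
  have hBT := Coherent.isTorsionFree hlf
  let S := ShortComplex.mk (biprod.inl : Coh.structureModule X ⟶ Coh.structureModule X ⊞ Coh.structureModule X)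
    biprod.snd biprod.inl_snd
  have hS : S.ShortExact := ShortComplex.Splitting.shortExact
    { r := biprod.fst
      s := biprod.inr
      f_r := biprod.inl_fst
      s_g := biprod.inr_snd
      id := biprod.total }
  have hBg : Degree.gr k (Coh.structureModule X ⊞ Coh.structureModule X) = 2 := by
    have : Degree.gr k (Coh.structureModule X ⊞ Coh.structureModule X) =
        Degree.gr k (Coh.structureModule X) + Degree.gr k (Coh.structureModule X) := Degree.gr_add k hS hBc
    omega
  have hBd : Degree.dg k (Coh.structureModule X ⊞ Coh.structureModule X) = 0 := by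
    have h := Degree.dg_add k hS (show Coh.IsCoh S.X₁ from hOc) (show Coh.IsCoh S.X₂ from hBc)
      (show Coh.IsCoh S.X₃ from hOc)
    dsimp only [S] at h
    rw [h, ← hOd, add_zero]
  have hO0 : ¬ IsZero (Coh.structureModule X) := Indec.not_isZero_of_rank one_pos hOr
  obtain ⟨b⟩ := Coherent.exists_basis_stalk hOr (genericPoint X)
  haveI := hGc.1
  haveI := hOc.1
  haveI := hBc.1
  constructor
  · intro s
    by_contra hs
    have hv : Modules.StalkModule.stalkMapₗ s (genericPoint X) (b 0) ≠ 0 := fun h => hs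
      (Rank.eq_zero_of_generic hGT s (b.ext fun i => by rw [Subsingleton.elim i 0, h, LinearMap.zero_apply]))
    have hb : ∀ x, x = b.repr x 0 • b 0 := fun x => by
      conv_lhs => rw [← b.sum_repr x]
      simp
    haveI : Mono (biprod.desc s (s ≫ τ)) := by
      refine Rank.mono_of_generic_injective hBT _ ((injective_iff_map_eq_zero _).2 fun z hz => ?_)
      have hz' : z = Modules.StalkModule.stalkMapₗ biprod.inl _ (Modules.StalkModule.stalkMapₗ biprod.fst _ z) +
          Modules.StalkModule.stalkMapₗ biprod.inr _ (Modules.StalkModule.stalkMapₗ biprod.snd _ z) := by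
        rw [← LinearMap.comp_apply, ← Modules.StalkModule.stalkMapₗ_comp, ← LinearMap.comp_apply,
          ← Modules.StalkModule.stalkMapₗ_comp, ← LinearMap.add_apply, ← Modules.StalkModule.stalkMapₗ_add,
          biprod.total, Modules.StalkModule.stalkMapₗ_id, LinearMap.id_apply]
      rw [hb (Modules.StalkModule.stalkMapₗ biprod.fst _ z), hb (Modules.StalkModule.stalkMapₗ biprod.snd _ z),
        map_smul, map_smul] at hz'
      rw [hz', map_add, map_smul, map_smul, ← LinearMap.comp_apply, ← Modules.StalkModule.stalkMapₗ_comp,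
        ← LinearMap.comp_apply, ← Modules.StalkModule.stalkMapₗ_comp, biprod.inl_desc, biprod.inr_desc,
        Modules.StalkModule.stalkMapₗ_comp, LinearMap.comp_apply] at hz
      obtain ⟨ha, hc⟩ := hlin _ _ _ hz hv
      rw [hz', ha, hc, zero_smul, zero_smul, add_zero]
    haveI := Degree.isIso_of_mono k (biprod.desc s (s ≫ τ)) hBc hGc (by omega) (by omega)
    exact (hind.2 _ _ ⟨(asIso (biprod.desc s (s ≫ τ))).symm⟩).elim hO0 hO0
  · intro v
    by_contra hv
    haveI : Mono (biprod.lift v (τ ≫ v)) := by
      refine Rank.mono_of_generic_injective hGT _ ((injective_iff_map_eq_zero _).2 fun w hw => ?_)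
      by_contra hw0
      have h1 : Modules.StalkModule.stalkMapₗ v (genericPoint X) w = 0 := by
        rw [← biprod.lift_fst v (τ ≫ v), Modules.StalkModule.stalkMapₗ_comp, LinearMap.comp_apply, hw, map_zero]
      have h2 : Modules.StalkModule.stalkMapₗ v (genericPoint X) (φ w) = 0 := by
        rw [← LinearMap.comp_apply, ← Modules.StalkModule.stalkMapₗ_comp, ← biprod.lift_snd v (τ ≫ v),
          Modules.StalkModule.stalkMapₗ_comp, LinearMap.comp_apply, hw, map_zero]
      have hli : LinearIndependent (X.presheaf.stalk (genericPoint X)) ![w, φ w] :=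
        LinearIndependent.pair_iff.2 fun a c h => hlin a c w h hw0
      obtain ⟨bG⟩ := Coherent.exists_basis_stalk hG (genericPoint X)
      have hspan := hli.span_eq_top_of_card_eq_finrank (by rw [Module.finrank_eq_card_basis bG])
      refine hv (Rank.eq_zero_of_generic hOT v (LinearMap.ext_on hspan ?_))
      rintro _ ⟨i, rfl⟩
      fin_cases i
      · simpa using h1
      · simpa using h2
    haveI := Degree.isIso_of_mono k (biprod.lift v (τ ≫ v)) hGc hBc (by omega) (by omega)
    exact (hind.2 _ _ ⟨asIso (biprod.lift v (τ ≫ v))⟩).elim hO0 hO0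

end Groth.Agent.Lib.CurveBundle.NonGeom
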