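import Groth.Agent.Lib.CurveBundle.Choice
import Groth.Agent.Lib.CurveBundle.LineQuot
import Groth.Agent.Lib.CurveBundle.H0Twist

/-!
# Points which can be allowed as poles without new sections
-/

set_option autoImplicit false
universe u

open CategoryTheory Limits AlgebraicGeometry Opposite TopologicalSpace

namespace Groth.Agent.Lib.CurveBundle.PointGood

open Groth.Agent.Lib Degree Slope TensorMod.Basic TensorMod.Dual Curves.PointIdeal

variable {X : Scheme.{u}} {x : X}

/-- Allowing a simple pole at a point. -/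
noncomputable abbrev up (hx : IsClosed ({x} : Set X)) (P : X.Modules) : X.Modules :=
  CohB1.tensorMod P (dual (ClSub.idealMod (ptI hx)))

/-- Undoing `up`. -/
noncomputable def upIso (hx : IsClosed ({x} : Set X))
    (hJ : PicF.IsInvertible (ClSub.idealMod (ptI hx))) (P : X.Modules) :
    CohB1.tensorMod (ClSub.idealMod (ptI hx)) (up hx P) ≅ P :=
  comm _ _ ≪≫ LineQuot.cancel (comm _ _ ≪≫ TensorMod.Invertible.tensorDualIso hJ)

variable (k : Type u) [Field k] [IsAlgClosed k] [X.Over (Spec (CommRingCat.of k))]
  [IsIntegral X] [IsProper (X ↘ Spec (CommRingCat.of k))] [hC : CurveCtx k X]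

include k in
omit [IsAlgClosed k] hC in
/-- A closed point outside a finite set. -/
theorem exists_closed_notMem (hdim : topologicalKrullDim X = 1) {Z : Set X} (hZ : Z.Finite) :
    ∃ x : X, IsClosed ({x} : Set X) ∧ x ∉ Z := by
  set F := {z ∈ Z | IsClosed ({z} : Set X)}
  have hF : IsClosed F := by
    have hFf : F.Finite := hZ.subset fun z hz => hz.1
    rw [← Set.biUnion_of_singleton F]
    exact hFf.isClosed_biUnion fun z hz => hz.2
  have hgen : genericPoint X ∉ F := fun h => by
    have hu : ({genericPoint X} : Set X) = Set.univ := by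
      rw [← h.2.closure_eq]
      exact genericPoint_closure X
    have : Subsingleton X := Set.subsingleton_univ_iff.mp (hu ▸ Set.subsingleton_singleton)
    have h0 := topologicalKrullDim_zero_of_discreteTopology X
    rw [hdim] at h0
    exact absurd h0 (by decide)
  haveI : JacobsonSpace X :=
    LocallyOfFiniteType.jacobsonSpace (X ↘ Spec (CommRingCat.of k))
  obtain ⟨x, hxF, hx⟩ := nonempty_inter_closedPoints (Z := Fᶜ) ⟨_, hgen⟩
    hF.isOpen_compl.isLocallyClosed
  rw [mem_closedPoints_iff] at hx
  exact ⟨x, hx, fun h => hxF ⟨h, hx⟩⟩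

omit [IsAlgClosed k] hC in
/-- A section generating at the point is lost when twisting down. -/
theorem lt_of_span (hdim : topologicalKrullDim X ≤ 1) (hx : IsClosed ({x} : Set X)) {L : X.Modules}
    (hL : PicF.IsInvertible L) (t : Γ(L, ⊤))
    (ht : Submodule.span (X.presheaf.stalk x) {L.presheaf.germ ⊤ x trivial t} = ⊤) :
    Curves.Euler.hdim k X (CohB1.tensorMod (ClSub.idealMod (ptI hx)) L) 0 <
      Curves.Euler.hdim k X L 0 := by
  refine lt_of_le_of_ne (hdim_twist_ideal_point hx hdim hL).1 fun he => ?_
  have h0 := (hdim_eq_iff hx hdim hL).mp he t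
  have hxs : x ∈ CohB1.support (CohB1.tensorMod (ClSub.quotMod (ptI hx)) L) := by
    rw [support_twist_quot hx hL]; rfl
  haveI := epi_evQ hx hL
  refine hxs (subsingleton_of_forall_eq 0 fun w => ?_)
  obtain ⟨v, rfl⟩ :=
    (Modules.StalkModule.epi_iff_stalkMapₗ_surjective (evQ hx L)).1 inferInstance x w
  have hv : v ∈ Submodule.span (X.presheaf.stalk x) {L.presheaf.germ ⊤ x trivial t} :=
    ht ▸ Submodule.mem_top
  obtain ⟨c, rfl⟩ := Submodule.mem_span_singleton.mp hv
  rw [map_smul, Modules.StalkModule.stalkMapₗ_germ, h0, map_zero, smul_zero]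

omit [IsAlgClosed k] hC in
/-- A drop of sections at a point comes from a generating section. -/
theorem exists_span_of_lt (hdim : topologicalKrullDim X ≤ 1) (hx : IsClosed ({x} : Set X))
    {L : X.Modules} (hL : PicF.IsInvertible L)
    (h : Curves.Euler.hdim k X (CohB1.tensorMod (ClSub.idealMod (ptI hx)) L) 0 <
      Curves.Euler.hdim k X L 0) :
    ∃ t : Γ(L, ⊤), Submodule.span (X.presheaf.stalk x) {L.presheaf.germ ⊤ x trivial t} = ⊤ := by
  by_contra! hc
  refine absurd ((hdim_eq_iff hx hdim hL).mpr fun t => ?_) h.ne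
  exact (span_or_app_eq_zero hx hL t).resolve_left fun h' => hc t (h' x specializes_rfl)

omit [IsProper (X ↘ Spec (CommRingCat.of k))] [IsIntegral X] [IsAlgClosed k] hC
  [X.Over (Spec (CommRingCat.of k))] in
/-- Surjectivity at a point from the support of the cokernel. -/
lemma surjective_of_notMem {M N : X.Modules} (f : M ⟶ N) [Mono f] {y : X}
    (hy : y ∉ CohB1.support (cokernel f)) :
    Function.Surjective (Modules.StalkModule.stalkMapₗ f y) := fun v => by
  have hses : (ShortComplex.mk f (cokernel.π f) (cokernel.condition f)).ShortExact :=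
    { exact := ShortComplex.exact_cokernel f }
  have : Subsingleton ((cokernel f).presheaf.stalk y) := Classical.not_not.mp hy
  exact ((Rank.stalk_exact hses y).2.1 v).mp (Subsingleton.elim _ _)

omit [IsProper (X ↘ Spec (CommRingCat.of k))] [IsIntegral X] [IsAlgClosed k] hC
  [X.Over (Spec (CommRingCat.of k))] in
/-- Twisting preserves surjectivity at a point. -/
lemma surjective_twist {M N L : X.Modules} (hL : PicF.IsInvertible L) (f : M ⟶ N) [Mono f] {y : X}
    (hy : Function.Surjective (Modules.StalkModule.stalkMapₗ f y)) :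
    Function.Surjective (Modules.StalkModule.stalkMapₗ (tmap f (𝟙 L)) y) := fun v => by
  have hses : (ShortComplex.mk f (cokernel.π f) (cokernel.condition f)).ShortExact :=
    { exact := ShortComplex.exact_cokernel f }
  have hs := Rank.stalk_exact hses y
  have h0 : Subsingleton ((cokernel f).presheaf.stalk y) := subsingleton_of_forall_eq 0 fun w => by
    obtain ⟨v, rfl⟩ := hs.2.2 w
    exact (hs.2.1 v).mpr (hy v)
  have h1 : y ∉ CohB1.support (CohB1.tensorMod (cokernel f) L) := by
    rw [Twist.support_twist hL]; exact not_not.mpr h0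
  have : Subsingleton ((CohB1.tensorMod (cokernel f) L).presheaf.stalk y) :=
    Classical.not_not.mp h1
  exact ((Rank.stalk_exact (Twist.shortExact hL hses) y).2.1 v).mp (Subsingleton.elim _ _)

/-- The degree of `up`. -/
lemma up_facts (hdim : topologicalKrullDim X = 1) (hx : IsClosed ({x} : Set X)) {P : X.Modules}
    (hP : PicF.IsInvertible P) : PicF.IsInvertible (up hx P) ∧ dg k (up hx P) = dg k P + 1 := by
  obtain ⟨-, hJ, hJd⟩ := Point.point_facts_ctx k hdim hx
  have hJ' := TensorMod.Invertible.isInvertible_dual hJ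
  obtain ⟨hPc, -, eP, -⟩ := SlopeLine.line (k := k) hP
  have h := (Twist.gr_dg_twist k hJ' hPc).2
  rw [eP, H0Crit.dg_dual hJ, dg_eq_deg k (TensorMod.LocFree.of_isInvertible hJ)] at h
  refine ⟨TensorMod.Invertible.isInvertible_tensorMod hP hJ', h.trans ?_⟩
  rw [show Curv2.deg k X (ClSub.idealMod (ptI hx)) 1 = -1 from hJd]
  push_cast; ring

/-- A line bundle with `H¹ ≠ 0` gains sections by a simple pole at finitely many points only. -/
theorem finite_bad (hdim : topologicalKrullDim X = 1)
    (h0 : Module.finrank k (Coh.HH X (Coh.structureModule X) 0) = 1) {N : X.Modules}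
    (hN : PicF.IsInvertible N) (h1 : Nontrivial (Coh.HH X N 1)) :
    {q : X | ∃ hq : IsClosed ({q} : Set X),
      Curves.Euler.hdim k X N 0 < Curves.Euler.hdim k X (up hq N) 0}.Finite := by
  classical
  set S := {q : X | ∃ hq : IsClosed ({q} : Set X),
    Curves.Euler.hdim k X N 0 < Curves.Euler.hdim k X (up hq N) 0}
  by_contra hS
  have key : ∀ n : ℕ, ∃ (P : X.Modules) (f : N ⟶ P) (F : Finset X), PicF.IsInvertible P ∧ Mono f ∧
      dg k P = dg k N + n ∧ Curves.Euler.hdim k X N 0 + n ≤ Curves.Euler.hdim k X P 0 ∧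
      ∀ y ∉ F, Function.Surjective (Modules.StalkModule.stalkMapₗ f y) := by
    intro n
    induction n with
    | zero =>
      exact ⟨N, 𝟙 N, ∅, hN, inferInstance, by simp, le_rfl, fun y _ => by
        rw [Modules.StalkModule.stalkMapₗ_id]; exact fun v => ⟨v, rfl⟩⟩
    | succ n ih =>
      obtain ⟨P, f, F, hP, _, hPd, hPh, hf⟩ := ih
      obtain ⟨p, ⟨hp, hlt⟩, hpF⟩ := (Set.Infinite.diff hS F.finite_toSet).nonempty
      obtain ⟨-, hJ, -⟩ := Point.point_facts_ctx k hdim hp
      obtain ⟨hN', -⟩ := up_facts k hdim hp hN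
      obtain ⟨hP', hP'd⟩ := up_facts k hdim hp hP
      -- the section with a pole at `p` survives in `up P`
      obtain ⟨t, ht⟩ := exists_span_of_lt k hdim.le hp hN'
        (by rw [Curves.Euler.hdim_eq_of_iso (upIso hp hJ N) 0]; exact hlt)
      have hf' := surjective_twist (TensorMod.Invertible.isInvertible_dual hJ) f
        (hf p (by simpa using hpF))
      set f' := tmap f (𝟙 (dual (ClSub.idealMod (ptI hp))))
      have hlt' := lt_of_span k hdim.le hp hP' (f'.app ⊤ t) (by
        rw [← Modules.StalkModule.stalkMapₗ_germ f' (U := ⊤) trivial t, ← Set.image_singleton,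
          Submodule.span_image, ht, Submodule.map_top]
        exact LinearMap.range_eq_top.mpr hf')
      rw [Curves.Euler.hdim_eq_of_iso (upIso hp hJ P) 0] at hlt'
      have := Curves.IdealTwist.mono_incl (ptI hp) hP'
      let u : P ⟶ up hp P := (upIso hp hJ P).inv ≫ Curves.IdealTwist.incl (ptI hp) (up hp P)
      refine ⟨up hp P, f ≫ u, insert p F, hP', inferInstance, ?_, by omega, fun y hy => ?_⟩
      · push_cast; omega
      rw [Finset.mem_insert, not_or] at hy
      -- `u` is surjective away from `p`
      have hu : Function.Surjective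
          (Modules.StalkModule.stalkMapₗ (Curves.IdealTwist.incl (ptI hp) (up hp P)) y) := fun v => by
        have hses := Twist.shortExact hP' (ClSub.Quot.idealSeq_shortExact (ptI hp))
        have : Subsingleton
            ((CohB1.tensorMod (ClSub.quotMod (ptI hp)) (up hp P)).presheaf.stalk y) :=
          Classical.not_not.mp (show y ∉ CohB1.support _ by
            rw [support_twist_quot hp hP']; exact hy.1)
        obtain ⟨w', hw'⟩ := (Modules.StalkModule.epi_iff_stalkMapₗ_surjective
          (leftUnit (up hp P)).hom).1 inferInstance y v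
        obtain ⟨w, hw⟩ := ((Rank.stalk_exact hses y).2.1 w').mp (@Subsingleton.elim _ this _ _)
        refine ⟨w, ?_⟩
        rw [Curves.IdealTwist.incl, Modules.StalkModule.stalkMapₗ_comp, LinearMap.comp_apply]
        exact (congrArg _ hw).trans hw'
      simp only [u, Modules.StalkModule.stalkMapₗ_comp, LinearMap.coe_comp]
      exact (hu.comp ((Modules.StalkModule.epi_iff_stalkMapₗ_surjective
        (upIso hp hJ P).inv).1 inferInstance y)).comp (hf y hy.2)
  obtain ⟨m, hm⟩ : ∃ m : ℕ, 2 * (Curv2.genus k X : ℤ) - 2 < dg k N + m :=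
    ⟨(2 * (Curv2.genus k X : ℤ) - 1 - dg k N).toNat, by omega⟩
  obtain ⟨P, -, -, hP, -, hPd, hPh, -⟩ := key m
  have hP1 := Curves.Clifford.subsingleton_one_of_deg k hdim.le h0 hP
    (by rw [← dg_eq_deg k (TensorMod.LocFree.of_isInvertible hP), hPd]; exact hm)
  obtain ⟨hPc, -, eP, -⟩ := SlopeLine.line (k := k) hP
  obtain ⟨hNc, -, eN, -⟩ := SlopeLine.line (k := k) hN
  have e1 := (hC.good _ hPc).euler
  have e2 := (hC.good _ hNc).euler
  have := (hC.good _ hNc).fin₁
  have e3 : Curves.Euler.hdim k X P 1 = 0 := Module.finrank_zero_of_subsingleton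
  have e4 : 0 < Curves.Euler.hdim k X N 1 := Module.finrank_pos
  have d1 : dg k P = Curv2.euler k X P - (gr k P : ℤ) * Curv2.euler k X (Coh.structureModule X) :=
    rfl
  have d2 : dg k N = Curv2.euler k X N - (gr k N : ℤ) * Curv2.euler k X (Coh.structureModule X) :=
    rfl
  rw [eP] at d1
  rw [eN] at d2
  omega

end Groth.Agent.Lib.CurveBundle.PointGood
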