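import Groth.Agent.Lib.CurveBundle.PointGood
import Groth.Agent.Lib.CurveBundle.TwistDrop
import Groth.Agent.Lib.Curves.SectionMult

/-!
# Killing the sections of a semistable rank two bundle of Euler characteristic zero
-/

set_option autoImplicit false
universe u

open CategoryTheory Limits AlgebraicGeometry Opposite TopologicalSpace

namespace Groth.Agent.Lib.CurveBundle.RankTwoVanish

open Groth.Agent.Lib Degree Slope TensorMod.Basic TensorMod.Dual Curves.PointIdeal PointGood
  Curves.GlobalSections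

variable (k : Type u) [Field k] [IsAlgClosed k] {X : Scheme.{u}} [X.Over (Spec (CommRingCat.of k))]
  [IsIntegral X] [IsProper (X ↘ Spec (CommRingCat.of k))] [hC : CurveCtx k X]

/-- The map `G(-x) ⟶ G`. -/
noncomputable abbrev dn {x : X} (hx : IsClosed ({x} : Set X)) (G : X.Modules) :
    CohB1.tensorMod G (ClSub.idealMod (ptI hx)) ⟶ G :=
  tmap (𝟙 G) (ClSub.idealModι (ptI hx)) ≫ (rightUnit G).hom

omit [IsAlgClosed k] [IsIntegral X] [IsProper (X ↘ Spec (CommRingCat.of k))] hC
  [X.Over (Spec (CommRingCat.of k))] in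
/-- `G(-x) ⟶ G` is natural. -/
lemma dn_natural {x : X} (hx : IsClosed ({x} : Set X)) {G N : X.Modules} (p : G ⟶ N) :
    dn hx G ≫ p = tmap p (𝟙 _) ≫ dn hx N := by
  rw [Category.assoc, ← rightUnit_natural p, ← Category.assoc, ← tmap_comp, Category.id_comp,
    Category.comp_id, ← Category.assoc, ← tmap_comp, Category.id_comp, Category.comp_id]

/-- `G(-x) ⟶ G` is a monomorphism with cokernel of length the rank. -/
theorem coker_facts (hdim : topologicalKrullDim X = 1) {x : X} (hx : IsClosed ({x} : Set X))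
    {G : X.Modules} {r : ℕ} (hG : FlatMod.IsFinLocFreeOfRank r G) :
    Mono (dn hx G) ∧ Coh.IsCoh (cokernel (dn hx G)) ∧ gr k (cokernel (dn hx G)) = 0 ∧
      Curves.Euler.hdim k X (cokernel (dn hx G)) 0 = r := by
  have := hC.noethSpace
  obtain ⟨hgen, hJ, hJd⟩ := Point.point_facts_ctx k hdim hx
  obtain ⟨hm, hq⟩ := Point.mono_twist k (I := ptI hx) hgen hJ hG
  obtain ⟨hGc, -, eG, -⟩ := bundle (k := k) hG
  haveI : Mono (dn hx G) := hm
  obtain ⟨hQc, -, hd⟩ := cokernel_ses k (dn hx G) (Twist.isCoh hJ hGc) hGc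
  refine ⟨hm, hQc, hq, ?_⟩
  have he := (isTorsion k (Rank.subsingleton_of_grank_eq_zero hQc hq)).euler hC.dim_le (k := k)
  have h2 := (Twist.gr_dg_twist k hJ hGc).2
  rw [eG, dg_eq_deg k (TensorMod.LocFree.of_isInvertible hJ),
    show Curv2.deg k X (ClSub.idealMod (ptI hx)) 1 = -1 from hJd] at h2
  have h3 : dg k (cokernel (dn hx G)) = Curv2.euler k X (cokernel (dn hx G)) -
      (gr k (cokernel (dn hx G)) : ℤ) * Curv2.euler k X (Coh.structureModule X) := rfl
  rw [show gr k (cokernel (dn hx G)) = 0 from hq, he] at h3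
  push_cast at h3
  change dg k G = _ at hd
  rw [h2, h3] at hd
  simp only [Curves.Euler.hdim]
  omega

/-- Allowing a pole at a point where a line quotient gains no section adds at most one section. -/
theorem h0_up_le (hdim : topologicalKrullDim X = 1) {x : X} (hx : IsClosed ({x} : Set X))
    {F : X.Modules} (hF : FlatMod.IsFinLocFreeOfRank 2 F) {N : X.Modules} (hN : PicF.IsInvertible N)
    (p : F ⟶ N) [Epi p] (hN0 : Curves.Euler.hdim k X (up hx N) 0 ≤ Curves.Euler.hdim k X N 0) :
    Curves.Euler.hdim k X (up hx F) 0 ≤ Curves.Euler.hdim k X F 0 + 1 := by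
  have := hC.locNoeth
  have := hC.noethSpace
  obtain ⟨-, hJ, -⟩ := Point.point_facts_ctx k hdim hx
  have hJ' := TensorMod.Invertible.isInvertible_dual hJ
  have hG : FlatMod.IsFinLocFreeOfRank 2 (up hx F) :=
    TensorMod.LocFree.rank_tensorMod hF (TensorMod.LocFree.of_isInvertible hJ')
  obtain ⟨hN', -⟩ := up_facts k hdim hx hN
  obtain ⟨hmG, hQGc, hQG, hQG0⟩ := coker_facts k hdim hx hG
  obtain ⟨hmN, hQNc, hQN, hQN0⟩ :=
    coker_facts k hdim hx (TensorMod.LocFree.of_isInvertible hN')
  set p' := tmap p (𝟙 (dual (ClSub.idealMod (ptI hx)))) with hp'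
  have : Epi p' := by
    have hses : (ShortComplex.mk (kernel.ι p) p (kernel.condition p)).ShortExact :=
      { exact := ShortComplex.exact_kernel p }
    exact (Twist.shortExact hJ' hses).epi_g
  let c : cokernel (dn hx (up hx F)) ⟶ cokernel (dn hx (up hx N)) :=
    cokernel.map _ _ (tmap p' (𝟙 _)) p' (dn_natural hx p')
  have hπc : cokernel.π (dn hx (up hx F)) ≫ c = p' ≫ cokernel.π (dn hx (up hx N)) :=
    cokernel.π_desc _ _ _
  have : Epi c := epi_of_epi_fac hπc
  -- sections of the skyscrapers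
  have hc : Function.Surjective (Curves.LES.mapK k c 0) :=
    Curves.SectionMult.mapK_surjective_zero hdim.le c
      (isTorsion k (Rank.subsingleton_of_grank_eq_zero hQGc hQG))
  -- all sections of `N(x)` come from `N`
  have hsN : Function.Surjective (Curves.LES.mapK k (dn hx (up hx N)) 0) := by
    have := (hC.good _ (SlopeLine.line (k := k) hN').1).fin₀
    have hle : Curves.Euler.hdim k X (up hx N) 0 ≤
        Curves.Euler.hdim k X (CohB1.tensorMod (up hx N) (ClSub.idealMod (ptI hx))) 0 := by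
      rw [Curves.Euler.hdim_eq_of_iso (comm _ _ ≪≫ upIso hx hJ N) 0]; exact hN0
    refine LinearMap.range_eq_top.mp (Submodule.eq_top_of_finrank_eq
      (le_antisymm (Submodule.finrank_le _) ?_))
    haveI := hmN
    rw [LinearMap.finrank_range_of_inj (Curves.LES.mapK_injective_of_mono (A := k) _)]
    exact hle
  -- the sections of `F(x)` do not fill the fibre
  have hGc := (bundle (k := k) hG).1
  have := (hC.good _ hGc).fin₀
  have := (hC.good _ hQGc).fin₀
  have := (hC.good _ hQNc).fin₀
  haveI := hmG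
  haveI := hmN
  have hses : (ShortComplex.mk (dn hx (up hx F)) (cokernel.π _) (cokernel.condition _)).ShortExact :=
    { exact := ShortComplex.exact_cokernel _ }
  set π := Curves.LES.mapK k (cokernel.π (dn hx (up hx F))) 0
  have hz : ∀ y, Curves.LES.mapK k c 0 (π y) = 0 := fun y => by
    obtain ⟨w, hw⟩ := hsN (Curves.LES.mapK k p' 0 y)
    rw [← LinearMap.comp_apply, ← Curves.LES.mapK_comp, hπc, Curves.LES.mapK_comp,
      LinearMap.comp_apply, ← hw, ← LinearMap.comp_apply, ← Curves.LES.mapK_comp,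
      cokernel.condition]
    have h := Curves.Clifford.mapK_add k (0 : CohB1.tensorMod (up hx N) (ClSub.idealMod (ptI hx)) ⟶
      cokernel (dn hx (up hx N))) 0 0
    rw [add_zero] at h
    rw [left_eq_add.mp h]
    rfl
  have hlt : Module.finrank k (LinearMap.range π) < 2 := by
    refine lt_of_lt_of_eq (Submodule.finrank_lt fun htop => ?_) hQG0
    have h1 : (0 : ℕ) < Curves.Euler.hdim k X (cokernel (dn hx (up hx N))) 0 := by omega
    have : Nontrivial (Coh.HH X (cokernel (dn hx (up hx N))) 0) :=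
      Module.nontrivial_of_finrank_pos (R := k) h1
    obtain ⟨v, hv⟩ := exists_ne (0 : Coh.HH X (cokernel (dn hx (up hx N))) 0)
    obtain ⟨s, rfl⟩ := hc v
    obtain ⟨y, rfl⟩ := LinearMap.range_eq_top.mp htop s
    exact hv (hz y)
  have hrk := LinearMap.finrank_range_add_finrank_ker π
  rw [LinearMap.exact_iff.mp (Curves.LES.exactK₂ (A := k) hses 0)] at hrk
  dsimp only at hrk
  rw [LinearMap.finrank_range_of_inj
    (Curves.LES.mapK_injective_of_mono (A := k) (dn hx (up hx F)))] at hrk
  have e := Curves.Euler.hdim_eq_of_iso (k := k) (comm _ _ ≪≫ upIso hx hJ F :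
    CohB1.tensorMod (up hx F) (ClSub.idealMod (ptI hx)) ≅ F) 0
  change _ + Curves.Euler.hdim k X _ 0 = Curves.Euler.hdim k X (up hx F) 0 at hrk
  omega

/-- If all sections lie in a line subbundle, twisting down at some point loses one. -/
theorem exists_drop_of_sub (hdim : topologicalKrullDim X = 1) {G : X.Modules}
    (hG : FlatMod.IsFinLocFreeOfRank 2 G) {L : X.Modules} (hL : PicF.IsInvertible L) (j : L ⟶ G)
    [Mono j] (hM : PicF.IsInvertible (cokernel j))
    (hs : Function.Surjective (Curves.LES.mapK k j 0)) (hne : Nontrivial (Coh.HH X L 0)) :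
    ∃ (p : X) (hp : IsClosed ({p} : Set X)),
      Curves.Euler.hdim k X (CohB1.tensorMod G (ClSub.idealMod (ptI hp))) 0 <
        Curves.Euler.hdim k X L 0 := by
  obtain ⟨p, hp, hlt⟩ := Choice.exists_point_drop k hdim.le hL hne
  obtain ⟨-, hJ, -⟩ := Point.point_facts_ctx k hdim hp
  obtain ⟨hmC, -⟩ := coker_facts k hdim hp (TensorMod.LocFree.of_isInvertible hM)
  refine ⟨p, hp, lt_of_le_of_lt ?_ hlt⟩
  have hses : (ShortComplex.mk j (cokernel.π j) (cokernel.condition j)).ShortExact :=
    { exact := ShortComplex.exact_cokernel j }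
  have hses' := Twist.shortExact hJ hses
  rw [← Curves.Euler.hdim_eq_of_iso (comm L (ClSub.idealMod (ptI hp))) 0]
  have := (hC.good _ (Twist.isCoh hJ (SlopeLine.line (k := k) hL).1)).fin₀
  have hs' : Function.Surjective (Curves.LES.mapK k (tmap j (𝟙 (ClSub.idealMod (ptI hp)))) 0) :=
    fun z => (Curves.LES.exactK₂ (A := k) hses' 0 z).mp (by
      haveI := hmC
      refine Curves.LES.mapK_injective_of_mono (A := k) (dn hp (cokernel j)) ?_
      rw [map_zero]
      change Curves.LES.mapK k (dn hp (cokernel j)) 0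
        (Curves.LES.mapK k (tmap (cokernel.π j) (𝟙 _)) 0 z) = 0
      rw [← LinearMap.comp_apply, ← Curves.LES.mapK_comp, ← dn_natural hp (cokernel.π j),
        Curves.LES.mapK_comp, LinearMap.comp_apply]
      exact (Curves.LES.exactK₂ (A := k) hses 0 _).mpr (hs _))
  have := LinearMap.finrank_range_le (Curves.LES.mapK k (tmap j (𝟙 (ClSub.idealMod (ptI hp)))) 0)
  rw [LinearMap.range_eq_top.mpr hs', finrank_top] at this
  exact this

/-- One step: some twist of degree zero has fewer sections. -/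
theorem exists_step (hdim : topologicalKrullDim X = 1) {F : X.Modules}
    (hF : FlatMod.IsFinLocFreeOfRank 2 F) (hd : dg k F = 2 * (Curv2.genus k X : ℤ) - 2)
    (hb : ∀ (M : X.Modules) (i : M ⟶ F), Mono i → PicF.IsInvertible M →
      dg k M ≤ (Curv2.genus k X : ℤ) - 1)
    (h : Nontrivial (Coh.HH X F 0)) :
    ∃ N : X.Modules, PicF.IsInvertible N ∧ dg k N = 0 ∧
      Curves.Euler.hdim k X (CohB1.tensorMod F N) 0 < Curves.Euler.hdim k X F 0 := by
  classical
  have := hC.locNoeth
  have h0 := finrank_h0_structure k X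
  have hOi := PicLoc.isInvertible_structureModule X
  obtain ⟨hOc, hOT, eO, -⟩ := SlopeLine.line (k := k) hOi
  obtain ⟨hFc, hFT, eF, -⟩ := bundle (k := k) hF
  have gO := (hC.good _ hOc).euler
  have gF := (hC.good _ hFc).euler
  have := (hC.good _ hFc).fin₀
  have := (hC.good _ hFc).fin₁
  have dF : dg k F = Curv2.euler k X F - (gr k F : ℤ) * Curv2.euler k X (Coh.structureModule X) :=
    rfl
  rw [eF] at dF
  have eO0 : Curves.Euler.hdim k X (Coh.structureModule X) 0 = 1 := h0
  have eO1 : Curves.Euler.hdim k X (Coh.structureModule X) 1 = Curv2.genus k X := rfl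
  have hpos : 0 < Curves.Euler.hdim k X F 0 := Module.finrank_pos
  -- a line quotient with `H¹ ≠ 0`
  obtain ⟨A, hA, hA1⟩ := Vanishing.exists_pos_ctx (k := k) hdim
  have h1 : Nontrivial (Coh.HH X F 1) := Module.nontrivial_of_finrank_pos (R := k)
    (show 0 < Curves.Euler.hdim k X F 1 by omega)
  obtain ⟨N, pN, _, hN, hN1⟩ := LineQuot.exists_line_quot k hA (by omega) 2 F hF h1
  -- the line bundle spanned by a section
  obtain ⟨w, hw⟩ := Curves.Positivity.exists_section_of_nontrivial h
  obtain ⟨J, q', j', _, _, hqj, hJc, hK, hg, -⟩ := exists_image k w hOc hFc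
  have hJ0 : gr k J ≠ 0 := fun h0 => hw (eq_zero_of_image k q' j' hqj hJc hFT h0)
  have : Mono w := Preadditive.mono_of_kernel_zero
    ((sub_zero_rank (k := k) (kernel.ι _) hK hOT (by omega)).1.eq_of_src _ _)
  obtain ⟨L, j, a, _, _, haj, hL, hC', -, -⟩ := RankTwoExt.saturate (k := k) hF hOi w
  have ha : a ≠ 0 := fun h => hw (by rw [← haj, h, zero_comp])
  obtain ⟨hLc, -, eL, -⟩ := SlopeLine.line (k := k) hL
  have hL0 : Curves.Euler.hdim k X (Coh.structureModule X) 0 ≤ Curves.Euler.hdim k X L 0 := by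
    have := (hC.good _ hLc).fin₀
    exact LinearMap.finrank_le_finrank_of_injective (Curves.LES.mapK_injective_of_mono (A := k) a)
  have hLF : Curves.Euler.hdim k X L 0 ≤ Curves.Euler.hdim k X F 0 :=
    LinearMap.finrank_le_finrank_of_injective (Curves.LES.mapK_injective_of_mono (A := k) j)
  have hL1 : Nontrivial (Coh.HH X L 1) := by
    have gL := (hC.good _ hLc).euler
    have dL : dg k L = Curv2.euler k X L - (gr k L : ℤ) * Curv2.euler k X (Coh.structureModule X) :=
      rfl
    rw [eL] at dL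
    have := hb L j inferInstance hL
    exact Module.nontrivial_of_finrank_pos (R := k)
      (show 0 < Curves.Euler.hdim k X L 1 by omega)
  -- a good pole
  obtain ⟨q, hq, hqgood⟩ := exists_closed_notMem k hdim
    ((finite_bad k hdim h0 hN hN1).union (finite_bad k hdim h0 hL hL1))
  rw [Set.mem_union, not_or] at hqgood
  have hNle : Curves.Euler.hdim k X (up hq N) 0 ≤ Curves.Euler.hdim k X N 0 :=
    not_lt.mp fun h => hqgood.1 ⟨hq, h⟩
  have hLle : Curves.Euler.hdim k X (up hq L) 0 ≤ Curves.Euler.hdim k X L 0 :=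
    not_lt.mp fun h => hqgood.2 ⟨hq, h⟩
  obtain ⟨-, hJq, hJqd⟩ := Point.point_facts_ctx k hdim hq
  have hJq' := TensorMod.Invertible.isInvertible_dual hJq
  have hG : FlatMod.IsFinLocFreeOfRank 2 (up hq F) :=
    TensorMod.LocFree.rank_tensorMod hF (TensorMod.LocFree.of_isInvertible hJq')
  obtain ⟨hGc, -, -, -⟩ := bundle (k := k) hG
  have := (hC.good _ hGc).fin₀
  have hGle := h0_up_le k hdim hq hF hN pN hNle
  obtain ⟨hL', -⟩ := up_facts k hdim hq hL
  have hses : (ShortComplex.mk j (cokernel.π j) (cokernel.condition j)).ShortExact :=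
    { exact := ShortComplex.exact_cokernel j }
  have hses' := Twist.shortExact hJq' hses
  set j₁ := tmap j (𝟙 (dual (ClSub.idealMod (ptI hq)))) with hj₁
  have : Mono j₁ := hses'.mono_f
  have hC₁ : PicF.IsInvertible (cokernel j₁) := TensorMod.Invertible.isInvertible_of_iso
    (IsColimit.coconePointUniqueUpToIso (cokernelIsCokernel _) hses'.gIsCokernel).symm
    (TensorMod.Invertible.isInvertible_tensorMod hC' hJq')
  -- it is enough to find the second point
  suffices H : ∃ (p : X) (hp : IsClosed ({p} : Set X)),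
      Curves.Euler.hdim k X (CohB1.tensorMod (up hq F) (ClSub.idealMod (ptI hp))) 0 <
        Curves.Euler.hdim k X F 0 by
    obtain ⟨p, hp, hlt⟩ := H
    obtain ⟨-, hJp, hJpd⟩ := Point.point_facts_ctx k hdim hp
    refine ⟨_, TensorMod.Invertible.isInvertible_tensorMod hJq' hJp, ?_, ?_⟩
    · obtain ⟨hc, -, ec, -⟩ := SlopeLine.line (k := k) hJq'
      rw [(Twist.gr_dg_twist k hJp hc).2, ec, H0Crit.dg_dual hJq,
        dg_eq_deg k (TensorMod.LocFree.of_isInvertible hJq),
        dg_eq_deg k (TensorMod.LocFree.of_isInvertible hJp),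
        show Curv2.deg k X (ClSub.idealMod (ptI hq)) 1 = -1 from hJqd,
        show Curv2.deg k X (ClSub.idealMod (ptI hp)) 1 = -1 from hJpd]
      norm_num
    · rw [← Curves.Euler.hdim_eq_of_iso (assoc _ _ _) 0]
      exact hlt
  by_cases hall : ∃ t : Γ(up hq F, ⊤), Curves.Clifford.σ _ t ≫ cokernel.π j₁ ≠ 0
  · -- two independent sections
    obtain ⟨t, ht⟩ := hall
    have := Curves.IdealTwist.mono_incl (ptI hq) hL'
    let a₁ : Coh.structureModule X ⟶ up hq L :=
      a ≫ (upIso hq hJq L).inv ≫ Curves.IdealTwist.incl (ptI hq) (up hq L)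
    obtain ⟨Z, hZ, hdrop⟩ := TwistDrop.exists_finite_of_sections k hdim hG hL' j₁ hC₁ a₁
      (fun h => ha (by rwa [← cancel_mono ((upIso hq hJq L).inv ≫ Curves.IdealTwist.incl _ _),
        zero_comp])) t ht
    obtain ⟨p, hp, hpZ⟩ := exists_closed_notMem k hdim hZ
    refine ⟨p, hp, ?_⟩
    have h2 : Curves.Euler.hdim k X (CohB1.tensorMod (up hq F) (ClSub.idealMod (ptI hp))) 0 + 2 =
        Curves.Euler.hdim k X (up hq F) 0 := hdrop p hp hpZ
    omega
  · -- all sections in the line subbundle
    push Not at hall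
    have hs : Function.Surjective (Curves.LES.mapK k j₁ 0) := fun z => by
      let s : Γ(up hq L, ⊤) :=
        (Abelian.monoLift j₁ _ (hall (h0Equiv _ z))).app ⊤ (1 : Γ(X, ⊤))
      refine ⟨(h0Equiv _).symm s, (h0Equiv _).injective ?_⟩
      refine ((ShStab.Descent.Sections.h0Equiv_natural (k := k) j₁ _).trans
        (congrArg (j₁.app ⊤) ((h0Equiv _).apply_symm_apply s))).trans ?_
      exact (congrArg (fun g => g.app ⊤ (1 : Γ(X, ⊤)))
        (Abelian.monoLift_comp j₁ _ (hall (h0Equiv _ z)))).trans (Curves.Clifford.σ_one _ _)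
    have hne : Nontrivial (Coh.HH X (up hq L) 0) := by
      have := Curves.IdealTwist.mono_incl (ptI hq) hL'
      have := (hC.good _ (SlopeLine.line (k := k) hL').1).fin₀
      refine Module.nontrivial_of_finrank_pos (R := k) (lt_of_lt_of_le ?_
        (LinearMap.finrank_le_finrank_of_injective (Curves.LES.mapK_injective_of_mono (A := k)
          ((upIso hq hJq L).inv ≫ Curves.IdealTwist.incl (ptI hq) (up hq L)))))
      change 0 < Curves.Euler.hdim k X L 0
      omega
    obtain ⟨p, hp, hlt⟩ := exists_drop_of_sub k hdim hG hL' j₁ hC₁ hs hne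
    exact ⟨p, hp, lt_of_lt_of_le hlt (hLle.trans hLF)⟩

end Groth.Agent.Lib.CurveBundle.RankTwoVanish
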