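import Groth.Agent.Lib.CurveBundle.RankTwoExt
import Groth.Agent.Lib.CurveBundle.HiggsMax
import Groth.Agent.Lib.CurveFF.OmegaRep

/-!
# Twisted endomorphisms of rank two bundles
-/

set_option autoImplicit false
universe u

open CategoryTheory Limits AlgebraicGeometry Opposite TopologicalSpace

namespace Groth.Agent.Lib.CurveBundle.VeryStable

open Groth.Agent.Lib Degree Slope TensorMod.Basic TensorMod.Dual

variable {k : Type u} [Field k] {X : Scheme.{u}} [X.Over (Spec (CommRingCat.of k))]

/-- The sheaf of differentials of a smooth curve is invertible. -/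
theorem isInvertible_of_iso_omega [IsAlgClosed k] [IsIntegral X]
    [IsProper (X ↘ Spec (CommRingCat.of k))] [Smooth (X ↘ Spec (CommRingCat.of k))]
    (hdim : topologicalKrullDim X = 1) {K : X.Modules}
    (e : K ≅ Omega.sheaf (X ↘ Spec (CommRingCat.of k))) : PicF.IsInvertible K :=
  TensorMod.Invertible.isInvertible_of_iso e.symm
    (CurveFF.OmegaRep.isInvertible (CurveFF.curveHyp_of_smooth k hdim))

variable [hC : CurveCtx k X] {E K : X.Modules} (hE : FlatMod.IsFinLocFreeOfRank 2 E)
  (hK : PicF.IsInvertible K)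

include hC hE hK

/-- A square-zero twisted endomorphism is a map from a line quotient to the twisted line sub. -/
theorem not_veryStable_iff :
    (¬ ∀ α : E ⟶ CohB1.tensorMod E K, α ≫ tmap α (𝟙 K) = 0 → α = 0) ↔
      ∃ (L : X.Modules) (j : L ⟶ E), PicF.IsInvertible L ∧ Mono j ∧ PicF.IsInvertible (cokernel j) ∧
        ∃ β : cokernel j ⟶ CohB1.tensorMod L K, β ≠ 0 := by
  let _ := hC.integral
  have := Twist.isEquivalence hK
  have : (tensorBy K).Additive := Functor.additive_of_preserves_binary_products _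
  obtain ⟨hEc, hET, eE, -⟩ := bundle (k := k) hE
  constructor
  · intro h
    push Not at h
    obtain ⟨α, hα, hα0⟩ := h
    obtain ⟨I, p, j, hp, hj, hpj, hI, hKc, hg, -⟩ := exists_image k α hEc (Twist.isCoh hK hEc)
    have hEK : FlatMod.IsFinLocFreeOfRank 2 (CohB1.tensorMod E K) := by
      simpa using TensorMod.LocFree.rank_tensorMod hE (TensorMod.LocFree.of_isInvertible hK)
    obtain ⟨-, hFT, eF, -⟩ := bundle (k := k) hEK
    have hI0 : gr k I ≠ 0 := fun h0 => hα0 (eq_zero_of_image k p j hpj hI hFT h0)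
    have hker : gr k (kernel α) ≠ 0 := fun h0 => by
      have : Mono α := Preadditive.mono_of_kernel_zero
        ((sub_zero_rank (k := k) (kernel.ι α) hKc hET h0).1.eq_of_src _ _)
      have : Mono (tmap α (𝟙 K)) := inferInstanceAs (Mono ((tensorBy K).map α))
      exact hα0 (by rw [← cancel_mono (tmap α (𝟙 K)), hα, zero_comp])
    have e1 : gr k (kernel α) = 1 := by omega
    have hLb := (sub_bundle (k := k) (kernel.ι α) hKc hET).1
    rw [e1] at hLb
    obtain ⟨hQc, hgQ, -⟩ := cokernel_ses k (kernel.ι α) hKc hEc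
    let q : cokernel (kernel.ι α) ⟶ CohB1.tensorMod E K := Abelian.factorThruCoimage α
    have : Mono q := inferInstanceAs (Mono (Abelian.factorThruCoimage α))
    have hQb := (sub_bundle (k := k) q hQc hFT).1
    rw [show gr k (cokernel (kernel.ι α)) = 1 by omega] at hQb
    let S := ShortComplex.mk (kernel.ι α) (cokernel.π (kernel.ι α)) (cokernel.condition _)
    have hS : S.ShortExact := { exact := ShortComplex.exact_cokernel _ }
    have hmap := isLimitForkMapOfIsLimit' (tensorBy K) (kernel.condition α) (kernelIsKernel α)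
    let γ : E ⟶ CohB1.tensorMod (kernel α) K :=
      hmap.lift (KernelFork.ofι α hα)
    have hγ : γ ≫ tmap (kernel.ι α) (𝟙 K) = α :=
      hmap.fac (KernelFork.ofι α hα) WalkingParallelPair.zero
    have : Mono (tmap (kernel.ι α) (𝟙 K)) := inferInstanceAs (Mono ((tensorBy K).map (kernel.ι α)))
    have hγ0 : kernel.ι α ≫ γ = 0 := by
      rw [← cancel_mono (tmap (kernel.ι α) (𝟙 K)), Category.assoc, hγ, kernel.condition, zero_comp]
    refine ⟨kernel α, kernel.ι α, TensorMod.LocFree.isInvertible_of_rank_one hLb, inferInstance,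
      TensorMod.LocFree.isInvertible_of_rank_one hQb,
      cokernel.desc _ γ hγ0, fun h0 => hα0 ?_⟩
    rw [← hγ, ← cokernel.π_desc (kernel.ι α) γ hγ0, h0, comp_zero, zero_comp]
  · rintro ⟨L, j, hL, _, -, β, hβ⟩ h
    have : Mono (tmap j (𝟙 K)) := inferInstanceAs (Mono ((tensorBy K).map j))
    refine hβ ?_
    have h1 := h (cokernel.π j ≫ β ≫ tmap j (𝟙 K)) ?_
    · rw [← cancel_epi (cokernel.π j), ← cancel_mono (tmap j (𝟙 K))]
      simpa using h1
    · simp only [Category.assoc]
      have : tmap j (𝟙 K) ≫ tmap (cokernel.π j ≫ β ≫ tmap j (𝟙 K)) (𝟙 K) = 0 := by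
        rw [← tmap_comp, cokernel.condition_assoc, zero_comp, Category.id_comp,
          TensorMod.Integral.tmap_zero_left]
      rw [this, comp_zero, comp_zero]

/-- In a very stable bundle a section and a cosection of a line bundle never compose to zero. -/
theorem comp_ne_zero (hvs : ∀ α : E ⟶ CohB1.tensorMod E K, α ≫ tmap α (𝟙 K) = 0 → α = 0)
    {L : X.Modules} (hL : PicF.IsInvertible L) (s : L ⟶ E) (hs : s ≠ 0)
    (t : E ⟶ CohB1.tensorMod L K) (ht : t ≠ 0) : s ≫ t ≠ 0 := by
  intro hst
  have := Twist.isEquivalence hK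
  obtain ⟨hEc, hET, -, -⟩ := bundle (k := k) hE
  obtain ⟨hLc, hLT, eL, -⟩ := SlopeLine.line (k := k) hL
  obtain ⟨I, p, j, hp, hj, hpj, hI, hKc, hg, -⟩ := exists_image k s hLc hEc
  have hI0 : gr k I ≠ 0 := fun h0 => hs (eq_zero_of_image k p j hpj hI hET h0)
  have : Mono s := Preadditive.mono_of_kernel_zero
    ((sub_zero_rank (k := k) (kernel.ι s) hKc hLT (by omega)).1.eq_of_src _ _)
  have : Mono (tmap s (𝟙 K)) := inferInstanceAs (Mono ((tensorBy K).map s))
  refine ht ?_
  rw [← cancel_mono (tmap s (𝟙 K)), zero_comp]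
  refine hvs _ ?_
  have : tmap s (𝟙 K) ≫ tmap (t ≫ tmap s (𝟙 K)) (𝟙 K) = 0 := by
    rw [← tmap_comp, ← Category.assoc, hst, zero_comp, Category.id_comp,
      TensorMod.Integral.tmap_zero_left]
  rw [Category.assoc, this, comp_zero]

end Groth.Agent.Lib.CurveBundle.VeryStable
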