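import Groth.Agent.Lib.CurveBundle.Ctx
import Groth.Agent.Lib.CurveBundle.VeryStable
import Groth.Agent.Lib.CurveBundle.LineQuot
import Groth.Agent.Lib.CurveBundle.H0Twist
import Groth.Agent.Lib.CurveFF.SmoothBC
import Groth.Agent.Lib.ShStab.Descent.Sections

/-!
# Secant divisors of the linear system `K + N`
-/

set_option autoImplicit false
universe u

open CategoryTheory Limits AlgebraicGeometry Opposite TopologicalSpace

namespace Groth.Agent.Lib.CurveBundle.SecantDivisor

open Groth.Agent.Lib Degree Slope TensorMod.Basic TensorMod.Dual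

variable {k : Type u} [Field k] [IsAlgClosed k] {X : Scheme.{u}} [X.Over (Spec (CommRingCat.of k))]
  [IsIntegral X] [IsProper (X ↘ Spec (CommRingCat.of k))] [Smooth (X ↘ Spec (CommRingCat.of k))]
  [hC : CurveCtx k X] {K : X.Modules}

omit [IsAlgClosed k] [IsProper (X ↘ Spec (CommRingCat.of k))]
  [Smooth (X ↘ Spec (CommRingCat.of k))] hC [X.Over (Spec (CommRingCat.of k))] [IsIntegral X] in
/-- An isomorphism twisted by a module. -/
noncomputable def twistIso {A B : X.Modules} (e : A ≅ B) (L : X.Modules) :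
    CohB1.tensorMod A L ≅ CohB1.tensorMod B L where
  hom := tmap e.hom (𝟙 L)
  inv := tmap e.inv (𝟙 L)
  hom_inv_id := by rw [← tmap_comp, Iso.hom_inv_id, Category.comp_id, tmap_id]
  inv_hom_id := by rw [← tmap_comp, Iso.inv_hom_id, Category.comp_id, tmap_id]

/-- Degree and sections of a canonical module. -/
theorem canonical_facts (hdim : topologicalKrullDim X = 1)
    (eK : K ≅ Omega.sheaf (X ↘ Spec (CommRingCat.of k))) :
    PicF.IsInvertible K ∧ Curv2.deg k X K 1 = 2 * (Curv2.genus k X : ℤ) - 2 ∧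
      Module.finrank k (Coh.HH X K 0) = Curv2.genus k X := by
  obtain ⟨h1, h2⟩ := CurveFF.SmoothBC.omega_facts (k := k) hdim
    (Curves.GlobalSections.finrank_h0_structure k X)
  refine ⟨VeryStable.isInvertible_of_iso_omega hdim eK, ?_, ?_⟩
  · rw [Curves.Euler.deg_eq_of_iso eK, h2]
  · exact (Curves.Euler.hdim_eq_of_iso eK 0).trans h1

/-- `h⁰` of a line bundle of degree above `2g - 2`. -/
theorem h0_of_deg (hdim : topologicalKrullDim X = 1) {L : X.Modules} (hL : PicF.IsInvertible L)
    (hd : 2 * (Curv2.genus k X : ℤ) - 2 < Curv2.deg k X L 1) :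
    (Module.finrank k (Coh.HH X L 0) : ℤ) = Curv2.deg k X L 1 + 1 - Curv2.genus k X := by
  have h0 := Curves.GlobalSections.finrank_h0_structure k X
  have := Curves.Clifford.subsingleton_one_of_deg k hdim.le h0 hL hd
  obtain ⟨hLc, -, eL, -⟩ := SlopeLine.line (k := k) hL
  have e1 := (hC.good _ hLc).euler
  have e3 : Curves.Euler.hdim k X L 1 = 0 := Module.finrank_zero_of_subsingleton
  have eO := (hC.good _ (SlopeLine.line (k := k) (PicLoc.isInvertible_structureModule X)).1).euler
  have eO0 : Curves.Euler.hdim k X (Coh.structureModule X) 0 = 1 := h0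
  have eO1 : Curves.Euler.hdim k X (Coh.structureModule X) 1 = Curv2.genus k X := rfl
  have d1 : dg k L = Curv2.euler k X L - (gr k L : ℤ) * Curv2.euler k X (Coh.structureModule X) :=
    rfl
  rw [eL, dg_eq_deg k (TensorMod.LocFree.of_isInvertible hL)] at d1
  change (Curves.Euler.hdim k X L 0 : ℤ) = _
  omega

/-- A secant divisor of `K + N` of full degree is a divisor of `N`. -/
theorem tensor_iso (hdim : topologicalKrullDim X = 1)
    (eK : K ≅ Omega.sheaf (X ↘ Spec (CommRingCat.of k))) {I N : X.Modules}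
    (hI : PicF.IsInvertible I) (hN : PicF.IsInvertible N)
    (hd : Curv2.deg k X I 1 + Curv2.deg k X N 1 = 0)
    (hh : Curv2.genus k X ≤
      Module.finrank k (Coh.HH X (CohB1.tensorMod I (CohB1.tensorMod K N)) 0)) :
    Nonempty (CohB1.tensorMod I N ≅ Coh.structureModule X) := by
  obtain ⟨hK, hKd, -⟩ := canonical_facts hdim eK
  have hKN := TensorMod.Invertible.isInvertible_tensorMod hK hN
  obtain ⟨e⟩ := CurveFF.SmoothBC.iso_omega hdim (Curves.GlobalSections.finrank_h0_structure k X)
    (TensorMod.Invertible.isInvertible_tensorMod hI hKN)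
    (by rw [Curves.Degree.deg_tensor hdim.le hI hKN, Curves.Degree.deg_tensor hdim.le hK hN, hKd]
        omega) hh
  let eD := TensorMod.Invertible.tensorDualIso hK
  let e' : CohB1.tensorMod (CohB1.tensorMod N I) K ≅ CohB1.tensorMod (Coh.structureModule X) K :=
    comm (CohB1.tensorMod N I) K ≪≫ (assoc K N I).symm ≪≫ comm (CohB1.tensorMod K N) I ≪≫
      e ≪≫ eK.symm ≪≫ (leftUnit K).symm
  exact ⟨comm I N ≪≫ (LineQuot.cancel eD).symm ≪≫ twistIso e' (dual K) ≪≫ LineQuot.cancel eD⟩

/-- The section attached to a divisor. -/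
noncomputable def sect {I N : X.Modules} (e : CohB1.tensorMod I N ≅ Coh.structureModule X)
    (f : I ⟶ Coh.structureModule X) : Coh.structureModule X ⟶ N :=
  e.inv ≫ tmap f (𝟙 N) ≫ (leftUnit N).hom

omit [IsAlgClosed k] [IsProper (X ↘ Spec (CommRingCat.of k))]
  [Smooth (X ↘ Spec (CommRingCat.of k))] hC [X.Over (Spec (CommRingCat.of k))] [IsIntegral X] in
lemma sect_injective {I N : X.Modules} (hN : PicF.IsInvertible N)
    (e : CohB1.tensorMod I N ≅ Coh.structureModule X) : Function.Injective (sect e) := fun f g h => by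
  have := Twist.isEquivalence hN
  rw [sect, sect, cancel_epi, cancel_mono] at h
  exact (tensorBy N).map_injective h

omit [IsAlgClosed k] [IsProper (X ↘ Spec (CommRingCat.of k))]
  [Smooth (X ↘ Spec (CommRingCat.of k))] hC [X.Over (Spec (CommRingCat.of k))] [IsIntegral X] in
lemma sect_scal {I N : X.Modules} (e : CohB1.tensorMod I N ≅ Coh.structureModule X)
    (f : I ⟶ Coh.structureModule X) (r : Γ(X, ⊤)) :
    sect e (f ≫ EndAlg.scal _ r) = sect e f ≫ EndAlg.scal _ r := by
  simp only [sect]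
  rw [← Category.comp_id (𝟙 N), tmap_comp, GP.tmap_scal, Category.comp_id]
  simp only [Category.assoc, EndAlg.scal_comm]

include k hC in
omit [IsAlgClosed k] [Smooth (X ↘ Spec (CommRingCat.of k))] in
/-- An invertible ideal is not zero. -/
lemma ne_zero_of_mono {I : X.Modules} (hI : PicF.IsInvertible I) (ι : I ⟶ Coh.structureModule X)
    [Mono ι] : ι ≠ 0 := fun h => by
  have h1 : gr k I = 0 := gr_of_isZero k (IsZero.of_mono_eq_zero ι h)
  rw [(SlopeLine.line (k := k) hI).2.2.1] at h1
  omega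

omit [IsAlgClosed k] [Smooth (X ↘ Spec (CommRingCat.of k))] hC [IsIntegral X]
  [IsProper (X ↘ Spec (CommRingCat.of k))] in
/-- Maps from `O` vanish when there are no sections. -/
lemma hom_eq_zero {N : X.Modules} (h : Subsingleton (Coh.HH X N 0))
    (w : Coh.structureModule X ⟶ N) : w = 0 := by
  have : Subsingleton Γ(N, ⊤) := (Curves.GlobalSections.h0Equiv N).symm.toEquiv.subsingleton
  exact Modules.Free.unitHom_ext (Subsingleton.elim _ _)

/-- Two divisors in the linear system of a module with one section are equal. -/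
theorem eq_of_h0_le_one {I I' N : X.Modules} (hI : PicF.IsInvertible I) (hI' : PicF.IsInvertible I')
    (hN : PicF.IsInvertible N) (ι : I ⟶ Coh.structureModule X) (ι' : I' ⟶ Coh.structureModule X)
    [Mono ι] [Mono ι'] (e : CohB1.tensorMod I N ≅ Coh.structureModule X)
    (e' : CohB1.tensorMod I' N ≅ Coh.structureModule X)
    (h : Module.finrank k (Coh.HH X N 0) ≤ 1) : ∃ φ : I' ≅ I, φ.hom ≫ ι = ι' := by
  have := Twist.isEquivalence hN
  letI := Curves.GlobalSections.secModule k N
  obtain ⟨hNc, -, -, -⟩ := SlopeLine.line (k := k) hN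
  have := (hC.good _ hNc).fin₀
  have hfin : FiniteDimensional k (N.val.obj (op ⊤) : Type u) :=
    Module.Finite.equiv (Curves.GlobalSections.h0Linear k N)
  let ψ : I' ≅ I := (tensorBy N).preimageIso (e' ≪≫ e.symm)
  let f := ψ.hom ≫ ι
  have : Mono f := mono_comp _ _
  have hf : sect e' f ≠ 0 := fun h0 => ne_zero_of_mono (k := k) hI' f
    (sect_injective hN e' (h0.trans (by simp [sect, GP.additive_tensorBy, TensorMod.Integral.tmap_zero_left])))
  have ht : (sect e' f).app ⊤ (1 : Γ(X, ⊤)) ≠ (0 : Γ(N, ⊤)) := fun h0 => hf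
    (Modules.Free.unitHom_ext (h0.trans rfl))
  obtain ⟨v, hv⟩ := (finrank_le_one_iff (K := k) (V := (N.val.obj (op ⊤) : Type u))).mp
    ((Curves.GlobalSections.h0Linear k N).finrank_eq ▸ h)
  let t : (N.val.obj (op ⊤) : Type u) := (sect e' f).app ⊤ (1 : Γ(X, ⊤))
  let t' : (N.val.obj (op ⊤) : Type u) := (sect e' ι').app ⊤ (1 : Γ(X, ⊤))
  obtain ⟨a, ha⟩ := hv t
  obtain ⟨b, hb⟩ := hv t'
  have ha0 : a ≠ 0 := fun h0 => ht (ha.symm.trans ((congrArg (· • v) h0).trans (zero_smul k v)))
  obtain ⟨c, hc⟩ : ∃ c : k, c • t = t' :=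
    ⟨b * a⁻¹, by rw [← hb, ← ha, smul_smul, inv_mul_cancel_right₀ ha0]⟩
  have key : ι' = f ≫ EndAlg.scal _ (EndAlg.cst X k c) := by
    refine sect_injective hN e' (Modules.Free.unitHom_ext ?_)
    rw [sect_scal]
    change t' = (EndAlg.scal N _).app ⊤ t
    rw [EndAlg.scal_app, ← hc]
    change _ = X.presheaf.map (𝟙 (op ⊤)) _ • _
    rw [CategoryTheory.Functor.map_id]
    rfl
  have hc0 : c ≠ 0 := fun h0 => ne_zero_of_mono (k := k) hI' ι' (by
    rw [key, h0, map_zero]
    exact (congrArg (f ≫ ·) (map_zero (EndAlg.scalHom _))).trans comp_zero)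
  have : IsIso (EndAlg.scal I (EndAlg.cst X k c)) :=
    (isUnit_iff_isIso _).mp (((Ne.isUnit hc0).map (EndAlg.cst X k)).map (EndAlg.scalHom I))
  refine ⟨ψ ≪≫ asIso (EndAlg.scal I (EndAlg.cst X k c)), ?_⟩
  rw [key, Iso.trans_hom, asIso_hom, Category.assoc, EndAlg.scal_comm, ← Category.assoc]

end Groth.Agent.Lib.CurveBundle.SecantDivisor
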