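import Groth.Agent.Lib.CurveBundle.Point
import Groth.Agent.Lib.CurveBundle.Extension
import Groth.Agent.Lib.CurveBundle.Slope

/-!
# Sections of semistable bundles

Twists of semistable bundles are semistable, semistable bundles of negative slope have no sections,
and `h⁰ ≤ r · max (⌊μ⌋ + 1) 0`.
-/

set_option autoImplicit false
universe u

open CategoryTheory Limits AlgebraicGeometry TopologicalSpace Opposite

namespace Groth.Agent.Lib.CurveBundle.Sections

open Groth.Agent.Lib Degree Slope TensorMod.Basic TensorMod.Gen TensorMod.Dual TensorMod.Colimit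

variable {k : Type u} [Field k] {X : Scheme.{u}} [X.Over (Spec (CommRingCat.of k))]
  [hC : CurveCtx k X]

include hC

/-- Semistability survives twisting. -/
theorem ss_twist [IsProper (X ↘ Spec (CommRingCat.of k))] {G J : X.Modules}
    (hJ : PicF.IsInvertible J) (hG : Coh.IsCoh G) (h : SS k G) : SS k (CohB1.tensorMod G J) := by
  intro H i _ hH
  let J' := dual J
  have hJ' : PicF.IsInvertible J' := TensorMod.Invertible.isInvertible_dual hJ
  have := Twist.isEquivalence hJ'
  let e : CohB1.tensorMod (CohB1.tensorMod G J) J' ≅ G :=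
    assoc G J J' ≪≫ tensorIso (Iso.refl _) (TensorMod.Invertible.tensorDualIso hJ) ≪≫ rightUnit G
  have : Mono (tmap i (𝟙 J')) := inferInstanceAs (Mono ((tensorBy J').map i))
  have h1 := h _ (tmap i (𝟙 J') ≫ e.hom) (mono_comp _ _) (Twist.isCoh hJ' hH)
  obtain ⟨g1, d1⟩ := Twist.gr_dg_twist k hJ' hH
  obtain ⟨g2, d2⟩ := Twist.gr_dg_twist k hJ' (Twist.isCoh hJ hG)
  obtain ⟨g3, -⟩ := Twist.gr_dg_twist k hJ hG
  rw [gr_congr k e] at g2
  rw [dg_congr k e] at d2
  rw [g1, d1, d2, g2] at h1
  linarith

/-- Semistable bundles of negative slope have no sections. -/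
theorem no_sections [IsProper (X ↘ Spec (CommRingCat.of k))] {G : X.Modules} {r : ℕ} (hr : 0 < r)
    (hG : FlatMod.IsFinLocFreeOfRank r G) (h : SS k G) (hd : dg k G < 0) :
    Subsingleton (Coh.HH X G 0) := by
  let _ := hC.integral
  obtain ⟨hGc, hT, er, -⟩ := bundle (k := k) hG
  obtain ⟨hOc, hOT, eO, -⟩ := bundle (k := k)
    (TensorMod.LocFree.of_isInvertible (PicLoc.isInvertible_structureModule X))
  refine subsingleton_of_forall_eq 0 fun z => by_contra fun hz => ?_
  set s : Γ(G, ⊤) := Curves.GlobalSections.h0Equiv G z with hs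
  obtain ⟨w, hw⟩ := exists_hom_of_family (M := G) (fun W => rs G le_top s)
    fun V W h => rs_rs G le_top h _
  have hw0 : w ≠ 0 := fun h0 => hz ((Curves.GlobalSections.h0Equiv G).injective (by
    rw [map_zero, ← hs]
    have := hw ⊤
    rw [rs_self, h0] at this
    exact this.symm))
  obtain ⟨J, p, j, hp, hj, hpj, hJ, hK, hg, hd'⟩ := exists_image k w hOc hGc
  have hJ0 : 0 < gr k J :=
    Nat.pos_of_ne_zero fun h0 => hw0 (eq_zero_of_image k p j hpj hJ hT h0)
  obtain ⟨-, hK0⟩ := sub_zero_rank (k := k) (kernel.ι w) hK hOT (by omega)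
  have hO : dg k (Coh.structureModule X) = 0 := by
    rw [dg_eq_deg k (TensorMod.LocFree.of_isInvertible (PicLoc.isInvertible_structureModule X))]
    exact Curves.Degree.deg_structureModule
  have hle := h J j hj hJ
  rw [er, show gr k J = 1 by omega, show dg k J = 0 by linarith] at hle
  push_cast at hle
  linarith

/-- `h⁰` of semistable bundles of slope less than `N`. -/
theorem h0_le [IsProper (X ↘ Spec (CommRingCat.of k))] {I : X.IdealSheafData}
    (hI : letI := hC.integral; genericPoint X ∉ (I.support : Set X))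
    (hJ : PicF.IsInvertible (ClSub.idealMod I)) (hJd : dg k (ClSub.idealMod I) = -1) {r : ℕ}
    (hr : 0 < r) : ∀ (N : ℕ) (G : X.Modules), FlatMod.IsFinLocFreeOfRank r G → SS k G →
      dg k G < (N : ℤ) * r → (Curves.Euler.hdim k X G 0 : ℤ) ≤ (r : ℤ) * N := by
  let _ := hC.integral
  intro N
  induction N with
  | zero =>
    intro G hG h hd
    have := no_sections hr hG h (by simpa using hd)
    simp [Curves.Euler.hdim, Module.finrank_zero_of_subsingleton]
  | succ N ih =>
    intro G hG h hd
    have hGc := (bundle (k := k) hG).1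
    obtain ⟨eg, ed⟩ := Twist.gr_dg_twist k hJ hGc
    have hb : FlatMod.IsFinLocFreeOfRank r (CohB1.tensorMod G (ClSub.idealMod I)) := by
      simpa using TensorMod.LocFree.rank_tensorMod hG (TensorMod.LocFree.of_isInvertible hJ)
    rw [(bundle (k := k) hG).2.2.1, hJd] at ed
    push_cast at hd
    have h1 := ih _ hb (ss_twist hJ hGc h) (by linarith)
    have h2 := Point.h0_twist k hI hJ hG
    rw [hJd] at h2
    push_cast
    linarith

end Groth.Agent.Lib.CurveBundle.Sections
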