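import Groth.Agent.Lib.CurveBundle.WeilFiniteOps
import Groth.Agent.Lib.CurveBundle.HomDeg
import Groth.Agent.Lib.Modules.DualAdj
import Groth.Agent.Lib.Cyc.CH.DualMap

/-!
# Duals of tensor products of bundles; the dual of a Weil-finite bundle is Weil finite
-/

set_option autoImplicit false
universe u

open CategoryTheory Limits AlgebraicGeometry

namespace Groth.Agent.Lib.CurveBundle.WeilDual

open Groth.Agent.Lib TensorMod.Basic KrullSchmidt WeilFinite

variable {X : Scheme.{u}}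

/-- `tensorL A ⋙ tensorL B ≅ tensorL (B ⊗ A)`. -/
noncomputable def tensorLComp (A B : X.Modules) :
    Modules.DualAdj.tensorL A ⋙ Modules.DualAdj.tensorL B ≅
      Modules.DualAdj.tensorL (CohB1.tensorMod B A) :=
  NatIso.ofComponents (fun N => (assoc B A N).symm) fun {N N'} f => by
    have h := assoc_natural (𝟙 B) (𝟙 A) f
    rw [tmap_id] at h
    show tmap (𝟙 B) (tmap (𝟙 A) f) ≫ (assoc B A N').inv =
      (assoc B A N).inv ≫ tmap (𝟙 (CohB1.tensorMod B A)) f
    rw [Iso.eq_inv_comp, ← Category.assoc, ← h, Category.assoc, Iso.hom_inv_id, Category.comp_id]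

open Groth.Agent.Lib.TensorMod.Dual (dual) in
/-- The dual of a tensor product of bundles. -/
theorem dual_tensor {A B : X.Modules} (hA : FlatMod.IsFinLocFree A) (hB : FlatMod.IsFinLocFree B) :
    Nonempty (dual (CohB1.tensorMod B A) ≅ CohB1.tensorMod (dual A) (dual B)) := by
  have hab := Modules.DualBasis.hasDBases_of_isFinLocFree
    (TensorMod.LocFree.isFinLocFree_tensorMod hB hA)
  let adj := ((Modules.DualAdj.adjunction (Modules.DualBasis.hasDBases_of_isFinLocFree hB)).comp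
    (Modules.DualAdj.adjunction (Modules.DualBasis.hasDBases_of_isFinLocFree hA))).ofNatIsoRight
      (tensorLComp A B)
  let e := (Adjunction.leftAdjointUniq (Modules.DualAdj.adjunction hab) adj).app
    (Coh.structureModule X)
  exact ⟨(rightUnit _).symm ≪≫ e ≪≫ tensorIso (Iso.refl (dual A)) (rightUnit (dual B))⟩

/-- The dual of a tensor power. -/
theorem dual_pow {E : X.Modules} (hE : FlatMod.IsFinLocFree E) : ∀ n : ℕ,
    Nonempty (RefHull.dual (CohB1.tensorPow E n) ≅ CohB1.tensorPow (RefHull.dual E) n) ∧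
      FlatMod.IsFinLocFree (CohB1.tensorPow E n)
  | 0 => by
    have hO := PicLoc.isInvertible_structureModule X
    exact ⟨⟨RefHull.DualComp.dualIso _ ≪≫ (leftUnit _).symm ≪≫ TensorMod.Invertible.tensorDualIso hO⟩,
      TensorMod.LocFree.of_rank (TensorMod.LocFree.of_isInvertible hO)⟩
  | n + 1 => by
    obtain ⟨⟨e⟩, h⟩ := dual_pow hE n
    obtain ⟨f⟩ := dual_tensor hE h
    exact ⟨⟨RefHull.DualComp.dualIso _ ≪≫ f ≪≫
      tensorIso (RefHull.DualComp.dualIso E).symm (RefHull.DualComp.dualIso _).symm ≪≫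
      comm _ _ ≪≫ tensorIso e (Iso.refl _)⟩, TensorMod.LocFree.isFinLocFree_tensorMod h hE⟩

section functor

open Modules.StalkModule Cyc.CH

variable [IsLocallyNoetherian X]

lemma dualMap_comp {A B C : X.Modules} (hA : Coh.IsCoh A) (f : A ⟶ B) (g : B ⟶ C) :
    dualMap (f ≫ g) = dualMap g ≫ dualMap f := by
  refine hom_ext_stalkMapₗ fun x => LinearMap.ext fun θ => ?_
  refine (RefHull.HomSh.evalStalk_bijective hA x).1 ?_
  rw [stalkMapₗ_comp (dualMap g), LinearMap.comp_apply, evalStalk_dualMap, evalStalk_dualMap,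
    evalStalk_dualMap, LinearMap.comp_assoc, ← stalkMapₗ_comp]

lemma dualMap_id {A : X.Modules} (hA : Coh.IsCoh A) : dualMap (𝟙 A) = 𝟙 (RefHull.dual A) := by
  refine hom_ext_stalkMapₗ fun x => LinearMap.ext fun θ => ?_
  refine (RefHull.HomSh.evalStalk_bijective hA x).1 ?_
  rw [evalStalk_dualMap, stalkMapₗ_id, LinearMap.comp_id, stalkMapₗ_id, LinearMap.id_apply]

lemma dualMap_add {A B : X.Modules} (hA : Coh.IsCoh A) (f g : A ⟶ B) :
    dualMap (f + g) = dualMap f + dualMap g := by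
  refine hom_ext_stalkMapₗ fun x => LinearMap.ext fun θ => ?_
  refine (RefHull.HomSh.evalStalk_bijective hA x).1 ?_
  rw [stalkMapₗ_add (dualMap f), LinearMap.add_apply, map_add, evalStalk_dualMap, evalStalk_dualMap,
    evalStalk_dualMap, stalkMapₗ_add, LinearMap.comp_add]

lemma dualMap_zero {A B : X.Modules} (hA : Coh.IsCoh A) : dualMap (0 : A ⟶ B) = 0 := by
  have h := dualMap_add hA (0 : A ⟶ B) 0
  rw [add_zero] at h
  exact left_eq_add.mp h

/-- Isomorphic coherent modules have isomorphic duals. -/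
noncomputable def dualCongr {A B : X.Modules} (hA : Coh.IsCoh A) (hB : Coh.IsCoh B) (e : A ≅ B) :
    RefHull.dual A ≅ RefHull.dual B where
  hom := dualMap e.inv
  inv := dualMap e.hom
  hom_inv_id := by rw [← dualMap_comp hA, e.hom_inv_id, dualMap_id hA]
  inv_hom_id := by rw [← dualMap_comp hB, e.inv_hom_id, dualMap_id hB]

/-- The dual of a direct sum. -/
noncomputable def dualBiprod {A B : X.Modules} (hA : Coh.IsCoh A) (hB : Coh.IsCoh B)
    (hAB : Coh.IsCoh (A ⊞ B)) : RefHull.dual (A ⊞ B) ≅ RefHull.dual A ⊞ RefHull.dual B where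
  hom := biprod.lift (dualMap biprod.inl) (dualMap biprod.inr)
  inv := biprod.desc (dualMap biprod.fst) (dualMap biprod.snd)
  hom_inv_id := by
    rw [biprod.lift_desc, ← dualMap_comp hAB, ← dualMap_comp hAB, ← dualMap_add hAB, biprod.total,
      dualMap_id hAB]
  inv_hom_id := by
    apply biprod.hom_ext' <;> apply biprod.hom_ext
    · simp [← dualMap_comp hA, dualMap_id hA]
    · simp [← dualMap_comp hB, dualMap_zero hB]
    · simp [← dualMap_comp hA, dualMap_zero hA]
    · simp [← dualMap_comp hB, dualMap_id hB]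

lemma isZero_dual {A : X.Modules} (hA : Coh.IsCoh A) (h : IsZero A) : IsZero (RefHull.dual A) := by
  rw [IsZero.iff_id_eq_zero, ← dualMap_id hA, (IsZero.iff_id_eq_zero A).mp h, dualMap_zero hA]

end functor

variable [HasLocalEnd X] {k : Type u} [Field k] [X.Over (Spec (CommRingCat.of k))]
  [IsProper (X ↘ Spec (CommRingCat.of k))] [hC : Degree.CurveCtx k X]

include hC

lemma rank_of_vb {S : X.Modules} (h : Vb S) :
    FlatMod.IsFinLocFreeOfRank (Degree.gr k S) S := Degree.rank_gr k h.1 h.2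

lemma vb_dual {S : X.Modules} (h : Vb S) : Vb (RefHull.dual S) :=
  vb_of_isFinLocFree (TensorMod.LocFree.of_rank
    (HomDeg.dual_facts (k := k) _ S (rank_of_vb (k := k) h)).1)

lemma bidual_iso {S : X.Modules} (h : Vb S) : Nonempty (S ≅ RefHull.dual (RefHull.dual S)) := by
  have := GenusOneSplit.isIso_bidual h.1 (rank_of_vb (k := k) h)
  exact ⟨asIso (RefHull.bidualMap S)⟩

/-- Duals of indecomposable bundles are indecomposable. -/
lemma isIV_dual {S : X.Modules} (h : IsIV S) : IsIV (RefHull.dual S) := by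
  have hd := vb_dual (k := k) h.1
  obtain ⟨b⟩ := bidual_iso (k := k) h.1
  refine ⟨hd, fun hz => h.2.1 ((isZero_dual hd.1 hz).of_iso b), fun A B ⟨e⟩ => ?_⟩
  have hAB : Vb (A ⊞ B) := hd.of_iso e
  have hA : Vb A := hAB.retract (isRetract_inl A B)
  have hB : Vb B := hAB.retract (isRetract_inr A B)
  obtain ⟨bA⟩ := bidual_iso (k := k) hA
  obtain ⟨bB⟩ := bidual_iso (k := k) hB
  rcases h.2.2 _ _ ⟨b ≪≫ dualCongr hd.1 hAB.1 e ≪≫ dualBiprod hA.1 hB.1 hAB.1⟩ with h0 | h0
  · exact Or.inl ((isZero_dual (vb_dual (k := k) hA).1 h0).of_iso bA)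
  · exact Or.inr ((isZero_dual (vb_dual (k := k) hB).1 h0).of_iso bB)

lemma dual_bsum : ∀ {l : List X.Modules}, (∀ S ∈ l, Vb S) →
    Nonempty (RefHull.dual (bsum l) ≅ bsum (l.map fun S => RefHull.dual S))
  | [], _ => ⟨(isZero_dual (vb_zero isZero_bsum_nil).1 isZero_bsum_nil).iso isZero_bsum_nil⟩
  | a :: l, h => by
    obtain ⟨e⟩ := dual_bsum fun S hS => h S (List.mem_cons_of_mem _ hS)
    exact ⟨dualBiprod (h a (List.mem_cons_self ..)).1
      (vb_bsum fun S hS => h S (List.mem_cons_of_mem _ hS)).1 (vb_bsum h).1 ≪≫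
        biprod.mapIso (Iso.refl _) e⟩

/-- The dual of a Weil-finite bundle is Weil finite. -/
theorem wf_dual {E : X.Modules} (hE : Vb E) (h : WF E) : WF (RefHull.dual E) := by
  classical
  refine wf_of_finite (vb_dual (k := k) hE)
    (((finite_S hE h).image fun c => cls (RefHull.dual c.out)).subset ?_)
  rintro c ⟨n, hc⟩
  obtain ⟨⟨e⟩, -⟩ := dual_pow (HasLocalEnd.locFree hE) n
  obtain ⟨l, hl, ⟨f⟩⟩ := exists_decomposition (vb_pow hE n)
  obtain ⟨g⟩ := dual_bsum (k := k) fun S hS => (hl S hS).1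
  have hl' : ∀ T ∈ l.map (fun S => RefHull.dual S), IsIV T := fun T hT => by
    obtain ⟨S, hS, rfl⟩ := List.mem_map.mp hT
    exact isIV_dual (k := k) (hl S hS)
  have hb : Vb (bsum l) := vb_bsum fun S hS => (hl S hS).1
  rw [dec_eq hl' (e.symm ≪≫ dualCongr (vb_pow hE n).1 hb.1 f ≪≫ g)] at hc
  rw [List.map_map] at hc
  obtain ⟨S, hS, rfl⟩ := List.mem_map.mp (Multiset.mem_coe.mp hc)
  refine ⟨cls S, ⟨n, by
    rw [dec_eq hl f]
    exact Multiset.mem_coe.mpr (List.mem_map_of_mem hS)⟩, ?_⟩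
  obtain ⟨eS⟩ : Nonempty (S ≅ (cls S).out) := Quotient.exact (cls S).out_eq.symm
  exact cls_eq (dualCongr ((hl S hS).1.of_iso eS).1 (hl S hS).1.1 eS.symm)

/-- A bundle is Weil finite iff its dual is. -/
theorem wf_dual_iff {E : X.Modules} (hE : Vb E) : WF E ↔ WF (RefHull.dual E) := by
  refine ⟨wf_dual (k := k) hE, fun h => ?_⟩
  have hd := vb_dual (k := k) hE
  obtain ⟨b⟩ := bidual_iso (k := k) hE
  exact WeilFiniteOps.wf_retract (vb_dual (k := k) hd) (isRetract_of_iso b) (wf_dual (k := k) hd h)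

end Groth.Agent.Lib.CurveBundle.WeilDual
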