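import Groth.Agent.Lib.CurveBundle.KrullSchmidt
import Mathlib.Algebra.Polynomial.Basic
import Mathlib.Algebra.Polynomial.Coeff
import Mathlib.Algebra.Polynomial.Degree.Support
import Mathlib.LinearAlgebra.Dimension.StrongRankCondition
import Mathlib.LinearAlgebra.FreeModule.Finite.Basic

/-!
# Weil-finite bundles are those whose tensor powers have finitely many constituents
-/

set_option autoImplicit false
universe u

open CategoryTheory Limits AlgebraicGeometry

namespace Groth.Agent.Lib.CurveBundle.WeilFinite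

open Groth.Agent.Lib KrullSchmidt

variable {X : Scheme.{u}}

/-- `P(E)`. -/
noncomputable abbrev pol (P : Polynomial ℕ) (E : X.Modules) : X.Modules :=
  ∐ fun i : Fin (P.natDegree + 1) => ∐ fun _ : Fin (P.coeff ↑i) => CohB1.tensorPow E ↑i

/-- Finiteness in the sense of Weil. -/
def WF (E : X.Modules) : Prop := ∃ P Q : Polynomial ℕ, P ≠ Q ∧ Nonempty (pol P E ≅ pol Q E)

variable [HasLocalEnd X]

lemma vb_tensor {M N : X.Modules} (hM : Vb M) (hN : Vb N) : Vb (CohB1.tensorMod M N) :=
  vb_of_isFinLocFree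
    (TensorMod.LocFree.isFinLocFree_tensorMod (HasLocalEnd.locFree hM) (HasLocalEnd.locFree hN))

lemma vb_unit : Vb (Coh.structureModule X) :=
  vb_of_isFinLocFree (TensorMod.LocFree.of_rank
    (TensorMod.LocFree.rank_of_iso (TensorMod.LocFree.freeModOneIso X)
      (TensorMod.LocFree.isFinLocFree_freeMod X 1)))

lemma vb_pow {E : X.Modules} (hE : Vb E) : ∀ n, Vb (CohB1.tensorPow E n)
  | 0 => vb_unit
  | n + 1 => vb_tensor (vb_pow hE n) hE

/-- Splitting off the first summand of a finite coproduct. -/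
noncomputable def sigmaFinSucc {n : ℕ} (f : Fin (n + 1) → X.Modules) :
    ∐ f ≅ f 0 ⊞ ∐ (fun i : Fin n => f i.succ) where
  hom := Sigma.desc (Fin.cases biprod.inl (fun i => Sigma.ι (fun i : Fin n => f i.succ) i ≫ biprod.inr))
  inv := biprod.desc (Sigma.ι f 0) (Sigma.desc fun i => Sigma.ι f i.succ)
  hom_inv_id := Sigma.hom_ext _ _ fun i => by
    cases i using Fin.cases <;> simp
  inv_hom_id := biprod.hom_ext' _ _ (by simp) (by
    refine Sigma.hom_ext _ _ fun i => ?_
    simp)

lemma dec_sigma : ∀ {n : ℕ} (f : Fin n → X.Modules), (∀ i, Vb (f i)) →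
    Vb (∐ f) ∧ dec (∐ f) = ∑ i, dec (f i)
  | 0, f, _ => by
    have h0 : IsZero (∐ f) := by
      rw [IsZero.iff_id_eq_zero]
      exact Sigma.hom_ext _ _ fun i => i.elim0
    exact ⟨vb_zero h0, by rw [dec_zero h0, Finset.univ_eq_empty, Finset.sum_empty]⟩
  | n + 1, f, hf => by
    obtain ⟨h1, h2⟩ := dec_sigma (fun i : Fin n => f i.succ) fun i => hf _
    have hb := (hf 0).biprod h1
    refine ⟨hb.of_iso (sigmaFinSucc f).symm, ?_⟩
    rw [dec_congr (hb.of_iso (sigmaFinSucc f).symm) (sigmaFinSucc f), dec_biprod (hf 0) h1, h2,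
      Fin.sum_univ_succ]

lemma vb_pol {E : X.Modules} (hE : Vb E) (P : Polynomial ℕ) : Vb (pol P E) :=
  (dec_sigma _ fun _ => (dec_sigma _ fun _ => vb_pow hE _).1).1

lemma dec_pol {E : X.Modules} (hE : Vb E) (P : Polynomial ℕ) {N : ℕ} (hN : P.natDegree < N) :
    dec (pol P E) = ∑ i ∈ Finset.range N, P.coeff i • dec (CohB1.tensorPow E i) := by
  have h1 : ∀ i : Fin (P.natDegree + 1), dec (∐ fun _ : Fin (P.coeff ↑i) => CohB1.tensorPow E ↑i) =
      P.coeff i • dec (CohB1.tensorPow E i) := fun i => by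
    rw [(dec_sigma _ fun _ => vb_pow hE _).2, Finset.sum_const, Finset.card_univ, Fintype.card_fin]
  rw [(dec_sigma _ fun _ => (dec_sigma _ fun _ => vb_pow hE _).1).2, Finset.sum_congr rfl fun i _ => h1 i,
    Fin.sum_univ_eq_sum_range (fun i => P.coeff i • dec (CohB1.tensorPow E i))]
  refine Finset.sum_subset (Finset.range_mono hN) fun i _ hi => ?_
  rw [Polynomial.coeff_eq_zero_of_natDegree_lt (by simpa [Nat.lt_succ_iff] using hi), zero_smul]

/-- Indecomposable constituents of a tensor product come from constituents of the factor. -/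
lemma mem_dec_tensor {M N : X.Modules} (hM : Vb M) (hN : Vb N) (c : C X) :
    c ∈ dec (CohB1.tensorMod M N) ↔
      ∃ S : X.Modules, Vb S ∧ cls S ∈ dec M ∧ c ∈ dec (CohB1.tensorMod S N) := by
  constructor
  · obtain ⟨l, hl, ⟨e⟩⟩ := exists_decomposition hM
    intro hc
    rw [dec_congr (vb_tensor hM hN) (TensorMod.Basic.tensorIso e (Iso.refl N))] at hc
    have hd : ∀ S ∈ l, cls S ∈ dec M := fun S hS => by
      rw [dec_eq hl e]
      exact Multiset.mem_coe.mpr (List.mem_map_of_mem hS)
    clear e hM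
    induction l with
    | nil =>
      have h0 : IsZero (CohB1.tensorMod (bsum ([] : List X.Modules)) N) :=
        (TensorMod.Basic.tensorBy N).map_isZero isZero_bsum_nil
      rw [dec_zero h0] at hc
      exact absurd hc (Multiset.notMem_zero _)
    | cons a l ih =>
      have ha : Vb a := (hl a (List.mem_cons_self ..)).1
      have hl' : Vb (bsum l) := vb_bsum fun S hS => (hl S (List.mem_cons_of_mem _ hS)).1
      have := TensorMod.LocFree.preservesFinCoproducts (TensorMod.Basic.tensorBy N) WalkingPair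
      let e : CohB1.tensorMod (bsum (a :: l)) N ≅
          CohB1.tensorMod a N ⊞ CohB1.tensorMod (bsum l) N :=
        (TensorMod.Basic.tensorBy N).mapIso (biprod.isoCoprod a (bsum l)) ≪≫
          (PreservesColimitPair.iso (TensorMod.Basic.tensorBy N) a (bsum l)).symm ≪≫
          (biprod.isoCoprod _ _).symm
      have hv : Vb (CohB1.tensorMod (bsum (a :: l)) N) := vb_tensor (ha.biprod hl') hN
      rw [dec_congr hv e, dec_biprod (vb_tensor ha hN) (vb_tensor hl' hN),
        Multiset.mem_add] at hc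
      rcases hc with hc | hc
      · exact ⟨a, ha, hd a (List.mem_cons_self ..), hc⟩
      · exact ih (fun S hS => hl S (List.mem_cons_of_mem _ hS)) hc
          fun S hS => hd S (List.mem_cons_of_mem _ hS)
  · rintro ⟨S, hS, hSM, hc⟩
    obtain ⟨S', e, -, i, r, hir⟩ := mem_dec hM hSM
    obtain ⟨eS⟩ := Quotient.exact e
    obtain ⟨T, rfl, hT, hTS⟩ := mem_dec (vb_tensor hS hN) hc
    refine cls_mem_dec (vb_tensor hM hN) hT (hTS.trans ?_)
    refine (isRetract_of_iso (TensorMod.Basic.tensorIso eS.symm (Iso.refl N))).trans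
      ⟨TensorMod.Basic.tmap i (𝟙 N), TensorMod.Basic.tmap r (𝟙 N), ?_⟩
    rw [← TensorMod.Basic.tmap_comp, hir, Category.id_comp, TensorMod.Basic.tmap_id]

/-- The indecomposable constituents of the tensor powers. -/
def S (E : X.Modules) : Set (C X) := {c | ∃ n, c ∈ dec (CohB1.tensorPow E n)}

open scoped Classical in
/-- A Weil-finite bundle has finitely many constituents in all its tensor powers. -/
theorem finite_S {E : X.Modules} (hE : Vb E) (h : WF E) : (S E).Finite := by
  obtain ⟨P, Q, hne, ⟨e⟩⟩ := h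
  obtain ⟨N, hNP, hNQ⟩ : ∃ N, P.natDegree < N ∧ Q.natDegree < N :=
    ⟨max P.natDegree Q.natDegree + 1, by omega, by omega⟩
  have heq := dec_congr (vb_pol hE P) e
  rw [dec_pol hE P hNP, dec_pol hE Q hNQ] at heq
  have hnonempty : ((Finset.range N).filter fun i => P.coeff i ≠ Q.coeff i).Nonempty := by
    obtain ⟨i, hi⟩ : ∃ i, P.coeff i ≠ Q.coeff i := not_forall.mp fun h => hne (Polynomial.ext h)
    refine ⟨i, Finset.mem_filter.mpr ⟨Finset.mem_range.mpr ?_, hi⟩⟩
    by_contra hi'
    exact hi (by rw [Polynomial.coeff_eq_zero_of_natDegree_lt (by omega),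
      Polynomial.coeff_eq_zero_of_natDegree_lt (by omega)])
  set d := ((Finset.range N).filter fun i => P.coeff i ≠ Q.coeff i).max' hnonempty with hd
  obtain ⟨hdN, hdne⟩ := Finset.mem_filter.mp (Finset.max'_mem _ hnonempty)
  rw [← hd] at hdN hdne
  let T : Finset (C X) := (Finset.range d).biUnion fun i => (dec (CohB1.tensorPow E i)).toFinset
  have hsub : ∀ c ∈ dec (CohB1.tensorPow E d), c ∈ T := by
    intro c hc
    by_contra hcT
    have hz : ∀ i < d, (dec (CohB1.tensorPow E i)).count c = 0 := fun i hi =>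
      Multiset.count_eq_zero.mpr fun hm => hcT (Finset.mem_biUnion.mpr
        ⟨i, Finset.mem_range.mpr hi, Multiset.mem_toFinset.mpr hm⟩)
    have h1 := congrArg (Multiset.count c) heq
    simp only [Multiset.count_sum', Multiset.count_nsmul] at h1
    rw [← Finset.add_sum_erase _ _ hdN, ← Finset.add_sum_erase _ _ hdN] at h1
    have h2 : ∀ i ∈ (Finset.range N).erase d, P.coeff i * (dec (CohB1.tensorPow E i)).count c =
        Q.coeff i * (dec (CohB1.tensorPow E i)).count c := fun i hi => by
      obtain ⟨hid, hiN⟩ := Finset.mem_erase.mp hi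
      rcases lt_or_gt_of_ne hid with hlt | hgt
      · rw [hz i hlt, mul_zero, mul_zero]
      · have : P.coeff i = Q.coeff i := by
          by_contra hne'
          exact absurd (Finset.le_max' _ _ (Finset.mem_filter.mpr ⟨hiN, hne'⟩)) (not_le.mpr hgt)
        rw [this]
    rw [Finset.sum_congr rfl h2, Nat.add_right_cancel_iff] at h1
    exact hdne (Nat.eq_of_mul_eq_mul_right (Multiset.count_pos.mpr hc) h1)
  have hall : ∀ n, ∀ c ∈ dec (CohB1.tensorPow E n), c ∈ T := by
    intro n
    induction n with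
    | zero =>
      intro c hc
      rcases Nat.eq_zero_or_pos d with h0 | hpos
      · exact hsub c (h0 ▸ hc)
      · exact Finset.mem_biUnion.mpr ⟨0, Finset.mem_range.mpr hpos, Multiset.mem_toFinset.mpr hc⟩
    | succ n ih =>
      intro c hc
      obtain ⟨A, hA, hAn, hcA⟩ := (mem_dec_tensor (vb_pow hE n) hE c).mp hc
      obtain ⟨i, hi, hAi⟩ := Finset.mem_biUnion.mp (ih _ hAn)
      have hc' : c ∈ dec (CohB1.tensorPow E (i + 1)) :=
        (mem_dec_tensor (vb_pow hE i) hE c).mpr ⟨A, hA, Multiset.mem_toFinset.mp hAi, hcA⟩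
      rcases Nat.lt_or_ge (i + 1) d with h' | h'
      · exact Finset.mem_biUnion.mpr ⟨i + 1, Finset.mem_range.mpr h', Multiset.mem_toFinset.mpr hc'⟩
      · have : i + 1 = d := by have := Finset.mem_range.mp hi; omega
        exact hsub c (this ▸ hc')
  exact T.finite_toSet.subset fun c ⟨n, hn⟩ => hall n c hn

open scoped Classical in
/-- A bundle whose tensor powers have finitely many constituents is Weil finite. -/
theorem wf_of_finite {E : X.Modules} (hE : Vb E) (h : (S E).Finite) : WF E := by
  let N := h.toFinset.card + 1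
  let v : Fin N → (h.toFinset → ℤ) := fun i c =>
    ((dec (CohB1.tensorPow E i)).count (c : C X) : ℤ)
  have hdep : ¬ LinearIndependent ℤ v := fun hli => by
    have := hli.fintype_card_le_finrank
    rw [Module.finrank_fintype_fun_eq_card, Fintype.card_fin, Fintype.card_coe] at this
    omega
  obtain ⟨g, hg, i₀, hi₀⟩ := Fintype.not_linearIndependent_iff.mp hdep
  let mk : (Fin N → ℕ) → Polynomial ℕ := fun a => ∑ i : Fin N, Polynomial.monomial (i : ℕ) (a i)
  have hcoeff : ∀ a i, (mk a).coeff (i : Fin N) = a i := fun a i => by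
    rw [Polynomial.finset_sum_coeff, Finset.sum_eq_single i]
    · simp
    · exact fun j _ hj => by
        rw [Polynomial.coeff_monomial, if_neg fun hv => hj (Fin.ext hv)]
    · simp
  have hdeg : ∀ a, (mk a).natDegree < N := fun a => by
    refine Nat.lt_succ_of_le (Polynomial.natDegree_sum_le_of_forall_le _ _ fun i _ => ?_)
    exact (Polynomial.natDegree_monomial_le _).trans (Nat.lt_succ_iff.mp i.2)
  let a := fun i => (g i).toNat
  let b := fun i => (-g i).toNat
  refine ⟨mk a, mk b, fun he => hi₀ ?_, iso_of_dec_eq (vb_pol hE _) (vb_pol hE _) ?_⟩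
  · have h1 : a i₀ = b i₀ := by rw [← hcoeff a i₀, he, hcoeff]
    simp only [a, b] at h1
    omega
  · rw [dec_pol hE _ (hdeg a), dec_pol hE _ (hdeg b), ← Fin.sum_univ_eq_sum_range, ← Fin.sum_univ_eq_sum_range]
    simp only [hcoeff]
    refine Multiset.ext.mpr fun c => ?_
    simp only [Multiset.count_sum', Multiset.count_nsmul]
    by_cases hc : c ∈ S E
    · have h1 := congrFun hg ⟨c, h.mem_toFinset.mpr hc⟩
      simp only [Finset.sum_apply, Pi.smul_apply, smul_eq_mul, Pi.zero_apply, v] at h1
      have h2 : ∀ i, (g i) = (a i : ℤ) - (b i : ℤ) := fun i => by simp only [a, b]; omega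
      simp only [h2, sub_mul, Finset.sum_sub_distrib, sub_eq_zero] at h1
      exact_mod_cast h1
    · have : ∀ n, (dec (CohB1.tensorPow E n)).count c = 0 := fun n =>
        Multiset.count_eq_zero.mpr fun hm => hc ⟨n, hm⟩
      simp [this]

end Groth.Agent.Lib.CurveBundle.WeilFinite
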