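import Groth.Agent.Lib.CurveBundle.WeilFinite
import Groth.Agent.Lib.CurveBundle.Degree
import Groth.Agent.Lib.Curves.TraceDual
import Groth.Agent.Lib.Modules.ProjFormula
import Groth.Agent.S19696

/-!
# Isotrivial bundles are Weil finite in characteristic zero
-/

set_option autoImplicit false
universe u

open CategoryTheory Limits AlgebraicGeometry

namespace Groth.Agent.Lib.CurveBundle.WeilIsotriv

open Groth.Agent.Lib TensorMod.Basic KrullSchmidt WeilFinite

variable {k : Type u} [Field k] {X : Scheme.{u}} [X.Over (Spec (CommRingCat.of k))]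
  [hC : Degree.CurveCtx k X]

/-- The trivialisation of the pullback of a tensor power. -/
lemma exists_pullback_pow {Y : Scheme.{u}} (f : Y ⟶ X) {E : X.Modules} {r : ℕ}
    (e : (Scheme.Modules.pullback f).obj E ≅ FlatMod.freeMod Y r) : ∀ n : ℕ,
    Nonempty ((Scheme.Modules.pullback f).obj (CohB1.tensorPow E n) ≅ FlatMod.freeMod Y (r ^ n))
  | 0 => ⟨PicLoc.pullbackStructureIso f ≪≫ (TensorMod.LocFree.freeModOneIso Y).symm⟩
  | n + 1 => by
    obtain ⟨g⟩ := exists_pullback_pow f e n
    exact ⟨TensorMod.Pullback.pullbackTensorIso f _ _ ≪≫ tensorIso g e ≪≫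
      TensorMod.LocFree.tensorFreeModIso Y _ _ ≪≫ eqToIso (by rw [pow_succ])⟩

include hC in
/-- The structure sheaf is a direct summand of the direct image along a finite étale cover. -/
theorem exists_retract [CharZero k] {Y : Scheme.{u}} (f : Y ⟶ X) [IsFinite f] [Flat f]
    [LocallyOfFinitePresentation f] [Surjective f] :
    ∃ (i : Coh.structureModule X ⟶ (Coh.push f).obj (Coh.structureModule Y))
      (r : (Coh.push f).obj (Coh.structureModule Y) ⟶ Coh.structureModule X), i ≫ r = 𝟙 _ := by
  let _ := hC.integral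
  have := hC.locNoeth
  let A := Curves.TraceDual.alg f
  have hlf : FlatMod.IsFinLocFree A.toModule :=
    TensorMod.LocFree.of_iso (Curves.TraceDual.algPushIso f).symm (H81.PushLocFree.isFinLocFree_push f)
  let d := Degree.gr k A.toModule
  have hA : FlatMod.IsFinLocFreeOfRank d A.toModule :=
    Degree.rank_gr k (Curves.TraceDual.isCoh f) (Coherent.isTorsionFree hlf)
  have hd : 0 < d := by
    obtain ⟨U, hy, ⟨e⟩⟩ := hA (genericPoint X)
    have h1 : f.finrank (genericPoint X) = d := H81.PushLocFree.finrank_eq hy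
      ((Scheme.Modules.restrictFunctor U.ι).mapIso (Curves.TraceDual.algPushIso f).symm ≪≫ e)
    have h2 := (Scheme.Hom.one_le_finrank_iff_surjective (f := f)).mpr ‹_› (genericPoint X)
    simp only [Pi.one_apply] at h2
    omega
  obtain ⟨τ, hτ, -⟩ := H81.FinCovTrace.existsUnique_trace A hlf
  have hu : IsUnit ((d : Γ(X, ⊤))) := by
    have h := ((isUnit_iff_ne_zero.mpr (Nat.cast_ne_zero.mpr hd.ne' : (d : k) ≠ 0)).map
      ((X ↘ Spec (CommRingCat.of k)).appTop.hom.comp
        (Scheme.ΓSpecIso (CommRingCat.of k)).inv.hom))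
    rwa [map_natCast] at h
  have := (Groth.Agent.S19696.result A d hA τ hτ hu).1
  exact ⟨section_ τ ≫ (Curves.TraceDual.algPushIso f).hom,
    (Curves.TraceDual.algPushIso f).inv ≫ τ, by
      rw [Category.assoc, Iso.hom_inv_id_assoc, IsSplitEpi.id]⟩

include hC in
/-- An isotrivial bundle is Weil finite. -/
theorem wf_isotrivial [CharZero k] [HasLocalEnd X] {Y : Scheme.{u}} (f : Y ⟶ X) [IsFinite f] [Flat f]
    [LocallyOfFinitePresentation f] [Surjective f] {r : ℕ} {E : X.Modules} (hE : Vb E)
    (e : (Scheme.Modules.pullback f).obj E ≅ FlatMod.freeMod Y r) : WF E := by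
  classical
  obtain ⟨i, p, hip⟩ := exists_retract (k := k) f
  let P := (Coh.push f).obj (Coh.structureModule Y)
  have hP : Vb P := vb_of_isFinLocFree (H81.PushLocFree.isFinLocFree_push f)
  refine wf_of_finite hE ((dec P).toFinset.finite_toSet.subset ?_)
  rintro c ⟨n, hc⟩
  obtain ⟨g⟩ := exists_pullback_pow f e n
  let N := r ^ n
  have : (TensorMod.Pullback.pf f).Additive := inferInstance
  haveI : PreservesFiniteBiproducts (TensorMod.Pullback.pf f) :=
    Functor.preservesFiniteBiproductsOfAdditive _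
  haveI : PreservesColimitsOfShape (Discrete (Fin N)) (TensorMod.Pullback.pf f) :=
    preservesCoproductsOfShape_of_preservesBiproductsOfShape _
  let q : CohB1.tensorMod (CohB1.tensorPow E n) P ≅ ∐ fun _ : Fin N => P :=
    (Modules.ProjFormula.projIso f (E := CohB1.tensorPow E n)
      (Modules.DualBasis.hasDBases_of_isFinLocFree (HasLocalEnd.locFree (vb_pow hE n)))).app
        (Coh.structureModule Y) ≪≫
      (TensorMod.Pullback.pf f).mapIso (rightUnit _ ≪≫ g) ≪≫
      PreservesCoproduct.iso (TensorMod.Pullback.pf f) _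
  have hq : Vb (∐ fun _ : Fin N => P) := (dec_sigma _ fun _ => hP).1
  have hret : IsRetract (CohB1.tensorPow E n) (∐ fun _ : Fin N => P) :=
    (isRetract_of_iso (rightUnit _).symm).trans (IsRetract.trans
      ⟨tmap (𝟙 _) i, tmap (𝟙 _) p, by rw [← tmap_comp, hip, Category.comp_id, tmap_id]⟩
      (isRetract_of_iso q))
  obtain ⟨T, rfl, hT, hTE⟩ := mem_dec (vb_pow hE n) hc
  have h1 := cls_mem_dec hq hT (hTE.trans hret)
  rw [(dec_sigma _ fun _ => hP).2, Multiset.mem_sum] at h1
  obtain ⟨_, -, h2⟩ := h1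
  exact Multiset.mem_toFinset.mpr h2

end Groth.Agent.Lib.CurveBundle.WeilIsotriv
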