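import Groth.Agent.Lib.CurveBundle.WeilFinite
import Groth.Agent.Lib.CurveBundle.GenusOneSplit
import Groth.Agent.Lib.CurveBundle.H0Crit
import Groth.Agent.Lib.Modules.DualAdj

/-!
# Weil-finite bundles have degree zero and no subbundles of positive degree
-/

set_option autoImplicit false
universe u

open CategoryTheory Limits AlgebraicGeometry

namespace Groth.Agent.Lib.CurveBundle.WeilSlope

open Groth.Agent.Lib Degree Slope TensorMod.Basic KrullSchmidt

variable {k : Type u} [Field k] {X : Scheme.{u}} [X.Over (Spec (CommRingCat.of k))]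
  [IsProper (X ↘ Spec (CommRingCat.of k))] [hC : CurveCtx k X]

include hC

/-- The degree of a tensor product. -/
theorem tensor_facts {q : ℕ} {F : X.Modules} (hF : FlatMod.IsFinLocFreeOfRank q F) :
    ∀ (n : ℕ) (Q : X.Modules), FlatMod.IsFinLocFreeOfRank n Q →
      FlatMod.IsFinLocFreeOfRank (q * n) (CohB1.tensorMod F Q) ∧
        dg k (CohB1.tensorMod F Q) = (q : ℤ) * dg k Q + (n : ℤ) * dg k F := by
  let _ := hC.integral
  have := hC.locNoeth
  have hT := Modules.DualBasis.hasDBases_of_isFinLocFree (TensorMod.LocFree.of_rank hF)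
  haveI := Modules.DualAdj.tensorL_preservesHomology hT
  haveI := Functor.preservesFiniteLimits_of_preservesHomology (Modules.DualAdj.tensorL F)
  haveI := Functor.preservesFiniteColimits_of_preservesHomology (Modules.DualAdj.tensorL F)
  intro n
  induction n with
  | zero =>
    intro Q hQ
    have hr := TensorMod.LocFree.rank_tensorMod hF hQ
    obtain ⟨hc, hQT, e, -⟩ := bundle (k := k) hQ
    obtain ⟨hc2, hT2, e2, -⟩ := bundle (k := k) hr
    refine ⟨hr, ?_⟩
    rw [dg_of_isZero k (isZero_of_gr k hc2 hT2 (by rw [e2, mul_zero])) hc2,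
      dg_of_isZero k (isZero_of_gr k hc hQT e) hc]
    simp
  | succ n ih =>
    intro Q hQ
    obtain ⟨L, i, hi, hL, -, hQ'⟩ := H0Crit.exists_max_line (k := k) hQ
    obtain ⟨hFc, -, eF, -⟩ := bundle (k := k) hF
    obtain ⟨hc, -, -, -⟩ := bundle (k := k) hQ
    obtain ⟨hLc, -, -, -⟩ := SlopeLine.line (k := k) hL
    obtain ⟨hc', -, -, -⟩ := bundle (k := k) hQ'
    have hS : (ShortComplex.mk i (cokernel.π i) (cokernel.condition i)).ShortExact :=
      { exact := ShortComplex.exact_cokernel i }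
    have hT' : ((ShortComplex.mk i (cokernel.π i) (cokernel.condition i)).map
        (Modules.DualAdj.tensorL F)).ShortExact := hS.map_of_exact _
    obtain ⟨hb1, hd1⟩ := ih _ hQ'
    have hr := TensorMod.LocFree.rank_tensorMod hF hQ
    obtain ⟨hrc, -, -, -⟩ := bundle (k := k) hr
    obtain ⟨hb1c, -, -, -⟩ := bundle (k := k) hb1
    obtain ⟨g0, d0⟩ := Twist.gr_dg_twist k hL hFc
    refine ⟨hr, ?_⟩
    have h := dg_add k hT'
    have a3 := dg_add k hS hLc hc hc'
    dsimp only at a3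
    have a1 : dg k (CohB1.tensorMod F Q) =
        dg k (CohB1.tensorMod F L) + dg k (CohB1.tensorMod F (cokernel i)) :=
      h (Twist.isCoh hL hFc) hrc hb1c
    rw [a1, hd1, d0, a3, eF]
    push_cast
    ring

/-- Degrees of tensor powers. -/
theorem pow_facts {r : ℕ} {E : X.Modules} (hE : FlatMod.IsFinLocFreeOfRank r E) : ∀ n : ℕ,
    FlatMod.IsFinLocFreeOfRank (r ^ n) (CohB1.tensorPow E n) ∧
      dg k (CohB1.tensorPow E n) * (r : ℤ) = (n : ℤ) * dg k E * (r : ℤ) ^ n
  | 0 => ⟨TensorMod.LocFree.of_isInvertible (PicLoc.isInvertible_structureModule X), by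
      rw [show dg k (CohB1.tensorPow E 0) = 0 from H0Crit.dg_structure (k := k)]; simp⟩
  | n + 1 => by
    obtain ⟨h1, h2⟩ := pow_facts hE n
    obtain ⟨h3, h4⟩ := tensor_facts (k := k) h1 r E hE
    refine ⟨by rw [pow_succ]; exact h3, ?_⟩
    show dg k (CohB1.tensorMod (CohB1.tensorPow E n) E) * _ = _
    rw [h4, add_mul, mul_assoc (r : ℤ) (dg k (CohB1.tensorPow E n)), h2]
    push_cast
    ring

omit hC [IsProper (X ↘ Spec (CommRingCat.of k))] in
lemma pow_locFree {E : X.Modules} (hE : FlatMod.IsFinLocFree E) :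
    ∀ m, FlatMod.IsFinLocFree (CohB1.tensorPow E m)
  | 0 => TensorMod.LocFree.of_rank
      (TensorMod.LocFree.of_isInvertible (PicLoc.isInvertible_structureModule X))
  | m + 1 => TensorMod.LocFree.isFinLocFree_tensorMod (pow_locFree hE m) hE

omit hC [IsProper (X ↘ Spec (CommRingCat.of k))] in
/-- Tensor powers of a monomorphism of bundles are monomorphisms. -/
theorem exists_mono_pow {F E : X.Modules} (hF : FlatMod.IsFinLocFree F)
    (hE : FlatMod.IsFinLocFree E) (i : F ⟶ E) [Mono i] : ∀ n : ℕ,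
    ∃ j : CohB1.tensorPow F n ⟶ CohB1.tensorPow E n, Mono j
  | 0 => ⟨𝟙 _, inferInstanceAs (Mono (𝟙 (Coh.structureModule X)))⟩
  | n + 1 => by
    obtain ⟨j, hj⟩ := exists_mono_pow hF hE i n
    have := Modules.DualBasis.mono_tmap
      (Modules.DualBasis.hasDBases_of_isFinLocFree hF) j
    have := Modules.DualBasis.mono_tmap
      (Modules.DualBasis.hasDBases_of_isFinLocFree (pow_locFree hE n)) i
    let c₁ : CohB1.tensorMod (CohB1.tensorPow F n) F ⟶ CohB1.tensorMod (CohB1.tensorPow E n) F :=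
      (comm (CohB1.tensorPow F n) F).hom ≫ tmap (𝟙 F) j ≫ (comm F (CohB1.tensorPow E n)).hom
    have : Mono c₁ := by
      have h1 : IsIso (comm (CohB1.tensorPow F n) F).hom := Iso.isIso_hom _
      have h2 : IsIso (comm F (CohB1.tensorPow E n)).hom := Iso.isIso_hom _
      exact mono_comp _ _
    exact ⟨c₁ ≫ tmap (𝟙 (CohB1.tensorPow E n)) i,
      (mono_comp c₁ (tmap (𝟙 (CohB1.tensorPow E n)) i) :)⟩

variable (k) in
/-- Degrees of a sheaf and of its subsheaves are bounded by a multiple of the rank. -/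
def Bdd (C : ℕ) (M : X.Modules) : Prop :=
  (-(C : ℤ) * (gr k M : ℤ) ≤ dg k M) ∧
    ∀ (G : X.Modules) (i : G ⟶ M), Mono i → Coh.IsCoh G → dg k G ≤ (C : ℤ) * (gr k G : ℤ)

lemma bdd_mono {C C' : ℕ} (h : C ≤ C') {M : X.Modules} (hM : Bdd k C M) : Bdd k C' M := by
  have h' : (C : ℤ) ≤ C' := by exact_mod_cast h
  refine ⟨le_trans ?_ hM.1, fun G i hi hG => (hM.2 G i hi hG).trans ?_⟩
  · nlinarith [Int.natCast_nonneg (gr k M)]
  · exact mul_le_mul_of_nonneg_right h' (Int.natCast_nonneg _)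

lemma bdd_congr {C : ℕ} {M N : X.Modules} (e : M ≅ N) (hM : Bdd k C M) : Bdd k C N := by
  refine ⟨by rw [← gr_congr k e, ← dg_congr k e]; exact hM.1, fun G i _ hG => ?_⟩
  exact hM.2 G (i ≫ e.inv) inferInstance hG

lemma bdd_exists {M : X.Modules} (hM : Vb M) : ∃ C : ℕ, Bdd k C M := by
  let _ := hC.integral
  obtain ⟨N, hN⟩ := exists_bound k hM.1
  refine ⟨N.natAbs + (dg k M).natAbs, ?_, fun G i hi hG => ?_⟩
  · rcases Nat.eq_zero_or_pos (gr k M) with h0 | hpos
    · rw [dg_of_isZero k (isZero_of_gr k hM.1 hM.2 h0) hM.1, h0]; simp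
    · have : (1 : ℤ) ≤ gr k M := by exact_mod_cast hpos
      push_cast
      nlinarith [neg_abs_le (dg k M), abs_nonneg (dg k M), abs_nonneg N]
  · rcases Nat.eq_zero_or_pos (gr k G) with h0 | hpos
    · rw [dg_of_isZero k (isZero_of_gr k hG (Rank.isTorsionFree_of_mono i hM.2) h0) hG, h0]; simp
    · have : (1 : ℤ) ≤ gr k G := by exact_mod_cast hpos
      have := hN G i hi hG
      push_cast
      nlinarith [le_abs_self N, abs_nonneg (dg k M), abs_nonneg N]

lemma bdd_isZero (C : ℕ) {M : X.Modules} (h : IsZero M) (hM : Coh.IsCoh M) : Bdd k C M := by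
  refine ⟨by rw [dg_of_isZero k h hM, gr_of_isZero k h]; simp, fun G i _ hG => ?_⟩
  have hz : IsZero G := h.of_mono i
  rw [dg_of_isZero k hz hG, gr_of_isZero k hz]; simp

lemma bdd_biprod {C : ℕ} {a b : X.Modules} (ha : Vb a) (hb : Vb b) (hA : Bdd k C a)
    (hB : Bdd k C b) : Bdd k C (a ⊞ b) := by
  have hab : Coh.IsCoh (a ⊞ b) := (ha.biprod hb).1
  refine ⟨?_, fun G i _ hG => ?_⟩
  · obtain ⟨-, hg, hd⟩ := cokernel_ses k (biprod.inl : a ⟶ a ⊞ b) ha.1 hab
    have e := cokernel.π (biprod.inl : a ⟶ a ⊞ b)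
    let eq : cokernel (biprod.inl : a ⟶ a ⊞ b) ≅ b :=
      { hom := cokernel.desc _ biprod.snd biprod.inl_snd
        inv := biprod.inr ≫ cokernel.π _
        hom_inv_id := by
          refine coequalizer.hom_ext ?_
          rw [cokernel.π_desc_assoc, Category.comp_id]
          have h1 : biprod.snd ≫ biprod.inr = 𝟙 (a ⊞ b) - biprod.fst ≫ biprod.inl :=
            eq_sub_of_add_eq' biprod.total
          rw [reassoc_of% h1, Preadditive.sub_comp, Category.assoc, cokernel.condition, comp_zero,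
            sub_zero, Category.id_comp]
        inv_hom_id := by simp }
    rw [dg_congr k eq] at hd
    rw [gr_congr k eq] at hg
    rw [hd, hg]
    push_cast
    linarith [hA.1, hB.1]
  · obtain ⟨I, p, j, -, _, -, hI, hK, hg, hd⟩ := exists_image k (i ≫ biprod.snd) hG hb.1
    let m : kernel (i ≫ biprod.snd) ⟶ a := kernel.ι _ ≫ i ≫ biprod.fst
    have hm : m ≫ biprod.inl = kernel.ι (i ≫ biprod.snd) ≫ i := by
      apply biprod.hom_ext
      · simp [m]
      · simp [m, kernel.condition]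
    have : Mono m := by
      have : Mono (m ≫ (biprod.inl : a ⟶ a ⊞ b)) := by rw [hm]; infer_instance
      exact mono_of_mono m (biprod.inl : a ⟶ a ⊞ b)
    have h1 := hA.2 _ m inferInstance hK
    have h2 := hB.2 _ j inferInstance hI
    rw [hd, hg]
    push_cast
    linarith

lemma bdd_bsum {C : ℕ} : ∀ {l : List X.Modules}, (∀ S ∈ l, Vb S ∧ Bdd k C S) →
    Bdd k C (bsum l)
  | [], _ => bdd_isZero C isZero_bsum_nil (vb_zero isZero_bsum_nil).1
  | a :: l, h => bdd_biprod (h a (List.mem_cons_self ..)).1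
      (vb_bsum fun S hS => (h S (List.mem_cons_of_mem _ hS)).1)
      (h a (List.mem_cons_self ..)).2 (bdd_bsum fun S hS => h S (List.mem_cons_of_mem _ hS))

/-- The degrees of subsheaves of all tensor powers are uniformly bounded by the rank. -/
theorem exists_bdd_pow [HasLocalEnd X] {E : X.Modules} (hE : Vb E) (h : WeilFinite.WF E) :
    ∃ C : ℕ, ∀ n, Bdd k C (CohB1.tensorPow E n) := by
  classical
  have hfin := WeilFinite.finite_S hE h
  choose Cf hCf using fun (M : {M : X.Modules // Vb M}) => bdd_exists (k := k) M.2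
  let f : C X → ℕ := fun c => if hc : Vb c.out then Cf ⟨c.out, hc⟩ else 0
  refine ⟨hfin.toFinset.sup f, fun n => ?_⟩
  obtain ⟨l, hl, ⟨e⟩⟩ := exists_decomposition (WeilFinite.vb_pow hE n)
  refine bdd_congr e.symm (bdd_bsum fun S hS => ⟨(hl S hS).1, ?_⟩)
  have hc : cls S ∈ WeilFinite.S E := ⟨n, by
    rw [dec_eq hl e]
    exact Multiset.mem_coe.mpr (List.mem_map_of_mem hS)⟩
  obtain ⟨eS⟩ : Nonempty (S ≅ (cls S).out) := Quotient.exact (cls S).out_eq.symm
  have hv : Vb (cls S).out := (hl S hS).1.of_iso eS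
  refine bdd_congr eS.symm (bdd_mono ?_ (hCf ⟨_, hv⟩))
  have : f (cls S) = Cf ⟨_, hv⟩ := dif_pos hv
  rw [← this]
  exact Finset.le_sup (hfin.mem_toFinset.mpr hc)

/-- A Weil-finite bundle has degree zero and no subbundle of positive degree. -/
theorem dg_eq_zero_and_sub_le [HasLocalEnd X] {r : ℕ} (hr : 0 < r) {E : X.Modules}
    (hE : FlatMod.IsFinLocFreeOfRank r E) (h : WeilFinite.WF E) :
    dg k E = 0 ∧ ∀ (F : X.Modules) (r' : ℕ) (i : F ⟶ E), Mono i → 0 < r' →
      FlatMod.IsFinLocFreeOfRank r' F → dg k F ≤ 0 := by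
  let _ := hC.integral
  obtain ⟨C, hC'⟩ := exists_bdd_pow (k := k)
    (vb_of_isFinLocFree (TensorMod.LocFree.of_rank hE)) h
  have key : ∀ (r' : ℕ), 0 < r' → ∀ d : ℤ,
      (∀ n : ℕ, (n : ℤ) * d * (r' : ℤ) ^ n ≤ (C : ℤ) * (r' : ℤ) ^ n * (r' : ℤ)) → d ≤ 0 := by
    intro r' hr' d hd
    by_contra hpos
    have hr0 : (0 : ℤ) < (r' : ℤ) := by exact_mod_cast hr'
    have h1 := hd (C * r' + 1)
    have h2 : (((C * r' + 1 : ℕ) : ℤ)) * d ≤ (C : ℤ) * (r' : ℤ) := by
      refine le_of_mul_le_mul_right ?_ (pow_pos hr0 (C * r' + 1))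
      linarith
    push_cast at h2
    nlinarith [mul_nonneg (Int.natCast_nonneg C) hr0.le]
  have hsub : ∀ (F : X.Modules) (r' : ℕ) (i : F ⟶ E), Mono i → 0 < r' →
      FlatMod.IsFinLocFreeOfRank r' F → dg k F ≤ 0 := fun F r' i _ hr' hF => by
    refine key r' hr' _ fun n => ?_
    obtain ⟨j, hj⟩ := exists_mono_pow (TensorMod.LocFree.of_rank hF)
      (TensorMod.LocFree.of_rank hE) i n
    obtain ⟨hb, hd⟩ := pow_facts (k := k) hF n
    obtain ⟨hbc, -, eb, -⟩ := bundle (k := k) hb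
    have h1 := (hC' n).2 _ j hj hbc
    rw [← hd]
    have : (gr k (CohB1.tensorPow F n) : ℤ) = (r' : ℤ) ^ n := by rw [eb]; push_cast; rfl
    rw [this] at h1
    exact mul_le_mul_of_nonneg_right h1 (Int.natCast_nonneg _)
  refine ⟨le_antisymm (hsub E r (𝟙 E) inferInstance hr hE) ?_, hsub⟩
  refine neg_nonpos.mp (key r hr _ fun n => ?_)
  obtain ⟨hb, hd⟩ := pow_facts (k := k) hE n
  obtain ⟨-, -, eb, -⟩ := bundle (k := k) hb
  have h1 := (hC' n).1
  have : (gr k (CohB1.tensorPow E n) : ℤ) = (r : ℤ) ^ n := by rw [eb]; push_cast; rfl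
  rw [this] at h1
  have h2 := mul_le_mul_of_nonneg_right h1 (Int.natCast_nonneg r)
  linarith

end Groth.Agent.Lib.CurveBundle.WeilSlope
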